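/-
Tensor products of two quadratic spaces in odd characteristic: contractions, tensor isometries and the
subgroups of `Ω` above the tensor stabiliser.
-/
import Cfsg.Agent.Lib.ClassicalMax.KronTools
import Cfsg.Agent.Lib.ClassicalMax.QuadSim
import Cfsg.Agent.Lib.PrimeGraph.OrthOddBridge
set_option autoImplicit false
set_option linter.unusedSectionVars false
set_option linter.unusedVariables false

namespace CfsgLib.ClassicalMax.OTens

open Matrix Cfsg.Geo QuadraticMap Module
open CfsgLib.Classical.Quad (NDPolar Orth siegel siegelGroup)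
open CfsgLib.ClassicalMax.Kron

variable {F : Type*} [Field F] [Fintype F] [DecidableEq F] {a b : ℕ}

/-! ### Quadratic spaces -/

section Quad

variable {ι : Type} [Fintype ι] [DecidableEq ι] {Q : QuadraticForm F (ι → F)}

lemma polarBilin_nondeg (hnd : NDPolar Q) : (polarBilin Q).Nondegenerate :=
  ⟨fun x h => hnd x h, fun y h => hnd y fun x => by rw [polar_comm]; exact h x⟩

lemma eq_zero_of_polar (hnd : NDPolar Q) {x : ι → F} (h : ∀ y, polar Q y x = 0) : x = 0 :=
  hnd x fun y => by rw [polar_comm]; exact h y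

lemma exists_hyp (hnd : NDPolar Q) {u : ι → F} (hu : Q u = 0) (hu0 : u ≠ 0) :
    ∃ u', Q u' = 0 ∧ polar Q u u' = 1 := by
  obtain ⟨x, hx⟩ := Classical.Quad.exists_polar_one hnd hu0
  refine ⟨x + (-(Q x)) • u, ?_, ?_⟩
  · rw [Classical.Quad.Q_comb1, hu, polar_comm Q x u, hx]; ring
  · simp [Classical.Quad.polar_singular_self hu, hx]

/-- A non-zero singular vector orthogonal to two given vectors. -/
lemma exists_singular_perp (h2 : (2 : F) ≠ 0) (x y : ι → F) (hn : 5 ≤ Fintype.card ι) :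
    ∃ z, Q z = 0 ∧ z ≠ 0 ∧ polar Q x z = 0 ∧ polar Q y z = 0 := by
  have h := QuadSim.finrank_perpOf (Q := Q) (Submodule.span F {x, y})
  have := QuadSim.finrank_span_two_le x y
  obtain ⟨z, hz, hz0, hQz⟩ := OmS.exists_singular_of_three (Q := Q) h2
    (S := QuadSim.perpOf Q (Submodule.span F {x, y})) (by omega)
  exact ⟨z, hQz, hz0, by rw [polar_comm]; exact QuadSim.mem_perpOf.1 hz x (Submodule.subset_span (by simp)),
    by rw [polar_comm]; exact QuadSim.mem_perpOf.1 hz y (Submodule.subset_span (by simp))⟩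

/-- A non-singular vector orthogonal to a hyperbolic pair. -/
lemma exists_nonsingular_perp_pair (hnd : NDPolar Q) (hn : 3 ≤ Fintype.card ι) {u u' : ι → F}
    (hu : Q u = 0) (hu' : Q u' = 0) (huu : polar Q u u' = 1) :
    ∃ r, polar Q r u = 0 ∧ polar Q r u' = 0 ∧ Q r ≠ 0 := by
  by_contra hcon
  push Not at hcon
  let Φ : (ι → F) →ₗ[F] F × F := LinearMap.prod ((polarBilin Q).flip u) ((polarBilin Q).flip u')
  obtain ⟨z, hz, hz0⟩ := Submodule.exists_mem_ne_zero_of_ne_bot
    (LinearMap.ker_ne_bot_of_finrank_lt (f := Φ) (by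
      rw [finrank_prod, finrank_self, finrank_fintype_fun_eq_card]; omega))
  have hz1 : polar Q z u = 0 := congrArg Prod.fst hz
  have hz2 : polar Q z u' = 0 := congrArg Prod.snd hz
  refine hz0 (hnd z fun y => ?_)
  set y₁ := y - polar Q y u' • u - polar Q y u • u' with hy₁
  have m1 : polar Q y₁ u = 0 := by
    simp [hy₁, Classical.Quad.polar_singular_self hu, polar_comm Q u' u, huu]
  have m2 : polar Q y₁ u' = 0 := by
    simp [hy₁, Classical.Quad.polar_singular_self hu', huu]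
  have h4 : polar Q z y₁ = 0 := by
    rw [polar, hcon (z + y₁) (by simp [hz1, m1]) (by simp [hz2, m2]), hcon z hz1 hz2, hcon y₁ m1 m2]
    simp
  simpa [hy₁, hz1, hz2] using h4

/-- The Siegel group is transitive on singular lines. -/
lemma exists_move (hnd : NDPolar Q) (h2 : (2 : F) ≠ 0) (hn : 3 ≤ Fintype.card ι) {v v' : ι → F}
    (hv : Q v = 0) (hv0 : v ≠ 0) (hv' : Q v' = 0) (hv'0 : v' ≠ 0) :
    ∃ g ∈ siegelGroup Q, ∃ c : F, c ≠ 0 ∧ g.1 v = c • v' := by
  by_cases hp : ∃ c : F, c • v' = v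
  · obtain ⟨c, hc⟩ := hp
    refine ⟨1, Subgroup.one_mem _, c, fun h => hv0 (by rw [← hc, h, zero_smul]), ?_⟩
    rw [hc]; rfl
  push Not at hp
  by_cases ho : polar Q v v' = 0
  · obtain ⟨g, hg, hgv⟩ := Classical.Quad.siegelGroup_move_orth hnd hv hv' hv'0 hp ho
    exact ⟨g, hg, 1, one_ne_zero, by rw [hgv, one_smul]⟩
  set c := polar Q v v' with hc
  set u' := c⁻¹ • v' with hu'def
  have hu' : Q u' = 0 := by rw [hu'def, QuadraticMap.map_smul, hv', smul_zero]
  have huv : polar Q v u' = 1 := by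
    rw [hu'def, polar_smul_right, smul_eq_mul, ← hc, inv_mul_cancel₀ ho]
  obtain ⟨r, hrv, hru, hQr⟩ := exists_nonsingular_perp_pair hnd hn hv hu' huv
  have hv1 := Classical.Quad.polar_singular_self hv
  have hu1 := Classical.Quad.polar_singular_self hu'
  have hw' : polar Q v ((-(Q r)⁻¹) • r) = 0 := by
    rw [polar_smul_right, polar_comm, hrv, smul_zero]
  have hw : polar Q u' r = 0 := by rw [polar_comm, hru]
  refine ⟨(siegel Q v _ hv hw')⁻¹ * siegel Q u' r hu' hw, Subgroup.mul_mem _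
    (Subgroup.inv_mem _ (Classical.Quad.siegel_mem hv hw')) (Classical.Quad.siegel_mem hu' hw),
    -(Q r) * c⁻¹, mul_ne_zero (neg_ne_zero.2 hQr) (inv_ne_zero ho), ?_⟩
  rw [mul_smul, ← hu'def, Classical.Quad.mul_apply]
  refine (congrArg _ ?_).trans (Classical.Quad.inv_apply_self (siegel Q v _ hv hw') _)
  simp only [map_smul, Classical.Quad.siegel_apply, huv, polar_comm Q u' v, polar_comm Q v r, hrv,
    polar_smul_right, polar_comm Q u' r, hru, QuadraticMap.map_smul, smul_eq_mul]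
  match_scalars <;> field_simp <;> ring

/-- An invertible matrix from a linear equivalence. -/
def glOf (e : (ι → F) ≃ₗ[F] (ι → F)) : GL ι F where
  val := LinearMap.toMatrix' (e : (ι → F) →ₗ[F] (ι → F))
  inv := LinearMap.toMatrix' (e.symm : (ι → F) →ₗ[F] (ι → F))
  val_inv := by rw [← LinearMap.toMatrix'_comp]; simp
  inv_val := by rw [← LinearMap.toMatrix'_comp]; simp

lemma glOf_mulVec (e : (ι → F) ≃ₗ[F] (ι → F)) (x : ι → F) :
    (glOf e : Matrix ι ι F) *ᵥ x = e x := by
  show LinearMap.toMatrix' (e : (ι → F) →ₗ[F] (ι → F)) *ᵥ x = _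
  rw [LinearMap.toMatrix'_mulVec]; rfl

end Quad

/-! ### The tensor product space -/

/-- Two quadratic spaces with the quadratic form on their tensor product. -/
structure Space (F : Type*) [Field F] (a b : ℕ) where
  Q1 : QuadraticForm F (Fin a → F)
  Q2 : QuadraticForm F (Fin b → F)
  Q : QuadraticForm F (Fin a × Fin b → F)
  nd1 : NDPolar Q1
  nd2 : NDPolar Q2
  nd : NDPolar Q
  two : (2 : F) ≠ 0
  ha : 3 ≤ a
  hb : 4 ≤ b
  /-- In dimension four the second space has no singular plane and the field is not tiny. -/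
  small : b = 4 → 5 ≤ Nat.card F ∧
    ∀ v w, Q2 v = 0 → Q2 w = 0 → polar Q2 v w = 0 → v ≠ 0 → ∃ c : F, c • v = w
  lt : a < b
  polar_pt : ∀ x x' y y', polar Q (pt x y) (pt x' y') = polar Q1 x x' * polar Q2 y y'

variable (S : Space F a b)

lemma Space.five_le_card (S : Space F a b) (h : b = 4) : 5 ≤ Fintype.card F := by
  simpa [Nat.card_eq_fintype_card] using (S.small h).1

/-- The tensor with a given first factor. -/
def ptL (x : Fin a → F) : (Fin b → F) →ₗ[F] (Fin a × Fin b → F) where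
  toFun w := pt x w
  map_add' := pt_add_right x
  map_smul' t w := pt_smul_right t x w

@[simp] lemma ptL_apply (x : Fin a → F) (w : Fin b → F) : ptL x w = pt x w := rfl

/-- Contraction of the second factor by the form. -/
noncomputable def Space.ct : (Fin b → F) →ₗ[F] (Fin a × Fin b → F) →ₗ[F] (Fin a → F) :=
  LinearMap.mk₂ F (fun φ z i => polar S.Q2 φ fun j => z (i, j))
    (fun φ ψ z => funext fun i => polar_add_left _ _ _ _)
    (fun c φ z => funext fun i => polar_smul_left _ _ _ _)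
    (fun φ z z' => funext fun i => polar_add_right _ _ (fun j => z (i, j)) (fun j => z' (i, j)))
    (fun c φ z => funext fun i => polar_smul_right _ _ _ (fun j => z (i, j)))

/-- Contraction of the first factor by the form. -/
noncomputable def Space.lc : (Fin a → F) →ₗ[F] (Fin a × Fin b → F) →ₗ[F] (Fin b → F) :=
  LinearMap.mk₂ F (fun η z j => polar S.Q1 η fun i => z (i, j))
    (fun φ ψ z => funext fun j => polar_add_left _ _ _ _)
    (fun c φ z => funext fun j => polar_smul_left _ _ _ _)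
    (fun φ z z' => funext fun j => polar_add_right _ _ (fun i => z (i, j)) (fun i => z' (i, j)))
    (fun c φ z => funext fun j => polar_smul_right _ _ _ (fun i => z (i, j)))

namespace Space

lemma ct_pt (φ : Fin b → F) (x : Fin a → F) (w : Fin b → F) :
    S.ct φ (pt x w) = polar S.Q2 φ w • x := by
  funext i
  show polar S.Q2 φ (fun j => x i * w j) = polar S.Q2 φ w * x i
  rw [show (fun j => x i * w j) = x i • w from rfl, polar_smul_right, smul_eq_mul, mul_comm]

lemma lc_pt (η : Fin a → F) (x : Fin a → F) (w : Fin b → F) :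
    S.lc η (pt x w) = polar S.Q1 η x • w := by
  funext j
  show polar S.Q1 η (fun i => x i * w j) = polar S.Q1 η x * w j
  rw [show (fun i => x i * w j) = w j • x from funext fun i => mul_comm _ _, polar_smul_right,
    smul_eq_mul, mul_comm]

lemma polar_pt_left (x : Fin a → F) (φ : Fin b → F) (z : Fin a × Fin b → F) :
    polar S.Q (pt x φ) z = polar S.Q1 x (S.ct φ z) := by
  have := linear_ext (f := polarBilin S.Q (pt x φ)) (g := polarBilin S.Q1 x ∘ₗ S.ct φ) fun y w => by
    simp [S.polar_pt, S.ct_pt, mul_comm]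
  exact LinearMap.congr_fun this z

lemma polar_pt_left' (η : Fin a → F) (y : Fin b → F) (z : Fin a × Fin b → F) :
    polar S.Q (pt η y) z = polar S.Q2 y (S.lc η z) := by
  have := linear_ext (f := polarBilin S.Q (pt η y)) (g := polarBilin S.Q2 y ∘ₗ S.lc η) fun x w => by
    simp [S.polar_pt, S.lc_pt]
  exact LinearMap.congr_fun this z

lemma polar_pt_right (x : Fin a → F) (φ : Fin b → F) (z : Fin a × Fin b → F) :
    polar S.Q z (pt x φ) = polar S.Q1 (S.ct φ z) x := by
  rw [polar_comm, polar_pt_left, polar_comm]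

lemma Q_pt (x : Fin a → F) (y : Fin b → F) : S.Q (pt x y) = 2 * S.Q1 x * S.Q2 y := by
  have h := S.polar_pt x x y y
  rw [Classical.Quad.polar_self', Classical.Quad.polar_self', Classical.Quad.polar_self'] at h
  exact mul_left_cancel₀ S.two (h.trans (by ring))

lemma ext_ct {z : Fin a × Fin b → F} (h : ∀ φ, S.ct φ z = 0) : z = 0 := by
  refine S.nd z fun w => ?_
  have := linear_ext (f := polarBilin S.Q z) (g := 0) fun x φ => by
    simp [S.polar_pt_right, h]
  exact LinearMap.congr_fun this w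

lemma eq_of_ct {z z' : Fin a × Fin b → F} (h : ∀ φ, S.ct φ z = S.ct φ z') : z = z' :=
  sub_eq_zero.1 (S.ext_ct fun φ => by rw [map_sub, h, sub_self])

/-- A tensor killed by all contractions orthogonal to `v` lies on the line of `v`. -/
lemma eq_pt {v w₀ : Fin b → F} (h1 : polar S.Q2 v w₀ = 1) {z : Fin a × Fin b → F}
    (h : ∀ φ, polar S.Q2 v φ = 0 → S.ct φ z = 0) : z = pt (S.ct w₀ z) v := by
  refine S.eq_of_ct fun φ => ?_
  have h' := h (φ - polar S.Q2 v φ • w₀) (by simp [h1])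
  rw [map_sub, map_smul, LinearMap.sub_apply, LinearMap.smul_apply, sub_eq_zero] at h'
  rw [h', S.ct_pt, polar_comm (⇑S.Q2) φ v]

end Space

/-! ### Tensor isometries -/

/-- The element is a pure Kronecker product. -/
def InH (g : GL (Fin a × Fin b) F) : Prop := ∃ A B, g = kronGL A B

lemma InH.mul {g h : GL (Fin a × Fin b) F} (hg : InH g) (hh : InH h) : InH (g * h) := by
  obtain ⟨A, B, rfl⟩ := hg
  obtain ⟨A', B', rfl⟩ := hh
  exact ⟨A * A', B * B', kronGL_mul A A' B B'⟩

lemma InH.inv {g : GL (Fin a × Fin b) F} (hg : InH g) : InH g⁻¹ := by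
  obtain ⟨A, B, rfl⟩ := hg
  exact ⟨A⁻¹, B⁻¹, kronGL_inv A B⟩

lemma InH.one : InH (1 : GL (Fin a × Fin b) F) := ⟨1, 1, kronGL_one.symm⟩

lemma InH.cancel_left {g h : GL (Fin a × Fin b) F} (hh : InH h) (hg : InH (h * g)) : InH g := by
  simpa using hh.inv.mul hg

lemma InH.cancel_right {g h : GL (Fin a × Fin b) F} (hh : InH h) (hg : InH (g * h)) : InH g := by
  simpa using hg.mul hh.inv

lemma mem_iso {ι : Type} [Fintype ι] [DecidableEq ι] {Q : QuadraticForm F (ι → F)} {g : GL ι F}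
    (h2 : (2 : F) ≠ 0) (h : ∀ x y, polar Q ((g : Matrix ι ι F) *ᵥ x) ((g : Matrix ι ι F) *ᵥ y) =
      polar Q x y) : g ∈ Cfsg.isometryGroup F ⇑Q := fun x _ => by
  refine mul_left_cancel₀ h2 ?_
  rw [← Classical.Quad.polar_self', ← Classical.Quad.polar_self']
  exact h x x

lemma iso_polar {ι : Type} [Fintype ι] [DecidableEq ι] {Q : QuadraticForm F (ι → F)} {g : GL ι F}
    (hg : g ∈ Cfsg.isometryGroup F ⇑Q) (x y : ι → F) :
    polar Q ((g : Matrix ι ι F) *ᵥ x) ((g : Matrix ι ι F) *ᵥ y) = polar Q x y := by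
  have hQ : ∀ z, Q ((g : Matrix ι ι F) *ᵥ z) = Q z := fun z => hg z z
  simp only [polar, ← mulVec_add, hQ]

namespace Space

lemma kron_mem_iso {A : GL (Fin a) F} {B : GL (Fin b) F} {μ ν : F} (hμν : μ * ν = 1)
    (hA : ∀ x x', polar S.Q1 ((A : Matrix (Fin a) (Fin a) F) *ᵥ x)
      ((A : Matrix (Fin a) (Fin a) F) *ᵥ x') = μ * polar S.Q1 x x')
    (hB : ∀ y y', polar S.Q2 ((B : Matrix (Fin b) (Fin b) F) *ᵥ y)
      ((B : Matrix (Fin b) (Fin b) F) *ᵥ y') = ν * polar S.Q2 y y') :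
    kronGL A B ∈ Cfsg.isometryGroup F ⇑S.Q := by
  refine mem_iso S.two fun z z' => ?_
  let K := Matrix.toLin' (kronGL A B : Matrix (Fin a × Fin b) (Fin a × Fin b) F)
  have h1 : ∀ x y, polarBilin S.Q (K (pt x y)) ∘ₗ K = polarBilin S.Q (pt x y) := fun x y =>
    linear_ext fun x' y' => by
      simp only [K, LinearMap.comp_apply, Matrix.toLin'_apply, kronGL_pt, polarBilin_apply_apply,
        S.polar_pt, hA, hB]
      linear_combination (polar S.Q1 x x' * polar S.Q2 y y') * hμν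
  have h2 := linear_ext (f := (polarBilin S.Q).flip (K z') ∘ₗ K) (g := (polarBilin S.Q).flip z')
    fun x y => LinearMap.congr_fun (h1 x y) z'
  simpa [K, Matrix.toLin'_apply] using LinearMap.congr_fun h2 z

lemma sq_mem {g : GL (Fin a × Fin b) F} (hg : g ∈ Cfsg.isometryGroup F ⇑S.Q) :
    g * g ∈ omegaGL ⇑S.Q := by
  refine ⟨(⟨g, hg⟩ : Cfsg.isometryGroup F ⇑S.Q) ^ 2, PrimeGraph.sq_mem_Omega S.two
    (polarBilin_nondeg S.nd) ?_ _, by simp [pow_two]⟩
  rw [Fintype.card_prod, Fintype.card_fin, Fintype.card_fin]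
  have := S.ha; have := S.hb
  nlinarith

/-- An isometry of the first space acting on the tensor product. -/
noncomputable def k1 : Orth S.Q1 →* GL (Fin a × Fin b) F where
  toFun g := kronGL (glOf g.1) 1
  map_one' := gl_ext_pt fun x y => by simp [kronGL_pt, glOf_mulVec]
  map_mul' g h := gl_ext_pt fun x y => by
    simp [← mulVec_mulVec, kronGL_pt, glOf_mulVec]

/-- An isometry of the second space acting on the tensor product. -/
noncomputable def k2 : Orth S.Q2 →* GL (Fin a × Fin b) F where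
  toFun g := kronGL 1 (glOf g.1)
  map_one' := gl_ext_pt fun x y => by simp [kronGL_pt, glOf_mulVec]
  map_mul' g h := gl_ext_pt fun x y => by
    simp [← mulVec_mulVec, kronGL_pt, glOf_mulVec]

lemma k1_pt (g : Orth S.Q1) (x : Fin a → F) (y : Fin b → F) :
    (S.k1 g : Matrix (Fin a × Fin b) (Fin a × Fin b) F) *ᵥ pt x y = pt (g.1 x) y := by
  show ((kronGL (glOf g.1) (1 : GL (Fin b) F) : GL (Fin a × Fin b) F) : Matrix (Fin a × Fin b) (Fin a × Fin b) F) *ᵥ pt x y = _
  rw [kronGL_pt, glOf_mulVec, Units.val_one, one_mulVec]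

lemma k2_pt (g : Orth S.Q2) (x : Fin a → F) (y : Fin b → F) :
    (S.k2 g : Matrix (Fin a × Fin b) (Fin a × Fin b) F) *ᵥ pt x y = pt x (g.1 y) := by
  show ((kronGL (1 : GL (Fin a) F) (glOf g.1) : GL (Fin a × Fin b) F) : Matrix (Fin a × Fin b) (Fin a × Fin b) F) *ᵥ pt x y = _
  rw [kronGL_pt, glOf_mulVec, Units.val_one, one_mulVec]

lemma inH_k1 (g : Orth S.Q1) : InH (S.k1 g) := ⟨_, _, rfl⟩

lemma inH_k2 (g : Orth S.Q2) : InH (S.k2 g) := ⟨_, _, rfl⟩

lemma k1_iso (g : Orth S.Q1) : S.k1 g ∈ Cfsg.isometryGroup F ⇑S.Q :=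
  S.kron_mem_iso (mul_one 1) (fun x x' => by rw [glOf_mulVec, glOf_mulVec, Classical.Quad.orth_polar, one_mul])
    fun y y' => by rw [Units.val_one, one_mulVec, one_mulVec, one_mul]

lemma k2_iso (g : Orth S.Q2) : S.k2 g ∈ Cfsg.isometryGroup F ⇑S.Q :=
  S.kron_mem_iso (mul_one 1) (fun x x' => by rw [Units.val_one, one_mulVec, one_mulVec, one_mul])
    fun y y' => by rw [glOf_mulVec, glOf_mulVec, Classical.Quad.orth_polar, one_mul]

lemma ct_k1 (g : Orth S.Q1) (φ : Fin b → F) (z : Fin a × Fin b → F) :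
    S.ct φ ((S.k1 g : Matrix (Fin a × Fin b) (Fin a × Fin b) F) *ᵥ z) = g.1 (S.ct φ z) := by
  have := linear_ext (f := S.ct φ ∘ₗ Matrix.toLin' (S.k1 g : Matrix (Fin a × Fin b) (Fin a × Fin b) F))
    (g := (g.1 : (Fin a → F) →ₗ[F] (Fin a → F)) ∘ₗ S.ct φ) fun x y => by
      simp [Matrix.toLin'_apply, S.k1_pt, S.ct_pt]
  simpa [Matrix.toLin'_apply] using LinearMap.congr_fun this z

lemma ct_k2 (g : Orth S.Q2) (φ : Fin b → F) (z : Fin a × Fin b → F) :
    S.ct (g.1 φ) ((S.k2 g : Matrix (Fin a × Fin b) (Fin a × Fin b) F) *ᵥ z) = S.ct φ z := by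
  have := linear_ext (f := S.ct (g.1 φ) ∘ₗ Matrix.toLin' (S.k2 g : Matrix (Fin a × Fin b) (Fin a × Fin b) F))
    (g := S.ct φ) fun x y => by
      simp [Matrix.toLin'_apply, S.k2_pt, S.ct_pt, Classical.Quad.orth_polar]
  simpa [Matrix.toLin'_apply] using LinearMap.congr_fun this z

/-- A Siegel transformation of the second factor on an arbitrary tensor. -/
lemma k2_siegel {v w : Fin b → F} (hv : S.Q2 v = 0) (hw : polar S.Q2 v w = 0)
    (z : Fin a × Fin b → F) :
    (S.k2 (siegel S.Q2 v w hv hw) : Matrix (Fin a × Fin b) (Fin a × Fin b) F) *ᵥ z =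
      z + pt (S.ct v z) w - pt (S.ct w z + S.Q2 w • S.ct v z) v := by
  have := linear_ext
    (f := Matrix.toLin' (S.k2 (siegel S.Q2 v w hv hw) : Matrix (Fin a × Fin b) (Fin a × Fin b) F))
    (g := LinearMap.id + ptR w ∘ₗ S.ct v - ptR v ∘ₗ (S.ct w + S.Q2 w • S.ct v)) fun x y => by
      simp [Matrix.toLin'_apply, S.k2_pt, S.ct_pt, Classical.Quad.siegel_apply, pt_add_right,
        pt_smul_right, pt_add_left, pt_smul_left, polar_comm (⇑S.Q2) v y, polar_comm (⇑S.Q2) w y]
      module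
  simpa [Matrix.toLin'_apply] using LinearMap.congr_fun this z

end Space

/-- A subgroup of `Ω` containing all tensor elements of `Ω`. -/
structure Hyp (S : Space F a b) (M : Subgroup (GL (Fin a × Fin b) F)) : Prop where
  le : M ≤ omegaGL ⇑S.Q
  mem : ∀ g, InH g → g ∈ omegaGL ⇑S.Q → g ∈ M

variable {S} {M : Subgroup (GL (Fin a × Fin b) F)} (H : Hyp S M)
include H

lemma Hyp.iso {g : GL (Fin a × Fin b) F} (hg : g ∈ M) : g ∈ Cfsg.isometryGroup F ⇑S.Q :=
  Subgroup.map_subtype_le _ (H.le hg)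

lemma Hyp.polar {g : GL (Fin a × Fin b) F} (hg : g ∈ M) (x y : Fin a × Fin b → F) :
    QuadraticMap.polar S.Q ((g : Matrix (Fin a × Fin b) (Fin a × Fin b) F) *ᵥ x)
      ((g : Matrix (Fin a × Fin b) (Fin a × Fin b) F) *ᵥ y) = QuadraticMap.polar S.Q x y :=
  iso_polar (H.iso hg) x y

lemma Hyp.k1_mem {g : Orth S.Q1} (hg : g ∈ siegelGroup S.Q1) : S.k1 g ∈ M := by
  refine (Subgroup.closure_le (M.comap S.k1)).2 ?_ hg
  rintro _ ⟨u, w, hu, hw, rfl⟩
  have hh : QuadraticMap.polar S.Q1 u ((2 : F)⁻¹ • w) = 0 := by rw [polar_smul_right, hw, smul_zero]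
  refine H.mem _ (S.inH_k1 _) ?_
  have h : siegel S.Q1 u w hu hw = siegel S.Q1 u _ hu hh * siegel S.Q1 u _ hu hh := by
    rw [Classical.Quad.siegel_mul]
    refine Classical.Quad.siegel_congr _ _ _ _ rfl ?_
    rw [← add_smul, ← two_mul, mul_inv_cancel₀ S.two, one_smul]
  rw [h, map_mul]
  exact S.sq_mem (S.k1_iso _)

lemma Hyp.k2_mem {g : Orth S.Q2} (hg : g ∈ siegelGroup S.Q2) : S.k2 g ∈ M := by
  refine (Subgroup.closure_le (M.comap S.k2)).2 ?_ hg
  rintro _ ⟨u, w, hu, hw, rfl⟩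
  have hh : QuadraticMap.polar S.Q2 u ((2 : F)⁻¹ • w) = 0 := by rw [polar_smul_right, hw, smul_zero]
  refine H.mem _ (S.inH_k2 _) ?_
  have h : siegel S.Q2 u w hu hw = siegel S.Q2 u _ hu hh * siegel S.Q2 u _ hu hh := by
    rw [Classical.Quad.siegel_mul]
    refine Classical.Quad.siegel_congr _ _ _ _ rfl ?_
    rw [← add_smul, ← two_mul, mul_inv_cancel₀ S.two, one_smul]
  rw [h, map_mul]
  exact S.sq_mem (S.k2_iso _)

lemma Hyp.z_mem {v w : Fin b → F} (hv : S.Q2 v = 0) (hw : QuadraticMap.polar S.Q2 v w = 0) :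
    S.k2 (siegel S.Q2 v w hv hw) ∈ M := H.k2_mem (Classical.Quad.siegel_mem hv hw)

lemma Hyp.t_mem {u w : Fin a → F} (hu : S.Q1 u = 0) (hw : QuadraticMap.polar S.Q1 u w = 0) :
    S.k1 (siegel S.Q1 u w hu hw) ∈ M := H.k1_mem (Classical.Quad.siegel_mem hu hw)

end CfsgLib.ClassicalMax.OTens
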