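/-
A root element with centre on a tensor line that is not a tensor gives all root groups.
-/
import Cfsg.Agent.Lib.ClassicalMax.OrthTensorMax.Base
set_option autoImplicit false
set_option linter.unusedSectionVars false
set_option linter.unusedVariables false
set_option linter.unusedSimpArgs false

namespace CfsgLib.ClassicalMax.OTens

open Matrix Cfsg.Geo QuadraticMap Module
open CfsgLib.Classical.Quad (NDPolar Orth siegel siegelGroup)
open CfsgLib.ClassicalMax.Kron

variable {F : Type*} [Field F] [Fintype F] [DecidableEq F] {a b : ℕ}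

/-! ### Skew maps of rank two -/

section Wed

variable {V : Type*} [AddCommGroup V] [Module F V] (Q : QuadraticForm F V)

/-- The skew map of a pair. -/
noncomputable def wed (x y : V) : V →ₗ[F] V :=
  ((polarBilin Q).flip x).smulRight y - ((polarBilin Q).flip y).smulRight x

lemma wed_apply (x y z : V) : wed Q x y z = polar Q z x • y - polar Q z y • x := rfl

lemma wed_skew (x y z z' : V) : polar Q (wed Q x y z) z' = - polar Q z (wed Q x y z') := by
  simp [wed_apply, polar_comm Q z' x, polar_comm Q z' y]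
  ring

/-- A skew map acts on pairs by derivation. -/
lemma br_wed {X : V →ₗ[F] V} (hX : ∀ z z', polar Q (X z) z' = - polar Q z (X z')) (x y : V) :
    X ∘ₗ wed Q x y - wed Q x y ∘ₗ X = wed Q (X x) y + wed Q x (X y) := by
  refine LinearMap.ext fun z => ?_
  simp [wed_apply, hX]
  module

lemma eq_of_wed_eq_zero {u u' r : V} (h : polar Q u u' = 1) (h0 : wed Q u r = 0) :
    r = polar Q u' r • u := by
  have := LinearMap.congr_fun h0 u'
  rw [wed_apply, polar_comm Q u' u, h, one_smul, LinearMap.zero_apply, sub_eq_zero] at this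
  exact this

end Wed

variable {S : Space F a b} {M : Subgroup (GL (Fin a × Fin b) F)}

/-- The elements of `M` that are trivial on the orthogonal of the line of `v`. -/
def Zs (S : Space F a b) (M : Subgroup (GL (Fin a × Fin b) F)) (v : Fin b → F) :
    Set ((Fin a → F) →ₗ[F] (Fin a → F)) :=
  {C | (∀ x y, QuadraticMap.polar S.Q1 (C x) y = - QuadraticMap.polar S.Q1 x (C y)) ∧
    ∃ g ∈ M, ∀ z, (g : Matrix (Fin a × Fin b) (Fin a × Fin b) F) *ᵥ z = z + pt (C (S.ct v z)) v}

section Algebra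

variable {v : Fin b → F} (hv : S.Q2 v = 0)
include hv

lemma Zs.zero : (0 : (Fin a → F) →ₗ[F] (Fin a → F)) ∈ Zs S M v :=
  ⟨fun x y => by simp, 1, M.one_mem, fun z => by simp [pt_zero_left]⟩

lemma Zs.add {C C' : (Fin a → F) →ₗ[F] (Fin a → F)} (h : C ∈ Zs S M v) (h' : C' ∈ Zs S M v) :
    C + C' ∈ Zs S M v := by
  obtain ⟨hs, g, hg, hgz⟩ := h
  obtain ⟨hs', g', hg', hgz'⟩ := h'
  refine ⟨fun x y => by simp [hs, hs']; ring, g * g', M.mul_mem hg hg', fun z => ?_⟩
  rw [gl_mulVec_mul, hgz', hgz, map_add, S.ct_pt, Classical.Quad.polar_singular_self hv, zero_smul,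
    add_zero, LinearMap.add_apply, pt_add_left]
  abel

lemma Zs.neg {C : (Fin a → F) →ₗ[F] (Fin a → F)} (h : C ∈ Zs S M v) : -C ∈ Zs S M v := by
  obtain ⟨hs, g, hg, hgz⟩ := h
  refine ⟨fun x y => by simp [hs], g⁻¹, M.inv_mem hg, fun z => gl_mulVec_injective g ?_⟩
  show _ *ᵥ _ = _ *ᵥ _
  rw [gl_mulVec_inv_mulVec, hgz, map_add, S.ct_pt, Classical.Quad.polar_singular_self hv, zero_smul,
    add_zero, LinearMap.neg_apply, ← neg_one_smul F (C (S.ct v z)), pt_smul_left]
  module

lemma Zs.sub {C C' : (Fin a → F) →ₗ[F] (Fin a → F)} (h : C ∈ Zs S M v) (h' : C' ∈ Zs S M v) :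
    C - C' ∈ Zs S M v := by rw [sub_eq_add_neg]; exact Zs.add hv h (Zs.neg hv h')

/-- The multiples that all occur. -/
def Lin (M : Subgroup (GL (Fin a × Fin b) F)) : Submodule F ((Fin a → F) →ₗ[F] (Fin a → F)) where
  carrier := {C | ∀ t : F, t • C ∈ Zs S M v}
  zero_mem' t := by rw [smul_zero]; exact Zs.zero hv
  add_mem' h h' t := by rw [smul_add]; exact Zs.add hv (h t) (h' t)
  smul_mem' c C h t := by rw [smul_smul]; exact h _

lemma bracket_mem (H : Hyp S M) {C : (Fin a → F) →ₗ[F] (Fin a → F)} (h : C ∈ Zs S M v)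
    {u w : Fin a → F} (hu : S.Q1 u = 0) (hw : QuadraticMap.polar S.Q1 u w = 0) :
    wed S.Q1 u w ∘ₗ C - C ∘ₗ wed S.Q1 u w ∈ Lin (S := S) hv M := by
  intro t
  have hconj : ∀ s : F, ∃ C', C' ∈ Zs S M v ∧ ∀ x, C' x =
      (siegel S.Q1 u (s • w) hu (by rw [polar_smul_right, hw, smul_zero])).1
        (C ((siegel S.Q1 u (s • w) hu (by rw [polar_smul_right, hw, smul_zero]))⁻¹.1 x)) := by
    intro s
    set T := siegel S.Q1 u (s • w) hu (by rw [polar_smul_right, hw, smul_zero])
    obtain ⟨hs, g, hg, hgz⟩ := h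
    refine ⟨(T.1 : (Fin a → F) →ₗ[F] (Fin a → F)) ∘ₗ C ∘ₗ (T⁻¹.1 : (Fin a → F) →ₗ[F] (Fin a → F)),
      ⟨fun x y => ?_, S.k1 T * g * (S.k1 T)⁻¹, M.mul_mem (M.mul_mem (H.t_mem _ _) hg)
        (M.inv_mem (H.t_mem _ _)), fun z => ?_⟩, fun x => rfl⟩
    · show QuadraticMap.polar S.Q1 (T.1 (C (T⁻¹.1 x))) y = - QuadraticMap.polar S.Q1 x (T.1 (C (T⁻¹.1 y)))
      have e1 := Classical.Quad.orth_polar T (C (T⁻¹.1 x)) (T⁻¹.1 y)
      have e2 := Classical.Quad.orth_polar T (T⁻¹.1 x) (C (T⁻¹.1 y))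
      rw [Classical.Quad.self_apply_inv] at e1 e2
      rw [e1, e2, hs]
    · rw [gl_mulVec_mul, gl_mulVec_mul, hgz, mulVec_add, gl_mulVec_inv_mulVec, S.k1_pt, ← map_inv,
        S.ct_k1]
      rfl
  obtain ⟨C₁, hC₁, e1⟩ := hconj ((2 : F)⁻¹ * t)
  obtain ⟨C₂, hC₂, e2⟩ := hconj (-((2 : F)⁻¹ * t))
  have hdiff := Zs.sub hv hC₁ hC₂
  convert hdiff using 1
  refine LinearMap.ext fun x => ?_
  have hCuu : QuadraticMap.polar S.Q1 (C u) u = 0 := by
    have h' := h.1 u u
    rw [polar_comm (⇑S.Q1) u (C u)] at h'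
    exact (mul_eq_zero.1 (by linear_combination h' : (2 : F) * QuadraticMap.polar S.Q1 (C u) u = 0)).resolve_left S.two
  have hCuw : QuadraticMap.polar S.Q1 (C u) w = - QuadraticMap.polar S.Q1 (C w) u := by
    rw [h.1, polar_comm (⇑S.Q1) u (C w)]
  simp only [LinearMap.smul_apply, LinearMap.sub_apply, LinearMap.comp_apply, e1, e2,
    Classical.Quad.siegel_inv, Classical.Quad.siegel_apply, wed_apply, polar_smul_right,
    polar_neg_right, polar_smul_left, polar_add_left, polar_sub_left, QuadraticMap.map_neg,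
    QuadraticMap.map_smul, map_add, map_sub, map_smul, map_neg, smul_eq_mul, hCuu, hCuw, smul_neg,
    mul_neg, neg_mul, neg_neg, neg_smul, mul_zero, add_zero, zero_add]
  match_scalars <;> field_simp [S.two] <;> ring

end Algebra

section Main

variable (H : Hyp S M) (hplane : ∀ u r : Fin a → F, S.Q1 u = 0 → S.Q1 r = 0 →
  QuadraticMap.polar S.Q1 u r = 0 → u ≠ 0 → (∀ c : F, c • u ≠ r) → 5 ≤ a)

include H

omit H in
lemma exists_nonsingular_orth_pair {u u' : Fin a → F} (hu : S.Q1 u = 0) (hu' : S.Q1 u' = 0)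
    (huu : QuadraticMap.polar S.Q1 u u' = 1) :
    ∃ w, QuadraticMap.polar S.Q1 u w = 0 ∧ QuadraticMap.polar S.Q1 u' w = 0 ∧ S.Q1 w ≠ 0 := by
  have := S.ha
  by_contra hcon
  push Not at hcon
  set D := Submodule.span F {u, u'}
  have hmem : ∀ z ∈ QuadSim.perpOf S.Q1 D, S.Q1 z = 0 := fun z hz => hcon z
    (by rw [polar_comm]; exact QuadSim.mem_perpOf.1 hz u (Submodule.subset_span (by simp)))
    (by rw [polar_comm]; exact QuadSim.mem_perpOf.1 hz u' (Submodule.subset_span (by simp)))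
  have h := QuadSim.finrank_perpOf (Q := S.Q1) D
  have : finrank F D ≤ 2 := QuadSim.finrank_span_two_le u u'
  rw [Fintype.card_fin] at h
  obtain ⟨z, hz, hz0⟩ := Submodule.exists_mem_ne_zero_of_ne_bot
    (p := QuadSim.perpOf S.Q1 D) (fun e => by rw [e, finrank_bot] at h; omega)
  refine hz0 (S.nd1 z fun x => ?_)
  set x₁ := x - QuadraticMap.polar S.Q1 x u' • u - QuadraticMap.polar S.Q1 x u • u'
  have hx₁ : x₁ ∈ QuadSim.perpOf S.Q1 D := QuadSim.mem_perpOf.2 fun d hd => by
    obtain ⟨c, c', rfl⟩ := Submodule.mem_span_pair.1 hd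
    simp [x₁, Classical.Quad.polar_singular_self hu, Classical.Quad.polar_singular_self hu', huu,
      polar_comm (⇑S.Q1) u' u]
    try ring
  have e : QuadraticMap.polar S.Q1 z x₁ = 0 := by
    simp [polar, hmem z hz, hmem x₁ hx₁, hmem _ (Submodule.add_mem _ hz hx₁)]
  have hzu := QuadSim.mem_perpOf.1 hz u (Submodule.subset_span (by simp))
  have hzu' := QuadSim.mem_perpOf.1 hz u' (Submodule.subset_span (by simp))
  rw [show x = x₁ + QuadraticMap.polar S.Q1 x u' • u + QuadraticMap.polar S.Q1 x u • u' by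
    simp only [x₁]; abel, polar_add_right, polar_add_right, polar_smul_right, polar_smul_right, e, hzu, hzu']
  simp

omit H in
lemma eq_zero_on_singular {f : (Fin a → F) →ₗ[F] (Fin a → F)}
    (h : ∀ x, S.Q1 x = 0 → f x = 0) : f = 0 := by
  refine LinearMap.ext fun x => ?_
  exact QuadSim.perp_le_of_singular (Q := S.Q1) S.nd1 S.two (D := ⊥)
    (by rw [finrank_bot, Fintype.card_fin]; have := S.ha; omega)
    (LinearMap.ker f).toAddSubgroup (fun y hy _ => h y hy) (x := x)
    (fun d hd => by rw [(Submodule.mem_bot F).1 hd, polar_zero_right])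

/-- Some pair spans a line of the root set. -/
lemma exists_wed {v : Fin b → F} (hv : S.Q2 v = 0) {C : (Fin a → F) →ₗ[F] (Fin a → F)}
    (hC : C ∈ Zs S M v) (hC0 : C ≠ 0) :
    ∃ u u' r : Fin a → F, S.Q1 u = 0 ∧ S.Q1 u' = 0 ∧ QuadraticMap.polar S.Q1 u u' = 1 ∧
      QuadraticMap.polar S.Q1 u r = 0 ∧ QuadraticMap.polar S.Q1 u' r = 0 ∧ r ≠ 0 ∧
      wed S.Q1 u r ∈ Lin (S := S) hv M := by
  by_contra hcon
  push Not at hcon
  have hu_eig : ∀ u u', S.Q1 u = 0 → S.Q1 u' = 0 → QuadraticMap.polar S.Q1 u u' = 1 →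
      C u = QuadraticMap.polar S.Q1 u' (C u) • u := by
    intro u u' hu hu' huu
    have huu' := Classical.Quad.polar_singular_self hu
    obtain ⟨w, hw, hw', hQw⟩ := exists_nonsingular_orth_pair hu hu' huu
    set γ := QuadraticMap.polar S.Q1 (C u) w
    set r := (2 * γ) • w - (2 * S.Q1 w) • C u
    have hN : ∀ x y, QuadraticMap.polar S.Q1 (wed S.Q1 u w x) y =
        - QuadraticMap.polar S.Q1 x (wed S.Q1 u w y) := wed_skew S.Q1 u w
    have h1 := bracket_mem hv H hC hu hw
    have h2 : wed S.Q1 u w ∘ₗ (wed S.Q1 u w ∘ₗ C - C ∘ₗ wed S.Q1 u w) -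
        (wed S.Q1 u w ∘ₗ C - C ∘ₗ wed S.Q1 u w) ∘ₗ wed S.Q1 u w ∈ Lin (S := S) hv M :=
      bracket_mem hv H (by simpa using h1 1) hu hw
    have hCuu : QuadraticMap.polar S.Q1 (C u) u = 0 := by
      have h' := hC.1 u u
      rw [polar_comm (⇑S.Q1) u (C u)] at h'
      exact (mul_eq_zero.1 (by linear_combination h' : (2 : F) * QuadraticMap.polar S.Q1 (C u) u = 0)).resolve_left S.two
    have hCwu : QuadraticMap.polar S.Q1 (C w) u = -γ := by
      rw [hC.1, polar_comm (⇑S.Q1) w (C u)]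
    have hww : QuadraticMap.polar S.Q1 w w = 2 * S.Q1 w := Classical.Quad.polar_self' w
    have hwC : QuadraticMap.polar S.Q1 w (C u) = γ := polar_comm _ _ _
    have heq : wed S.Q1 u w ∘ₗ (wed S.Q1 u w ∘ₗ C - C ∘ₗ wed S.Q1 u w) -
        (wed S.Q1 u w ∘ₗ C - C ∘ₗ wed S.Q1 u w) ∘ₗ wed S.Q1 u w = wed S.Q1 u r := by
      have e1 : wed S.Q1 u w ∘ₗ C - C ∘ₗ wed S.Q1 u w =
          - (wed S.Q1 (C u) w + wed S.Q1 u (C w)) := by
        rw [← br_wed S.Q1 hC.1 u w, neg_sub]
      rw [e1, LinearMap.comp_neg, LinearMap.neg_comp, neg_sub_neg, LinearMap.comp_add,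
        LinearMap.add_comp, add_sub_add_comm,
        ← neg_sub (wed S.Q1 u w ∘ₗ wed S.Q1 (C u) w) (wed S.Q1 (C u) w ∘ₗ wed S.Q1 u w),
        ← neg_sub (wed S.Q1 u w ∘ₗ wed S.Q1 u (C w)) (wed S.Q1 u (C w) ∘ₗ wed S.Q1 u w),
        br_wed S.Q1 hN, br_wed S.Q1 hN]
      refine LinearMap.ext fun x => ?_
      simp [r, wed_apply, hCuu, hCwu, hwC, hww, huu', hw, polar_comm (⇑S.Q1) w u]
      module
    have hur : QuadraticMap.polar S.Q1 u r = 0 := by
      simp [r, hw, polar_comm (⇑S.Q1) u (C u), hCuu]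
    set r₁ := r - QuadraticMap.polar S.Q1 u' r • u
    have hr₁ : r₁ = 0 := by
      by_contra hne
      refine hcon u u' r₁ hu hu' huu (by simp [r₁, hur, huu'])
        (by simp [r₁, polar_comm (⇑S.Q1) u' u, huu]) hne ?_
      rw [show wed S.Q1 u r₁ = wed S.Q1 u r from LinearMap.ext fun x => by
        simp [r₁, wed_apply]; module, ← heq]
      exact h2
    have hr : r = QuadraticMap.polar S.Q1 u' r • u := sub_eq_zero.1 hr₁
    have hγ : γ = 0 := by
      have h3 := congrArg (fun z => QuadraticMap.polar S.Q1 z w) hr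
      simp only [r, polar_sub_left, polar_smul_left, hw, hww, smul_eq_mul, mul_zero] at h3
      have : 2 * S.Q1 w * γ = 0 := by linear_combination h3
      exact (mul_eq_zero.1 this).resolve_left (mul_ne_zero S.two hQw)
    have h4 : (2 * S.Q1 w) • (C u - QuadraticMap.polar S.Q1 u' (C u) • u) = 0 := by
      have h5 := hr
      simp only [r, hγ, mul_zero, zero_smul, zero_sub, polar_neg_right, polar_smul_right,
        smul_eq_mul, neg_smul, neg_inj] at h5
      rw [smul_sub, smul_smul, h5, sub_self]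
    exact sub_eq_zero.1 ((smul_eq_zero.1 h4).resolve_left (mul_ne_zero S.two hQw))
  refine hC0 (eq_zero_on_singular (S := S) fun u hu => ?_)
  rcases eq_or_ne u 0 with rfl | hu0
  · exact map_zero C
  obtain ⟨u', hu', huu⟩ := exists_hyp S.nd1 hu hu0
  obtain ⟨w, hw, hw', hQw⟩ := exists_nonsingular_orth_pair hu hu' huu
  set u'' := u + w - S.Q1 w • u' with hu''def
  have hu''Q : S.Q1 u'' = 0 := by
    rw [hu''def, sub_eq_add_neg, ← neg_smul, Classical.Quad.Q_comb1, QuadraticMap.map_add (⇑S.Q1), hu,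
      hw, hu', polar_add_left, huu, polar_comm (⇑S.Q1) w u', hw']
    ring
  have h12 : QuadraticMap.polar S.Q1 u' u'' = 1 := by
    simp [hu''def, polar_comm (⇑S.Q1) u' u, huu, hw', Classical.Quad.polar_singular_self hu']
  have h02 : QuadraticMap.polar S.Q1 u u'' = - S.Q1 w := by
    simp [hu''def, huu, hw, Classical.Quad.polar_singular_self hu]
  have e0 := hu_eig u u' hu hu' huu
  have e1 := hu_eig u' u hu' hu (by rw [polar_comm]; exact huu)
  have e2 := hu_eig u'' u' hu''Q hu' (by rw [polar_comm]; exact h12)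
  set l0 := QuadraticMap.polar S.Q1 u' (C u)
  set l1 := QuadraticMap.polar S.Q1 u (C u')
  set l2 := QuadraticMap.polar S.Q1 u' (C u'')
  have r01 : l0 + l1 = 0 := by
    have := hC.1 u u'
    rw [e0, e1] at this
    simp [huu] at this
    linear_combination this
  have r02 : l0 + l2 = 0 := by
    have := hC.1 u u''
    rw [e0, e2] at this
    simp [h02] at this
    have h' : (l0 + l2) * S.Q1 w = 0 := by linear_combination -this
    exact (mul_eq_zero.1 h').resolve_right hQw
  have r12 : l1 + l2 = 0 := by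
    have := hC.1 u' u''
    rw [e1, e2] at this
    simp [h12] at this
    linear_combination this
  rw [e0, show l0 = 0 from (mul_eq_zero.1 (by linear_combination r01 + r02 - r12 : (2 : F) * l0 = 0)).resolve_left S.two,
    zero_smul]

include hplane

/-- The root set of the line is everything. -/
lemma wed_mem_all {v : Fin b → F} (hv : S.Q2 v = 0) {C : (Fin a → F) →ₗ[F] (Fin a → F)}
    (hC : C ∈ Zs S M v) (hC0 : C ≠ 0) : ∀ x y, wed S.Q1 x y ∈ Lin (S := S) hv M := by
  obtain ⟨u, u', r, hu, hu', huu, hur, hur', hr0, hr⟩ := exists_wed H hv hC hC0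
  set L := Lin (S := S) hv M
  let W : (Fin a → F) → Prop := fun x =>
    QuadraticMap.polar S.Q1 u x = 0 ∧ QuadraticMap.polar S.Q1 u' x = 0
  have hu1 := Classical.Quad.polar_singular_self hu
  have hu1' := Classical.Quad.polar_singular_self hu'
  have huu' : QuadraticMap.polar S.Q1 u' u = 1 := by rw [polar_comm]; exact huu
  -- one derivation step
  have hstep : ∀ {e w : Fin a → F} (x y : Fin a → F), S.Q1 e = 0 →
      QuadraticMap.polar S.Q1 e w = 0 → wed S.Q1 x y ∈ L →
      wed S.Q1 (wed S.Q1 e w x) y + wed S.Q1 x (wed S.Q1 e w y) ∈ L := by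
    intro e w x y he hw hxy
    rw [← br_wed S.Q1 (wed_skew S.Q1 e w)]
    exact bracket_mem hv H (by simpa using hxy 1) he hw
  have hkey : ∀ r0, W r0 → wed S.Q1 u r0 ∈ L → ∀ r1 r2, W r1 → W r2 →
      wed S.Q1 u (- QuadraticMap.polar S.Q1 r1 r2 • r0 + QuadraticMap.polar S.Q1 r0 r2 • r1
        - QuadraticMap.polar S.Q1 r0 r1 • r2) ∈ L := by
    intro r0 h0 hr0L r1 r2 h1 h2
    have a1 := bracket_mem hv H (by simpa using hstep u r0 hu' h1.2 hr0L 1) hu h2.1
    convert a1 using 1
    refine LinearMap.ext fun x => ?_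
    simp [wed_apply, hu1, hu1', huu, huu', h0.1, h0.2, h1.1, h1.2, h2.1, h2.2,
      polar_comm (⇑S.Q1) r0 u, polar_comm (⇑S.Q1) r0 u', polar_comm (⇑S.Q1) r1 u,
      polar_comm (⇑S.Q1) r1 u', polar_comm (⇑S.Q1) r2 u, polar_comm (⇑S.Q1) r2 u',
      polar_comm (⇑S.Q1) r1 r0, polar_comm (⇑S.Q1) r2 r0, polar_comm (⇑S.Q1) r2 r1]
    module
  have hproj : ∀ x, W (x - QuadraticMap.polar S.Q1 x u' • u - QuadraticMap.polar S.Q1 x u • u') :=
    fun x => ⟨by simp [hu1, huu, polar_comm (⇑S.Q1) u x],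
      by simp [hu1', huu', polar_comm (⇑S.Q1) u' x]⟩
  obtain ⟨r0, h0, hQ0, hr0L⟩ : ∃ r0, W r0 ∧ S.Q1 r0 ≠ 0 ∧ wed S.Q1 u r0 ∈ L := by
    by_cases hQr : S.Q1 r = 0
    swap
    · exact ⟨r, ⟨hur, hur'⟩, hQr, hr⟩
    have ha5 : 5 ≤ a := hplane u r hu hQr hur (fun e => by simpa [e] using huu) fun c hc => hr0 (by
      have := congrArg (fun z => QuadraticMap.polar S.Q1 u' z) hc
      simp [huu', hur'] at this
      rw [← hc, this, zero_smul])
    obtain ⟨x1, hx1⟩ := Classical.Quad.exists_polar_one S.nd1 hr0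
    set r1 := x1 - QuadraticMap.polar S.Q1 x1 u' • u - QuadraticMap.polar S.Q1 x1 u • u'
    have hrr1 : QuadraticMap.polar S.Q1 r r1 = 1 := by
      simp [r1, hx1, polar_comm (⇑S.Q1) r u, polar_comm (⇑S.Q1) r u', hur, hur']
    set D := Submodule.span F {u, u', r}
    obtain ⟨r2, hr2, hQ2⟩ : ∃ r2 ∈ QuadSim.perpOf S.Q1 D, S.Q1 r2 ≠ 0 := by
      by_contra hcon
      push Not at hcon
      have hle := OmS.two_mul_finrank_le (Q := S.Q1) S.nd1
        (U := QuadSim.perpOf S.Q1 D ⊔ Submodule.span F {u}) (fun z hz => by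
          obtain ⟨y, hy, y', hy', rfl⟩ := Submodule.mem_sup.1 hz
          obtain ⟨c, rfl⟩ := Submodule.mem_span_singleton.1 hy'
          rw [Classical.Quad.Q_comb1, hcon y hy, hu,
            QuadSim.mem_perpOf.1 hy u (Submodule.subset_span (by simp))]
          ring)
      have hnot : u ∉ QuadSim.perpOf S.Q1 D := fun hmem => by
        simpa [huu] using QuadSim.mem_perpOf.1 hmem u' (Submodule.subset_span (by simp))
      rw [Submodule.finrank_sup_span_singleton hnot, Fintype.card_fin] at hle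
      have h := QuadSim.finrank_perpOf (Q := S.Q1) D
      have : finrank F D ≤ 3 := QuadSim.finrank_span_three_le u u' r
      rw [Fintype.card_fin] at h
      omega
    have hW2 : W r2 := ⟨by rw [polar_comm]; exact QuadSim.mem_perpOf.1 hr2 u (Submodule.subset_span (by simp)),
      by rw [polar_comm]; exact QuadSim.mem_perpOf.1 hr2 u' (Submodule.subset_span (by simp))⟩
    have hrr2 : QuadraticMap.polar S.Q1 r r2 = 0 := by
      rw [polar_comm]; exact QuadSim.mem_perpOf.1 hr2 r (Submodule.subset_span (by simp))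
    set k := QuadraticMap.polar S.Q1 r1 r2
    refine ⟨r2 + k • r, ⟨by simp [hW2.1, hur], by simp [hW2.2, hur']⟩, ?_, ?_⟩
    · rw [Classical.Quad.Q_comb1, hQr, polar_comm (⇑S.Q1) r2 r, hrr2]
      simpa using hQ2
    · have := L.neg_mem (hkey r ⟨hur, hur'⟩ hr r1 r2 (hproj x1) hW2)
      convert this using 1
      refine LinearMap.ext fun x => ?_
      simp [wed_apply, hrr1, hrr2, k]
      module
  have hqq : QuadraticMap.polar S.Q1 r0 r0 ≠ 0 := by
    rw [Classical.Quad.polar_self']; exact mul_ne_zero S.two hQ0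
  have A1 : ∀ r2, W r2 → wed S.Q1 u r2 ∈ L := by
    intro r2 h2
    have := L.smul_mem (-(QuadraticMap.polar S.Q1 r0 r0)⁻¹) (hkey r0 h0 hr0L r0 r2 h0 h2)
    convert this using 1
    refine LinearMap.ext fun x => ?_
    simp [wed_apply, smul_sub, smul_add, smul_smul]
    match_scalars <;> field_simp [hqq, S.two, hQ0] <;> ring
  have hmix : ∀ r1 r2, W r1 → W r2 →
      wed S.Q1 r1 r2 - QuadraticMap.polar S.Q1 r1 r2 • wed S.Q1 u u' ∈ L := by
    intro r1 r2 h1 h2
    have := hstep u r2 hu' h1.2 (A1 r2 h2)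
    convert this using 1
    refine LinearMap.ext fun x => ?_
    simp [wed_apply, huu, hu1', h1.1, h2.1, h2.2, polar_comm (⇑S.Q1) r1 r2,
      polar_comm (⇑S.Q1) r2 u']
    module
  have A2 : wed S.Q1 u u' ∈ L := by
    have := L.smul_mem (-(QuadraticMap.polar S.Q1 r0 r0)⁻¹) (hmix r0 r0 h0 h0)
    convert this using 1
    refine LinearMap.ext fun x => ?_
    simp [wed_apply, smul_sub, smul_smul]
    match_scalars <;> field_simp [hqq, S.two, hQ0]
  have A3 : ∀ r1 r2, W r1 → W r2 → wed S.Q1 r1 r2 ∈ L := fun r1 r2 h1 h2 => by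
    simpa using L.add_mem (hmix r1 r2 h1 h2) (L.smul_mem (QuadraticMap.polar S.Q1 r1 r2) A2)
  have A4 : ∀ r1, W r1 → wed S.Q1 r1 u' ∈ L := by
    intro r1 h1
    have := hstep u u' hu' h1.2 A2
    convert this using 1
    refine LinearMap.ext fun x => ?_
    simp [wed_apply, huu, hu1', huu', h1.1, h1.2]
    try module
  intro x y
  set x1 := x - QuadraticMap.polar S.Q1 x u' • u - QuadraticMap.polar S.Q1 x u • u' with hx1
  set y1 := y - QuadraticMap.polar S.Q1 y u' • u - QuadraticMap.polar S.Q1 y u • u' with hy1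
  have := L.add_mem (L.add_mem (L.add_mem (L.add_mem (L.add_mem
    (L.smul_mem (QuadraticMap.polar S.Q1 x u' * QuadraticMap.polar S.Q1 y u
      - QuadraticMap.polar S.Q1 x u * QuadraticMap.polar S.Q1 y u') A2)
    (L.smul_mem (QuadraticMap.polar S.Q1 x u') (A1 y1 (hproj y))))
    (L.smul_mem (-(QuadraticMap.polar S.Q1 x u)) (A4 y1 (hproj y))))
    (L.smul_mem (-(QuadraticMap.polar S.Q1 y u')) (A1 x1 (hproj x))))
    (L.smul_mem (QuadraticMap.polar S.Q1 y u) (A4 x1 (hproj x))))
    (A3 x1 y1 (hproj x) (hproj y))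
  convert this using 1
  refine LinearMap.ext fun z => ?_
  simp [wed_apply, hx1, hy1]
  module

/-- A non-trivial root element at a tensor line gives the whole of `Ω`. -/
theorem omega_le_of_root {v₀ : Fin b → F} (hv₀ : S.Q2 v₀ = 0) (hv₀0 : v₀ ≠ 0)
    {C : (Fin a → F) →ₗ[F] (Fin a → F)} (hC : C ∈ Zs S M v₀) (hC0 : C ≠ 0) :
    omegaGL ⇑S.Q ≤ M := by
  have ha := S.ha
  have hb := S.hb
  have hall := wed_mem_all H hplane hv₀ hC hC0
  -- root elements at every tensor line
  have hrt : ∀ v, S.Q2 v = 0 → ∀ x y, ∃ g ∈ M, ∀ z,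
      (g : Matrix (Fin a × Fin b) (Fin a × Fin b) F) *ᵥ z =
        z + pt (wed S.Q1 x y (S.ct v z)) v := by
    intro v hv x y
    rcases eq_or_ne v 0 with rfl | hv0
    · exact ⟨1, M.one_mem, fun z => by simp [pt_zero_right]⟩
    obtain ⟨g, hg, c, hc, hgv⟩ := exists_move S.nd2 S.two
      (by rw [Fintype.card_fin]; omega) hv₀ hv₀0 hv hv0
    obtain ⟨-, h, hh, hhz⟩ := hall x y (c * c)⁻¹
    have hk := H.k2_mem hg
    refine ⟨S.k2 g * h * (S.k2 g)⁻¹, M.mul_mem (M.mul_mem hk hh) (M.inv_mem hk), fun z => ?_⟩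
    rw [gl_mulVec_mul, gl_mulVec_mul, hhz, mulVec_add, gl_mulVec_inv_mulVec, S.k2_pt, hgv,
      pt_smul_right, ← pt_smul_left, LinearMap.smul_apply]
    congr 2
    have hct : S.ct v₀ (((((S.k2 g)⁻¹ : GL _ F)) : Matrix (Fin a × Fin b) (Fin a × Fin b) F) *ᵥ z) =
        c • S.ct v z := by
      rw [← map_inv, ← S.ct_k2 g v₀, ← gl_mulVec_mul, ← map_mul, mul_inv_cancel, map_one, Units.val_one,
        one_mulVec, hgv, map_smul, LinearMap.smul_apply]
    rw [hct, map_smul, smul_smul, smul_smul]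
    have hcc : c * ((c * c)⁻¹ * c) = 1 := by field_simp
    rw [← mul_assoc] at hcc
    rw [hcc, one_smul]
  obtain ⟨P⟩ := QuadSim.exists_frame (Q := S.Q) S.nd S.two (by
    rw [Fintype.card_prod, Fintype.card_fin, Fintype.card_fin]; nlinarith)
  -- the Siegel transformations with centre `p`
  have hSS0 : ∀ u v, S.Q1 u ≠ 0 → S.Q2 v = 0 → v ≠ 0 →
      (∀ x' φ, QuadraticMap.polar S.Q1 u x' = 0 → ∃ h ∈ M, OmS.IsSg S.Q h (pt u v) (pt x' φ)) ∧
      ((∀ u'', S.Q1 u'' ≠ 0 → QuadraticMap.polar S.Q1 u u'' = 0 → ∀ φ, QuadraticMap.polar S.Q2 v φ = 0 →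
        ∀ t : F, ∃ h ∈ M, OmS.IsSg S.Q h (pt u'' v) (pt (t • u) φ)) → pt u v ∈ OmS.SS S.Q M) := by
    intro u v hQu hv hv0
    set p := pt u v with hp_def
    have hp : S.Q p = 0 := by rw [hp_def, S.Q_pt, hv, mul_zero]
    let T : AddSubgroup (Fin a × Fin b → F) :=
      { carrier := {w | QuadraticMap.polar S.Q p w = 0 ∧ ∃ h ∈ M, OmS.IsSg S.Q h p w}
        zero_mem' := ⟨by simp, 1, M.one_mem, fun x => by simp⟩
        add_mem' := by
          rintro w w' ⟨hw, h, hh, hhx⟩ ⟨hw', h', hh', hhx'⟩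
          refine ⟨by rw [polar_add_right, hw, hw', add_zero], h * h', M.mul_mem hh hh', fun x => ?_⟩
          rw [gl_mulVec_mul, hhx', hhx, ← Classical.Quad.siegel_apply hp hw', ← Classical.Quad.siegel_apply hp hw,
            ← Classical.Quad.mul_apply, Classical.Quad.siegel_mul hp hw hw', Classical.Quad.siegel_apply]
        neg_mem' := by
          rintro w ⟨hw, h, hh, hhx⟩
          refine ⟨by rw [polar_neg_right, hw, neg_zero], h⁻¹, M.inv_mem hh, fun x => gl_mulVec_injective h ?_⟩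
          show _ *ᵥ _ = _ *ᵥ _
          have hw' : QuadraticMap.polar S.Q p (-w) = 0 := by rw [polar_neg_right, hw, neg_zero]
          rw [gl_mulVec_inv_mulVec, hhx, ← Classical.Quad.siegel_apply hp hw',
            ← Classical.Quad.siegel_apply hp hw, ← Classical.Quad.mul_apply,
            Classical.Quad.siegel_mul hp hw hw', Classical.Quad.siegel_apply]
          simp }
    have hmove : ∀ w ∈ T, ∀ h ∈ M, (h : Matrix (Fin a × Fin b) (Fin a × Fin b) F) *ᵥ p = p →
        (h : Matrix (Fin a × Fin b) (Fin a × Fin b) F) *ᵥ w - w ∈ T := by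
      rintro w hwT h hh hhp
      refine T.sub_mem ?_ hwT
      obtain ⟨hw, k, hk, hkx⟩ := hwT
      refine ⟨by rw [← hhp, H.polar hh, hw], h * k * h⁻¹, M.mul_mem (M.mul_mem hh hk) (M.inv_mem hh),
        fun x => ?_⟩
      set x' := ((h⁻¹ : GL (Fin a × Fin b) F) : Matrix (Fin a × Fin b) (Fin a × Fin b) F) *ᵥ x with hx'
      have hgx : (h : Matrix (Fin a × Fin b) (Fin a × Fin b) F) *ᵥ x' = x := gl_mulVec_inv_mulVec h x
      rw [gl_mulVec_mul, gl_mulVec_mul, ← hx', hkx, mulVec_add, mulVec_add, mulVec_smul, mulVec_smul,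
        hgx, hhp, ← H.polar hh x' p, ← H.polar hh x' w, hgx, hhp, ← OmS.omega_iso (H.le hh) w]
    have hline : ∀ y, pt y v ∈ T := by
      intro y
      have hpy : QuadraticMap.polar S.Q p (pt y v) = 0 := by
        rw [hp_def, S.polar_pt, Classical.Quad.polar_singular_self hv, mul_zero]
      obtain ⟨g, hg, hgz⟩ := hrt v hv u y
      refine ⟨hpy, g, hg, fun z => ?_⟩
      rw [hgz, S.Q_pt, hv, mul_zero, zero_mul, sub_zero, hp_def, S.polar_pt_right, S.polar_pt_right,
        wed_apply, sub_eq_add_neg, ← neg_smul, pt_add_left, pt_smul_left, pt_smul_left]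
      abel
    have hu0 : u ≠ 0 := fun e => hQu (by rw [e, map_zero])
    have hQu' : (2 : F) * S.Q1 u ≠ 0 := mul_ne_zero S.two hQu
    have hperp : ∀ x', ∃ u', QuadraticMap.polar S.Q1 u u' = 0 ∧
        u' ∉ Submodule.span F {x'} := by
      intro x'
      by_contra hcon
      push Not at hcon
      have hle : QuadSim.perpOf S.Q1 (Submodule.span F {u}) ≤ Submodule.span F {x'} := fun z hz =>
        hcon z (by rw [polar_comm]; exact QuadSim.mem_perpOf.1 hz u (Submodule.mem_span_singleton_self u))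
      have h1 := Submodule.finrank_mono hle
      have h2 := QuadSim.finrank_perpOf (Q := S.Q1) (Submodule.span F {u})
      have h3 : finrank F (Submodule.span F {x'}) ≤ 1 := (finrank_span_le_card _).trans (by simp)
      have h4 : finrank F (Submodule.span F {u}) ≤ 1 := (finrank_span_le_card _).trans (by simp)
      rw [Fintype.card_fin] at h2
      omega
    -- the first factor orthogonal to `u`
    have hperpT : ∀ φ, ∀ x', QuadraticMap.polar S.Q1 u x' = 0 → pt x' φ ∈ T := by
      have hsing : ∀ v', S.Q2 v' = 0 → QuadraticMap.polar S.Q2 v v' ≠ 0 →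
          ∀ x', QuadraticMap.polar S.Q1 u x' = 0 → pt x' v' ∈ T := by
        intro v' hv' hvv' x' hx'
        rcases eq_or_ne x' 0 with rfl | hx'0
        · rw [pt_zero_left]; exact T.zero_mem
        obtain ⟨u', hu', hu'x⟩ := hperp x'
        obtain ⟨y, hy1, hy2⟩ := Classical.Quad.exists_polar_pair S.nd1
          (Classical.Quad.not_smul_eq_of_indep hx'0 fun c hc => hu'x
            (Submodule.mem_span_singleton.2 ⟨c, hc⟩)) (QuadraticMap.polar S.Q2 v v')⁻¹ 0
        obtain ⟨h, hh, hhz⟩ := hrt v' hv' u' x'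
        have hfix : (h : Matrix (Fin a × Fin b) (Fin a × Fin b) F) *ᵥ p = p := by
          rw [hhz, hp_def, S.ct_pt, map_smul, wed_apply, hu', hx']
          simp [pt_zero_left]
        have := hmove _ (hline y) h hh hfix
        rw [hhz, add_sub_cancel_left, S.ct_pt, map_smul, wed_apply, polar_comm (⇑S.Q1) y u', hy1,
          polar_comm (⇑S.Q1) y x', hy2, polar_comm (⇑S.Q2) v' v] at this
        simpa [smul_smul, hvv'] using this
      let T1 : AddSubgroup (Fin b → F) :=
        { carrier := {φ | ∀ x', QuadraticMap.polar S.Q1 u x' = 0 → pt x' φ ∈ T}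
          zero_mem' := fun x' _ => by rw [pt_zero_right]; exact T.zero_mem
          add_mem' := fun hφ hψ x' hx' => by rw [pt_add_right]; exact T.add_mem (hφ x' hx') (hψ x' hx')
          neg_mem' := fun {φ} hφ x' hx' => by
            rw [← neg_one_smul F φ, pt_smul_right, neg_one_smul]; exact T.neg_mem (hφ x' hx') }
      intro φ
      refine QuadSim.perp_le_of_singular (Q := S.Q2) S.nd2 S.two (D := ⊥)
        (by rw [finrank_bot, Fintype.card_fin]; omega) T1 (fun φ hφ _ => ?_)
        (fun d hd => by rw [(Submodule.mem_bot F).1 hd, polar_zero_right]) (x := φ)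
      by_cases hvφ : QuadraticMap.polar S.Q2 v φ = 0
      swap
      · exact hsing φ hφ hvφ
      by_cases hφv : ∃ c : F, c • v = φ
      · obtain ⟨c, rfl⟩ := hφv
        exact fun x' _ => by rw [pt_smul_right, ← pt_smul_left]; exact hline _
      push Not at hφv
      have hli := Classical.Quad.not_smul_eq_of_indep hv0 hφv
      obtain ⟨y, hy1, hy2⟩ := Classical.Quad.exists_polar_pair S.nd2 hli 0 1
      set v' := y + (-(S.Q2 y)) • v
      have hv' : S.Q2 v' = 0 := by
        rw [Classical.Quad.Q_comb1, hv, polar_comm (⇑S.Q2) y v, hy2]; ring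
      have hvv' : QuadraticMap.polar S.Q2 v v' = 1 := by
        simp [v', hy2, Classical.Quad.polar_singular_self hv]
      have hφv' : QuadraticMap.polar S.Q2 φ v' = 0 := by
        simp [v', hy1, polar_comm (⇑S.Q2) φ v, hvφ]
      intro x' hx'
      have h1 := hsing (φ + v') (by rw [QuadraticMap.map_add (⇑S.Q2), hφ, hv', hφv']; ring)
        (by rw [polar_add_right, hvφ, hvv', zero_add]; exact one_ne_zero) x' hx'
      have h2 := hsing v' hv' (by rw [hvv']; exact one_ne_zero) x' hx'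
      have := T.sub_mem h1 h2
      rwa [← pt_sub_right, add_sub_cancel_right] at this
    refine ⟨fun x' φ hx' => (hperpT φ x' hx').2, fun hother => ?_⟩
    -- the line of `u`
    obtain ⟨u'', huu'', hQu''⟩ : ∃ u'', QuadraticMap.polar S.Q1 u u'' = 0 ∧ S.Q1 u'' ≠ 0 := by
      by_contra hcon
      push Not at hcon
      have hle := OmS.two_mul_finrank_le (Q := S.Q1) S.nd1
        (U := QuadSim.perpOf S.Q1 (Submodule.span F {u})) fun z hz => hcon z (by
          rw [polar_comm]; exact QuadSim.mem_perpOf.1 hz u (Submodule.mem_span_singleton_self u))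
      have h2 := QuadSim.finrank_perpOf (Q := S.Q1) (Submodule.span F {u})
      rw [finrank_span_singleton hu0, Fintype.card_fin] at h2
      rw [Fintype.card_fin] at hle
      omega
    obtain ⟨v', hv', hvv'⟩ := exists_hyp S.nd2 hv hv0
    have huT : ∀ φ, QuadraticMap.polar S.Q2 v φ = 0 → ∀ t : F, pt (t • u) φ ∈ T := by
      intro φ hφ t
      set s := t / (2 * S.Q1 u'') with hs
      obtain ⟨h, hh, hhz⟩ := hother u'' hQu'' huu'' φ hφ s
      set p' := pt u'' v
      set w' := pt (s • u) φ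
      have hfix : (h : Matrix (Fin a × Fin b) (Fin a × Fin b) F) *ᵥ p = p := by
        rw [hhz p]
        simp [p', w', hp_def, S.polar_pt, Classical.Quad.polar_singular_self hv, hφ]
      set z := pt u'' v'
      have hm := hmove _ (hperpT v' u'' huu'') h hh hfix
      have e1 : QuadraticMap.polar S.Q z p' = 2 * S.Q1 u'' := by
        simp [z, p', S.polar_pt, Classical.Quad.polar_self', polar_comm (⇑S.Q2) v' v, hvv']
      rw [hhz z, e1, add_assoc, add_sub_cancel_left] at hm
      have hl := hline ((-(QuadraticMap.polar S.Q z w') - S.Q w' * (2 * S.Q1 u'')) • u'')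
      rw [pt_smul_left] at hl
      have := T.sub_mem hm hl
      rw [add_sub_cancel_right, show w' = pt (s • u) φ from rfl, ← pt_smul_left, smul_smul, hs,
        mul_div_cancel₀ _ (mul_ne_zero S.two hQu'')] at this
      exact this
    refine ⟨hp, fun w hw => ?_⟩
    set η := ((2 : F) * S.Q1 u)⁻¹ • S.lc u w
    have hη : QuadraticMap.polar S.Q2 v η = 0 := by
      rw [polar_smul_right, ← S.polar_pt_left', ← hp_def, hw, smul_zero]
    set z := w - pt u η with hz
    have hzu : ∀ j, QuadraticMap.polar S.Q1 u (fun i => z (i, j)) = 0 := fun j => by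
      have : S.lc u z = 0 := by
        rw [hz, map_sub, S.lc_pt, Classical.Quad.polar_self', smul_smul, mul_inv_cancel₀ hQu',
          one_smul, sub_self]
      exact congrFun this j
    have hsum : z = ∑ j, pt (fun i => z (i, j)) (Pi.single j 1) := by
      funext s
      simp [Finset.sum_apply, pt, Pi.single_apply]
    have hwT : w ∈ T := by
      rw [show w = pt u η + z by rw [hz, add_sub_cancel], hsum]
      exact T.add_mem (by simpa using huT η hη 1) (T.sum_mem fun j _ => hperpT _ _ (hzu j))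
    exact hwT.2
  have hSS : ∀ u v, S.Q1 u ≠ 0 → S.Q2 v = 0 → v ≠ 0 → pt u v ∈ OmS.SS S.Q M :=
    fun u v hQu hv hv0 => (hSS0 u v hQu hv hv0).2 fun u'' hQu'' huu'' φ _ t =>
      (hSS0 u'' v hQu'' hv hv0).1 (t • u) φ (by rw [polar_smul_right, polar_comm, huu'', smul_zero])
  obtain ⟨u, hu, hQu⟩ : ∃ u : Fin a → F, u ≠ 0 ∧ S.Q1 u ≠ 0 := by
    by_contra hcon
    push Not at hcon
    set x₀ : Fin a → F := Pi.single ⟨0, by omega⟩ 1
    obtain ⟨y, hy⟩ := Classical.Quad.exists_polar_one S.nd1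
      (show x₀ ≠ 0 from fun e => one_ne_zero (α := F) (by simpa [x₀] using congrFun e ⟨0, by omega⟩))
    have h0 : ∀ z, S.Q1 z = 0 := fun z => by
      rcases eq_or_ne z 0 with rfl | hz
      · exact map_zero _
      · exact hcon z hz
    rw [polar, h0, h0, h0] at hy
    simp at hy
  obtain ⟨v', hv', hvv'⟩ := exists_hyp S.nd2 hv₀ hv₀0
  refine OmS.omega_le_of_pair (Q := S.Q) S.nd P H.le (hSS u v₀ hQu hv₀ hv₀0)
    (hSS u v' hQu hv' fun e => by simp [e] at hvv') ?_
  rw [S.polar_pt, hvv', mul_one, Classical.Quad.polar_self']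
  exact mul_ne_zero S.two hQu

end Main

end CfsgLib.ClassicalMax.OTens
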