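/-
A commutative space of self-adjoint maps invariant under the Siegel transformations consists of scalars.
-/
import Cfsg.Agent.Lib.ClassicalMax.OrthTensorMax.Root
set_option autoImplicit false
set_option linter.unusedSectionVars false
set_option linter.unusedVariables false
set_option linter.unusedSimpArgs false

namespace CfsgLib.ClassicalMax.OTens

open Matrix Cfsg.Geo QuadraticMap Module
open CfsgLib.Classical.Quad (NDPolar Orth siegel siegelGroup)

variable {F : Type*} [Field F] [Fintype F] [DecidableEq F] {ι : Type} [Fintype ι] [DecidableEq ι]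
  {Q : QuadraticForm F (ι → F)}

/-- An invariant commutative space of self-adjoint maps. -/
structure CommInv (Q : QuadraticForm F (ι → F)) (Sig : Submodule F (Module.End F (ι → F))) : Prop where
  nd : NDPolar Q
  two : (2 : F) ≠ 0
  three : 3 ≤ Fintype.card ι
  sa : ∀ X ∈ Sig, ∀ x y, polar Q (X x) y = polar Q x (X y)
  comm : ∀ X ∈ Sig, ∀ Y ∈ Sig, X * Y = Y * X
  one_mem : 1 ∈ Sig
  conj : ∀ X ∈ Sig, ∀ (u w : ι → F) (hu : Q u = 0) (hw : polar Q u w = 0),
    ((siegel Q u w hu hw).1 : Module.End F (ι → F)) * X *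
      ((siegel Q u w hu hw)⁻¹.1 : Module.End F (ι → F)) ∈ Sig
  big : 4 ≤ Fintype.card ι ∨ ∃ t : F, t ≠ 0 ∧ t * t ≠ 1

variable {Sig : Submodule F (Module.End F (ι → F))} (h : CommInv Q Sig)
include h

lemma CommInv.nonsingular_perp {k : ℕ} {u u' : ι → F} (hu : Q u = 0) (hu' : Q u' = 0)
    (huu : polar Q u u' = 1) (e : Fin k → ι → F) (he : ∀ i, Q (e i) ≠ 0)
    (heu : ∀ i, polar Q (e i) u = 0 ∧ polar Q (e i) u' = 0)
    (hee : ∀ i j, i ≠ j → polar Q (e i) (e j) = 0) (hk : k + 3 ≤ Fintype.card ι) :
    ∃ r, polar Q r u = 0 ∧ polar Q r u' = 0 ∧ (∀ i, polar Q r (e i) = 0) ∧ Q r ≠ 0 := by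
  by_contra hcon
  push Not at hcon
  let Φ : (ι → F) →ₗ[F] F × F × (Fin k → F) :=
    LinearMap.prod ((polarBilin Q).flip u) (LinearMap.prod ((polarBilin Q).flip u')
      (LinearMap.pi fun i => (polarBilin Q).flip (e i)))
  obtain ⟨z, hz, hz0⟩ := Submodule.exists_mem_ne_zero_of_ne_bot
    (LinearMap.ker_ne_bot_of_finrank_lt (f := Φ) (by
      rw [finrank_prod, finrank_prod, finrank_self, finrank_fintype_fun_eq_card,
        finrank_fintype_fun_eq_card, Fintype.card_fin]
      omega))
  have hz' : polar Q z u = 0 ∧ polar Q z u' = 0 ∧ ∀ i, polar Q z (e i) = 0 :=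
    ⟨congrArg Prod.fst hz, congrArg (fun t => t.2.1) hz, fun i => congrArg (fun t => t.2.2 i) hz⟩
  clear hz
  rename' hz' => hz
  refine hz0 (h.nd z fun x => ?_)
  set x₁ := x - polar Q x u' • u - polar Q x u • u' -
    ∑ i, (polar Q x (e i) / (2 * Q (e i))) • e i with hx₁
  have hu1 := Classical.Quad.polar_singular_self hu
  have hu1' := Classical.Quad.polar_singular_self hu'
  have hsum : ∀ y, polar Q (∑ i, (polar Q x (e i) / (2 * Q (e i))) • e i) y =
      ∑ i, polar Q x (e i) / (2 * Q (e i)) * polar Q (e i) y := fun y => by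
    rw [← polarBilin_apply_apply, map_sum, LinearMap.sum_apply]
    simp
  have m : polar Q x₁ u = 0 ∧ polar Q x₁ u' = 0 ∧ ∀ i, polar Q x₁ (e i) = 0 := by
    refine ⟨?_, ?_, fun j => ?_⟩
    · simp [hx₁, hsum, hu1, polar_comm Q u' u, huu, heu]
    · simp [hx₁, hsum, hu1', huu, heu]
    · rw [hx₁, polar_sub_left, polar_sub_left, polar_sub_left, polar_smul_left, polar_smul_left, hsum,
        polar_comm Q u (e j), polar_comm Q u' (e j), (heu j).1, (heu j).2, Finset.sum_eq_single j,
        Classical.Quad.polar_self']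
      · have := he j
        field_simp [h.two]
        simp
      · intro i _ hij
        rw [hee i j hij, mul_zero]
      · simp
  have h1 := hcon z hz.1 hz.2.1 hz.2.2
  have h2 := hcon x₁ m.1 m.2.1 m.2.2
  have h3 := hcon (z + x₁) (by simp [hz.1, m.1]) (by simp [hz.2.1, m.2.1])
    (fun i => by simp [hz.2.2 i, m.2.2 i])
  have h4 : polar Q z x₁ = 0 := by rw [polar, h1, h2, h3]; simp
  rw [hx₁, polar_sub_right, polar_sub_right, polar_sub_right, polar_smul_right, polar_smul_right,
    hz.1, hz.2.1, polar_comm Q z (∑ i, _), hsum, Finset.sum_eq_zero fun i _ => by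
      rw [polar_comm Q (e i) z, hz.2.2 i, mul_zero]] at h4
  simpa using h4

lemma CommInv.exists_nonsingular {u u' : ι → F} (hu : Q u = 0) (hu' : Q u' = 0)
    (huu : polar Q u u' = 1) : ∃ r, polar Q r u = 0 ∧ polar Q r u' = 0 ∧ Q r ≠ 0 := by
  obtain ⟨r, h1, h2, -, h3⟩ := h.nonsingular_perp hu hu' huu (k := 0) Fin.elim0 (fun i => i.elim0)
    (fun i => i.elim0) (fun i => i.elim0) (by simpa using h.three)
  exact ⟨r, h1, h2, h3⟩

lemma CommInv.eq_top {W : Submodule F (ι → F)} (hW : ∀ x, Q x = 0 → x ∈ W) (x : ι → F) : x ∈ W :=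
  QuadSim.perp_le_of_singular (Q := Q) h.nd h.two (D := ⊥)
    (by rw [finrank_bot]; have := h.three; omega) W.toAddSubgroup (fun y hy _ => hW y hy) (x := x)
    (fun d hd => by rw [(Submodule.mem_bot F).1 hd, polar_zero_right])

/-- The second derivative of conjugation. -/
noncomputable def G (Q : QuadraticForm F (ι → F)) (X : Module.End F (ι → F)) (p q : ι → F) :
    Module.End F (ι → F) :=
  (wed Q p q * X - X * wed Q p q) * X - X * (wed Q p q * X - X * wed Q p q)

omit h in
lemma G_add (X : Module.End F (ι → F)) (p q q' : ι → F) : G Q X p (q + q') = G Q X p q + G Q X p q' := by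
  have : wed Q p (q + q') = wed Q p q + wed Q p q' := LinearMap.ext fun z => by
    simp [wed_apply]; module
  simp only [G, this, add_mul, mul_add, mul_sub, sub_mul, neg_mul, mul_neg, smul_mul_assoc, mul_smul_comm, mul_assoc]
  module

omit h in
lemma G_smul (X : Module.End F (ι → F)) (c : F) (p q : ι → F) : G Q X p (c • q) = c • G Q X p q := by
  have : wed Q p (c • q) = c • wed Q p q := LinearMap.ext fun z => by
    simp [wed_apply]; module
  simp only [G, this, add_mul, mul_add, mul_sub, sub_mul, neg_mul, mul_neg, smul_mul_assoc, mul_smul_comm, mul_assoc]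
  module

omit h in
lemma G_self (X : Module.End F (ι → F)) (p : ι → F) : G Q X p p = 0 := by
  have : wed Q p p = 0 := LinearMap.ext fun z => by simp [wed_apply]
  simp [G, this]

omit h in
lemma G_add_left (X : Module.End F (ι → F)) (p p' q : ι → F) : G Q X (p + p') q = G Q X p q + G Q X p' q := by
  have : wed Q (p + p') q = wed Q p q + wed Q p' q := LinearMap.ext fun z => by
    simp [wed_apply]; module
  simp only [G, this, add_mul, mul_add, mul_sub, sub_mul, neg_mul, mul_neg, smul_mul_assoc, mul_smul_comm, mul_assoc]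
  module

omit h in
lemma G_smul_left (X : Module.End F (ι → F)) (c : F) (p q : ι → F) : G Q X (c • p) q = c • G Q X p q := by
  have : wed Q (c • p) q = c • wed Q p q := LinearMap.ext fun z => by
    simp [wed_apply]; module
  simp only [G, this, add_mul, mul_add, mul_sub, sub_mul, neg_mul, mul_neg, smul_mul_assoc, mul_smul_comm, mul_assoc]
  module

omit h in
lemma G_swap (X : Module.End F (ι → F)) (p q : ι → F) : G Q X q p = - G Q X p q := by
  have e := G_self (Q := Q) X (p + q)
  rw [G_add, G_add_left, G_add_left, G_self, G_self, zero_add, add_zero, add_comm] at e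
  exact eq_neg_of_add_eq_zero_right e

omit h in
lemma conj_identity (N E X : Module.End F (ι → F)) (s m : F) :
    ((1 + s • N + m • E) * X * (1 + (-s) • N + m • E) * X -
        X * ((1 + s • N + m • E) * X * (1 + (-s) • N + m • E))) -
      ((1 + (-s) • N + m • E) * X * (1 + s • N + m • E) * X -
        X * ((1 + (-s) • N + m • E) * X * (1 + s • N + m • E))) =
    (2 * s) • ((N * X - X * N) * X - X * (N * X - X * N)) +
      (2 * s * m) • ((N * X * E - E * X * N) * X - X * (N * X * E - E * X * N)) := by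
  simp only [add_mul, mul_add, sub_mul, mul_sub, smul_mul_assoc, mul_smul_comm, smul_smul, one_mul,
    mul_one, smul_add, mul_assoc]
  module

lemma CommInv.G_siegel {X : Module.End F (ι → F)} (hX : X ∈ Sig) {u w : ι → F} (hu : Q u = 0)
    (hw : polar Q u w = 0) : G Q X u w = 0 := by
  set E : Module.End F (ι → F) := ((polarBilin Q).flip u).smulRight u with hE
  set K : (ι → F) → Module.End F (ι → F) := fun w =>
    (wed Q u w * X * E - E * X * wed Q u w) * X - X * (wed Q u w * X * E - E * X * wed Q u w)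
  have hKadd : ∀ w w', K (w + w') = K w + K w' := fun w w' => by
    have : wed Q u (w + w') = wed Q u w + wed Q u w' := LinearMap.ext fun z => by
      simp [wed_apply]; module
    simp only [K, this, add_mul, mul_add, mul_sub, sub_mul, mul_assoc]
    module
  have hKsmul : ∀ (c : F) w, K (c • w) = c • K w := fun c w => by
    have : wed Q u (c • w) = c • wed Q u w := LinearMap.ext fun z => by
      simp [wed_apply]; module
    simp only [K, this, mul_sub, sub_mul, smul_mul_assoc, mul_smul_comm, mul_assoc]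
    module
  have key : ∀ w, polar Q u w = 0 → G Q X u w = Q w • K w := by
    intro w hw
    have hT : ∀ s : F, ((siegel Q u (s • w) hu (by rw [polar_smul_right, hw, smul_zero])).1 :
        Module.End F (ι → F)) = 1 + s • wed Q u w + (-(s * s * Q w)) • E := fun s => by
      refine LinearMap.ext fun z => ?_
      simp [Classical.Quad.siegel_apply, wed_apply, hE, QuadraticMap.map_smul]
      module
    have hTi : ∀ s : F, (((siegel Q u (s • w) hu (by rw [polar_smul_right, hw, smul_zero]))⁻¹).1 :
        Module.End F (ι → F)) = 1 + (-s) • wed Q u w + (-(s * s * Q w)) • E := fun s => by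
      rw [Classical.Quad.siegel_inv]
      refine LinearMap.ext fun z => ?_
      simp [Classical.Quad.siegel_apply, wed_apply, hE, QuadraticMap.map_smul, QuadraticMap.map_neg]
      module
    have h0 : ∀ s : F, (2 * s) • G Q X u w + (-(2 * s) * (s * s * Q w)) • K w = 0 := by
      intro s
      have h1 := h.comm _ (h.conj X hX u (s • w) hu (by rw [polar_smul_right, hw, smul_zero])) X hX
      have h2 := h.comm _ (h.conj X hX u ((-s) • w) hu (by rw [polar_smul_right, hw, smul_zero])) X hX
      rw [hT, hTi, ← sub_eq_zero] at h1 h2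
      simp only [neg_neg, neg_mul_neg] at h2
      have h3 := conj_identity (wed Q u w) E X s (-(s * s * Q w))
      rw [h1, h2, sub_zero] at h3
      rw [neg_mul_comm]
      exact h3.symm
    have h1 := h0 1
    simp only [mul_one, one_mul] at h1
    rw [← sub_eq_zero]
    refine (smul_eq_zero.1 ?_).resolve_left h.two
    rw [smul_sub, smul_smul, ← h1]
    module
  have ht : (∃ t : F, t ≠ 0 ∧ t * t ≠ 1) → ∀ w, polar Q u w = 0 → G Q X u w = 0 := by
    rintro ⟨t, ht0, ht1⟩ w hw
    have h1 := key w hw
    have h2 := key (t • w) (by rw [polar_smul_right, hw, smul_zero])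
    rw [G_smul, hKsmul, QuadraticMap.map_smul, h1, smul_smul, smul_smul, smul_eq_mul] at h2
    have h3 : (t * (1 - t * t)) • (Q w • K w) = 0 := by
      rw [← sub_eq_zero] at h2
      rw [← h2]; module
    rw [h1, (smul_eq_zero.1 h3).resolve_left (mul_ne_zero ht0 (sub_ne_zero.2 (Ne.symm ht1)))]
  rcases h.big with hbig | hbig
  swap
  · exact ht hbig w hw
  rcases eq_or_ne u 0 with rfl | hu0
  · have : wed Q (0 : ι → F) w = 0 := LinearMap.ext fun z => by simp [wed_apply]
    simp [G, this]
  obtain ⟨u', hu', huu⟩ := exists_hyp h.nd hu hu0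
  have hns : ∀ w, polar Q w u = 0 → polar Q w u' = 0 → Q w ≠ 0 → G Q X u w = 0 := by
    intro w1 hwu hwu' hQ1
    obtain ⟨w2, h2u, h2u', h2w, hQ2⟩ := h.nonsingular_perp hu hu' huu (k := 1) (fun _ => w1)
      (fun _ => hQ1) (fun _ => ⟨hwu, hwu'⟩) (fun i j hij => absurd (Subsingleton.elim i j) hij)
      (by omega)
    have h12 : polar Q w1 w2 = 0 := by rw [polar_comm]; exact h2w 0
    have e1 := key w1 (by rw [polar_comm]; exact hwu)
    have e2 := key w2 (by rw [polar_comm]; exact h2u)
    have e3 := key (w1 + w2) (by rw [polar_comm]; simp [hwu, h2u])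
    have e4 := key (w1 + (-1 : F) • w2) (by rw [polar_comm]; simp [hwu, h2u])
    rw [G_add, hKadd, QuadraticMap.map_add (⇑Q), h12, e1, e2] at e3
    rw [G_add, G_smul, hKadd, hKsmul, Classical.Quad.Q_comb1, h12, e1, e2] at e4
    have h5 : ((2 : F) * Q w2) • K w1 = 0 := by
      rw [← sub_eq_zero] at e3 e4
      calc _ = -((Q w1 • K w1 + Q w2 • K w2 - (Q w1 + Q w2 + 0) • (K w1 + K w2)) +
            (Q w1 • K w1 + (-1 : F) • Q w2 • K w2 -
              (Q w1 + -1 * -1 * Q w2 + -1 * 0) • (K w1 + (-1 : F) • K w2))) := by module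
        _ = 0 := by rw [e3, e4, add_zero, neg_zero]
    rw [e1, (smul_eq_zero.1 h5).resolve_left (mul_ne_zero h.two hQ2), smul_zero]
  obtain ⟨r, hru, hru', hQr⟩ := h.exists_nonsingular hu hu' huu
  set w' := w - polar Q w u' • u with hw'def
  have hu1 := Classical.Quad.polar_singular_self hu
  have hw'u : polar Q w' u = 0 := by simp [hw'def, hu1, polar_comm Q w u, hw]
  have hw'u' : polar Q w' u' = 0 := by simp [hw'def, huu]
  have hw'' : G Q X u w' = 0 := by
    by_cases hQ' : Q w' = 0
    swap
    · exact hns w' hw'u hw'u' hQ'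
    have hadd : ∀ t : F, t ≠ 0 → Q (w' + t • r) ≠ 0 → G Q X u w' = 0 := fun t _ hQt => by
      have h1 := hns (w' + t • r) (by simp [hw'u, hru]) (by simp [hw'u', hru']) hQt
      rw [G_add, G_smul, hns r hru hru' hQr, smul_zero, add_zero] at h1
      exact h1
    by_cases hwr : polar Q w' r = 0
    · refine hadd 1 one_ne_zero ?_
      rw [Classical.Quad.Q_comb1, hQ', hwr]
      simpa using hQr
    · refine hadd (polar Q w' r / Q r) (div_ne_zero hwr hQr) ?_
      rw [Classical.Quad.Q_comb1, hQ']
      field_simp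
      rw [zero_mul, zero_add, ← two_mul]
      exact div_ne_zero (mul_ne_zero h.two (pow_ne_zero 2 hwr)) hQr
  rw [show w = w' + polar Q w u' • u by rw [hw'def]; abel, G_add, G_smul, G_self, smul_zero, hw'',
    add_zero]

lemma CommInv.G_zero {X : Module.End F (ι → F)} (hX : X ∈ Sig) (p q : ι → F) : G Q X p q = 0 := by
  have hsing : ∀ u, Q u = 0 → ∀ q, G Q X u q = 0 := by
    intro u hu q
    rcases eq_or_ne u 0 with rfl | hu0
    · have : wed Q (0 : ι → F) q = 0 := LinearMap.ext fun z => by simp [wed_apply]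
      simp [G, this]
    obtain ⟨u', hu', huu⟩ := exists_hyp h.nd hu hu0
    obtain ⟨r, hru, hru', hQr⟩ := h.exists_nonsingular hu hu' huu
    have hu1 := Classical.Quad.polar_singular_self hu
    have hu1' := Classical.Quad.polar_singular_self hu'
    set u'' := u + r + (-(Q r)) • u'
    have hu'' : Q u'' = 0 := by
      simp [u'', QuadraticMap.map_add (⇑Q), QuadraticMap.map_smul, hu, hu', huu,
        hru', polar_comm Q u r, hru]
      try ring
    have h1 := h.G_siegel hX hu'' (w := r + (-(2 * Q r)) • u') (by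
      simp [u'', huu, hru', hu1', polar_comm Q u r, hru, polar_comm Q u' r, Classical.Quad.polar_self']
      try ring)
    have hur : G Q X u r = 0 := h.G_siegel hX hu (by rw [polar_comm]; exact hru)
    have hu'r : G Q X u' r = 0 := h.G_siegel hX hu' (by rw [polar_comm]; exact hru')
    simp only [u'', G_add, G_add_left, G_smul, G_smul_left, G_self, hur, hu'r,
      G_swap X u' r, smul_zero, add_zero, zero_add, neg_zero] at h1
    have huu'0 : G Q X u u' = 0 := (smul_eq_zero.1 h1).resolve_left
      (neg_ne_zero.2 (mul_ne_zero h.two hQr))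
    set q1 := q - polar Q q u • u'
    have hq1 : G Q X u q1 = 0 := h.G_siegel hX hu (by
      simp [q1, huu, polar_comm Q u q])
    rw [show q = q1 + polar Q q u • u' by simp [q1], G_add, G_smul, hq1, huu'0, smul_zero, add_zero]
  let L : (ι → F) →ₗ[F] Module.End F (ι → F) :=
    { toFun := fun p => G Q X p q
      map_add' := fun a b => G_add_left X a b q
      map_smul' := fun c a => G_smul_left X c a q }
  exact h.eq_top (W := LinearMap.ker L) (fun u hu => hsing u hu q) p

/-- The identity in vectors. -/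
lemma CommInv.ident {X : Module.End F (ι → F)} (hX : X ∈ Sig) (p q z : ι → F) :
    polar Q z (X (X p)) • q - polar Q z (X (X q)) • p
      - (2 : F) • (polar Q z (X p) • X q - polar Q z (X q) • X p)
      + (polar Q z p • X (X q) - polar Q z q • X (X p)) = 0 := by
  have := LinearMap.congr_fun (h.G_zero hX p q) z
  simp only [G, LinearMap.sub_apply, Module.End.mul_apply, wed_apply, map_sub, map_smul,
    LinearMap.zero_apply, h.sa X hX] at this
  rw [← this]
  module

lemma CommInv.eig_unique {X : Module.End F (ι → F)} (hX : X ∈ Sig) {p q : ι → F} {c d : F}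
    (hp : X p = c • p) (hq : X q = d • q) (hp0 : p ≠ 0) (hq0 : q ≠ 0) : c = d := by
  by_cases hpq : q ∈ Submodule.span F {p}
  · obtain ⟨s, rfl⟩ := Submodule.mem_span_singleton.1 hpq
    rw [map_smul, hp, smul_comm] at hq
    exact smul_left_injective F hq0 (by simpa using hq)
  obtain ⟨z, hz1, hz2⟩ := QuadSim.exists_dual_vec h.nd hpq
  have := h.ident hX p q z
  rw [hp, hq, map_smul, map_smul, hp, hq] at this
  simp [polar_comm Q z p, polar_comm Q z q, hz1, hz2 p (Submodule.mem_span_singleton_self p)] at this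
  have h' : ((c - d) * (c - d)) • p = 0 := by rw [← neg_eq_zero, ← this]; module
  exact sub_eq_zero.1 (mul_self_eq_zero.1 ((smul_eq_zero.1 h').resolve_right hp0))

lemma CommInv.exists_shift {X : Module.End F (ι → F)} (hX : X ∈ Sig) :
    ∃ c : F, (∀ x, (X - c • 1) ((X - c • 1) x) = 0) ∨
      ((3 : F) = 0 ∧ ∀ x, (X - c • 1) ((X - c • 1) ((X - c • 1) x)) = 0) := by
  by_cases h3 : (3 : F) = 0
  · have hcube : ∀ p, ∃ d : F, X (X (X p)) = d • p := by
      intro p
      rcases eq_or_ne p 0 with rfl | hp0
      · exact ⟨0, by simp⟩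
      obtain ⟨z, hz⟩ := Classical.Quad.exists_polar_one h.nd hp0
      refine ⟨polar Q z (X (X (X p))), ?_⟩
      have := h.ident hX p (X p) z
      rw [polar_comm Q p z] at hz
      rw [hz, one_smul] at this
      rw [show (2 : F) = -1 by linear_combination h3, neg_one_smul] at this
      rw [← sub_eq_zero, ← this]
      module
    obtain ⟨i⟩ : Nonempty ι := Fintype.card_pos_iff.1 (by have := h.three; omega)
    set p₀ : ι → F := Pi.single i 1
    have hp₀ : p₀ ≠ 0 := fun e => one_ne_zero (α := F) (by simpa [p₀] using congrFun e i)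
    obtain ⟨d, hd⟩ := hcube p₀
    have hall : ∀ p, X (X (X p)) = d • p := by
      intro p
      obtain ⟨e, he⟩ := hcube p
      by_cases hp : p ∈ Submodule.span F {p₀}
      · obtain ⟨s, rfl⟩ := Submodule.mem_span_singleton.1 hp
        rw [map_smul, map_smul, map_smul, hd, smul_comm]
      obtain ⟨f, hf⟩ := hcube (p + p₀)
      rw [map_add, map_add, map_add, he, hd, smul_add] at hf
      have h1 : (e - f) • p = (f - d) • p₀ := by linear_combination (norm := module) hf
      have hef : e - f = 0 := by
        by_contra hne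
        exact hp (Submodule.mem_span_singleton.2 ⟨(e - f)⁻¹ * (f - d), by
          rw [mul_smul, ← h1, inv_smul_smul₀ hne]⟩)
      rw [hef, zero_smul] at h1
      rw [he, sub_eq_zero.1 hef, sub_eq_zero.1 ((smul_eq_zero.1 h1.symm).resolve_right hp₀)]
    have : Fact (Nat.Prime 3) := ⟨Nat.prime_three⟩
    have : CharP F 3 := (CharP.charP_iff_prime_eq_zero Nat.prime_three).2 (by exact_mod_cast h3)
    obtain ⟨c, hc⟩ := Finite.injective_iff_surjective.1 (frobenius_inj F 3) d
    rw [frobenius_def] at hc
    refine ⟨c, Or.inr ⟨h3, fun x => ?_⟩⟩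
    simp only [LinearMap.sub_apply, LinearMap.smul_apply, Module.End.one_apply, map_sub, map_smul, hall]
    match_scalars
    · linear_combination -hc + 0 * h3
    · linear_combination (-c) * h3
    · linear_combination (c ^ 2) * h3
  have hdich : ∀ p, X p ∈ Submodule.span F {p} ∨ X (X p) ∈ Submodule.span F {p, X p} := by
    intro p
    by_contra hcon
    push Not at hcon
    obtain ⟨h1, h2⟩ := hcon
    have hXp : X p ∉ Submodule.span F {p, X (X p)} := fun hm => by
      obtain ⟨s, t, hst⟩ := Submodule.mem_span_pair.1 hm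
      rcases eq_or_ne t 0 with rfl | ht
      · exact h1 (Submodule.mem_span_singleton.2 ⟨s, by rw [← hst, zero_smul, add_zero]⟩)
      · refine h2 (Submodule.mem_span_pair.2 ⟨-(t⁻¹ * s), t⁻¹, ?_⟩)
        conv_lhs => rw [← hst]
        rw [smul_add, smul_smul, smul_smul, inv_mul_cancel₀ ht, one_smul]; module
    obtain ⟨z, hz1, hz2⟩ := QuadSim.exists_dual_vec h.nd hXp
    have := h.ident hX p (X p) z
    rw [polar_comm Q z (X p), hz1, polar_comm Q z p, hz2 p (Submodule.subset_span (by simp)),
      polar_comm Q z (X (X p)), hz2 _ (Submodule.subset_span (by simp))] at this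
    refine h2 (Submodule.mem_span_pair.2 ⟨-((3 : F)⁻¹ * polar Q z (X (X (X p)))), 0, ?_⟩)
    have h' : (3 : F) • X (X p) = -polar Q z (X (X (X p))) • p := by
      rw [← sub_eq_zero, ← neg_eq_zero, ← this]; module
    rw [zero_smul, add_zero, neg_mul_eq_mul_neg, mul_smul, ← h', inv_smul_smul₀ h3]
  have hquad : ∀ p, X p ∉ Submodule.span F {p} →
      ∃ (c : F) (z : ι → F), z ≠ 0 ∧ X z = c • z ∧ (X - c • 1) ((X - c • 1) p) = 0 := by
    intro p hp
    obtain ⟨β, α, hYp⟩ := Submodule.mem_span_pair.1 ((hdich p).resolve_left hp)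
    obtain ⟨z, hz, hz0⟩ := Submodule.exists_mem_ne_zero_of_ne_bot
      (p := QuadSim.perpOf Q (Submodule.span F {p, X p})) (fun e => by
        have h1 := QuadSim.finrank_perpOf (Q := Q) (Submodule.span F {p, X p})
        have := QuadSim.finrank_span_two_le p (X p)
        rw [e, finrank_bot] at h1
        have := h.three; omega)
    have hzp : polar Q z p = 0 := QuadSim.mem_perpOf.1 hz p (Submodule.subset_span (by simp))
    have hzX : polar Q z (X p) = 0 := QuadSim.mem_perpOf.1 hz _ (Submodule.subset_span (by simp))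
    have hcoef : ∀ q, 2 * polar Q z (X q) - α * polar Q z q = 0 ∧
        β * polar Q z q + polar Q z (X (X q)) = 0 := by
      intro q
      have h1 := h.ident hX p q z
      rw [← hYp, polar_add_right, polar_smul_right, polar_smul_right, hzp, hzX] at h1
      set A := 2 * polar Q z (X q) - α * polar Q z q
      set B := β * polar Q z q + polar Q z (X (X q))
      have h2 : A • X p = B • p := by rw [← sub_eq_zero, ← h1]; simp [A, B]; module
      have hA : A = 0 := by
        by_contra hA
        exact hp (Submodule.mem_span_singleton.2 ⟨A⁻¹ * B, by rw [mul_smul, ← h2, inv_smul_smul₀ hA]⟩)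
      rw [hA, zero_smul] at h2
      refine ⟨hA, (smul_eq_zero.1 h2.symm).resolve_right fun e => hp ?_⟩
      rw [e, map_zero]; exact Submodule.zero_mem _
    set c := α / 2
    have hzc : X z = c • z := by
      refine sub_eq_zero.1 (h.nd _ fun q => ?_)
      rw [polar_sub_left, polar_smul_left, h.sa X hX, smul_eq_mul]
      have := (hcoef q).1
      have h22 := mul_inv_cancel₀ h.two
      simp only [c, div_eq_mul_inv]
      linear_combination (2 : F)⁻¹ * this - polar Q z (X q) * h22
    have hβ : β = -(c * c) := by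
      obtain ⟨q, hq⟩ := Classical.Quad.exists_polar_one h.nd hz0
      have := (hcoef q).2
      rw [← h.sa X hX, ← h.sa X hX, hzc, map_smul, hzc, polar_smul_left, polar_smul_left, hq] at this
      simp at this
      linear_combination this
    refine ⟨c, z, hz0, hzc, ?_⟩
    simp only [LinearMap.sub_apply, LinearMap.smul_apply, Module.End.one_apply, map_sub, map_smul, ← hYp,
      hβ, c]
    match_scalars <;> field_simp [h.two] <;> ring
  obtain ⟨i⟩ : Nonempty ι := Fintype.card_pos_iff.1 (by have := h.three; omega)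
  set p₀ : ι → F := Pi.single i 1
  have hp₀ : p₀ ≠ 0 := fun e => one_ne_zero (α := F) (by simpa [p₀] using congrFun e i)
  obtain ⟨c, z₀, hz₀, hzc⟩ : ∃ (c : F) (z₀ : ι → F), z₀ ≠ 0 ∧ X z₀ = c • z₀ := by
    by_cases hm : X p₀ ∈ Submodule.span F {p₀}
    · obtain ⟨c, hc⟩ := Submodule.mem_span_singleton.1 hm
      exact ⟨c, p₀, hp₀, hc.symm⟩
    · obtain ⟨c, z, hz, hzc, -⟩ := hquad p₀ hm
      exact ⟨c, z, hz, hzc⟩
  refine ⟨c, Or.inl fun p => ?_⟩
  by_cases hm : X p ∈ Submodule.span F {p}
  · obtain ⟨d, hd⟩ := Submodule.mem_span_singleton.1 hm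
    rcases eq_or_ne p 0 with rfl | hp
    · simp
    rw [← h.eig_unique hX hzc hd.symm hz₀ hp] at hd
    simp [← hd]
  · obtain ⟨d, z, hz, hzd, hd⟩ := hquad p hm
    rwa [h.eig_unique hX hzc hzd hz₀ hz]

lemma CommInv.exists_mover {y : ι → F} (hy : Q y = 0) (hy0 : y ≠ 0) :
    ∃ (u w : ι → F) (hu : Q u = 0) (hw : polar Q u w = 0),
      polar Q y ((siegel Q u w hu hw).1 y) ≠ 0 := by
  obtain ⟨y0, hy0', hyy⟩ := exists_hyp h.nd hy hy0
  obtain ⟨r, hry, hry0, hQr⟩ := h.exists_nonsingular hy hy0' hyy
  refine ⟨y0, r, hy0', by rw [polar_comm]; exact hry0, ?_⟩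
  simp [Classical.Quad.siegel_apply, hyy, Classical.Quad.polar_singular_self hy, polar_comm Q y r, hry, hQr]

/-- The maps are scalars. -/
theorem CommInv.scalar {X : Module.End F (ι → F)} (hX : X ∈ Sig) : ∃ c : F, ∀ x, X x = c • x := by
  obtain ⟨c, hc⟩ := h.exists_shift hX
  refine ⟨c, fun x => ?_⟩
  set N := X - c • (1 : Module.End F (ι → F)) with hNdef
  have hN : N ∈ Sig := Sig.sub_mem hX (Sig.smul_mem c h.one_mem)
  suffices hN0 : N = 0 by
    have := LinearMap.congr_fun hN0 x
    simpa [hNdef, sub_eq_zero] using this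
  by_contra hN0
  by_cases hsq : ∀ x, N (N x) = 0
  · obtain ⟨p₀, hp₀⟩ : ∃ p, N p ≠ 0 := by
      by_contra hcon; push Not at hcon; exact hN0 (LinearMap.ext hcon)
    set y := N p₀
    obtain ⟨z, hz⟩ := Classical.Quad.exists_polar_one h.nd hp₀
    rw [polar_comm] at hz
    have hy : Q y = 0 := by
      have h1 : polar Q y y = 0 := by rw [h.sa N hN, hsq, polar_zero_right]
      rw [Classical.Quad.polar_self'] at h1
      exact (mul_eq_zero.1 h1).resolve_left h.two
    have hline : ∀ q, N q = polar Q z (N q) • y := fun q => by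
      have h1 := h.ident hN p₀ q z
      rw [hsq, hsq, hz] at h1
      simp only [polar_zero_right, zero_smul, smul_zero, sub_zero, zero_sub, add_zero, neg_eq_zero,
        smul_eq_zero, h.two, false_or, sub_eq_zero, one_smul] at h1
      exact h1
    set κ := polar Q z (N z)
    have hμ : ∀ q, N q = (κ * polar Q q y) • y := fun q => by
      rw [hline q, ← h.sa N hN z q, hline z, polar_smul_left, polar_comm Q y q, smul_eq_mul]
    have hκ : κ ≠ 0 := fun e => hp₀ ((hμ p₀).trans (by rw [e, zero_mul, zero_smul]))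
    obtain ⟨u, w, hu, hw, hT⟩ := h.exists_mover hy hp₀
    set T := siegel Q u w hu hw
    have hT' : ∀ q, (T.1 : Module.End F (ι → F)) (N ((T⁻¹.1 : Module.End F (ι → F)) q)) =
        (κ * polar Q q (T.1 y)) • T.1 y := fun q => by
      rw [hμ, map_smul]
      congr 2
      rw [← Classical.Quad.orth_polar T]
      simp [Classical.Quad.self_apply_inv]
    obtain ⟨q, hq1, hq2⟩ := Classical.Quad.exists_polar_pair h.nd
      (Classical.Quad.not_smul_eq_of_indep (u := y) (w := T.1 y) (fun e => hT (by rw [e, polar_zero_right]))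
        fun s hs => by
          rcases eq_or_ne s 0 with rfl | hs0
          · rw [zero_smul] at hs; exact hp₀ hs.symm
          · apply hT
            have hTy : T.1 y = s⁻¹ • y := by
              conv_rhs => rw [← hs, inv_smul_smul₀ hs0]
            rw [hTy, polar_smul_right,
              Classical.Quad.polar_singular_self hy, smul_zero]) 0 1
    have hcomm := LinearMap.congr_fun (h.comm _ (h.conj N hN u w hu hw) N hN) q
    simp only [Module.End.mul_apply] at hcomm
    rw [hT', hμ q, hT', hμ (((κ * polar Q q (T.1 y))) • T.1 y)] at hcomm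
    rw [polar_comm Q q y, hq1, polar_comm Q q (T.1 y), hq2, polar_smul_left, polar_smul_left,
      polar_comm Q (T.1 y) y] at hcomm
    simp [hκ, hT] at hcomm
    exact hp₀ ((smul_eq_zero.1 hcomm.symm).resolve_left (by simp [hκ, hT]))
  · rcases hc with hc | ⟨h3, hc⟩
    · exact hsq hc
    push Not at hsq
    obtain ⟨b₀, hb₀⟩ := hsq
    set a₀ := N (N b₀) with ha₀
    have hker : ∀ p, N p = 0 → p ≠ 0 → a₀ ∈ Submodule.span F {p} := by
      intro p hp hp0
      obtain ⟨z, hz⟩ := Classical.Quad.exists_polar_one h.nd hp0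
      rw [polar_comm] at hz
      have h1 := h.ident hN p b₀ z
      rw [hp, hz, map_zero] at h1
      refine Submodule.mem_span_singleton.2 ⟨polar Q z a₀, ?_⟩
      rw [eq_comm, ← sub_eq_zero, ← h1]
      simp [ha₀]
      try module
    have ha : Q a₀ = 0 := by
      have h1 : polar Q a₀ a₀ = 0 := by rw [ha₀, h.sa N hN, hc, polar_zero_right]
      rw [Classical.Quad.polar_self'] at h1
      exact (mul_eq_zero.1 h1).resolve_left h.two
    obtain ⟨u, w, hu, hw, hT⟩ := h.exists_mover ha hb₀
    set T := siegel Q u w hu hw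
    have hline : ∀ p, N p = 0 → ∃ s : F, p = s • a₀ := fun p hp => by
      rcases eq_or_ne p 0 with rfl | hp0
      · exact ⟨0, (zero_smul F a₀).symm⟩
      obtain ⟨s, hs⟩ := Submodule.mem_span_singleton.1 (hker p hp hp0)
      have hs0 : s ≠ 0 := fun e => hb₀ (by rw [← hs, e, zero_smul])
      exact ⟨s⁻¹, by rw [← hs, inv_smul_smul₀ hs0]⟩
    have hNa : N a₀ = 0 := hc b₀
    have hcomm := LinearMap.congr_fun (h.comm _ (h.conj N hN u w hu hw) N hN) a₀
    simp only [Module.End.mul_apply, hNa, map_zero] at hcomm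
    obtain ⟨l, hl⟩ := hline _ hcomm.symm
    set N' : (ι → F) → ι → F := fun q => T.1 (N (T⁻¹.1 q))
    have hN' : N' a₀ = l • a₀ := hl
    have hN'3 : N' (N' (N' a₀)) = 0 := by
      simp [N', Classical.Quad.inv_apply_self, hc]
    have hl' : N' (l • a₀) = (l * l) • a₀ := by
      simp only [N', map_smul] at hN' ⊢
      rw [hN', smul_smul]
    have hl'' : N' ((l * l) • a₀) = (l * l * l) • a₀ := by
      simp only [N', map_smul] at hN' ⊢
      rw [hN', smul_smul]
    rw [hN', hl', hl'', smul_eq_zero, or_iff_left hb₀] at hN'3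
    have hl0 : l = 0 := by simpa using hN'3
    rw [hl0, zero_smul] at hN'
    have h0 : N (T⁻¹.1 a₀) = 0 := by
      have := congrArg (fun q => T⁻¹.1 q) hN'
      simpa [N', Classical.Quad.inv_apply_self] using this
    obtain ⟨s, hs⟩ := hline _ h0
    have h1 := congrArg (fun q => T.1 q) hs
    simp only [Classical.Quad.self_apply_inv, map_smul] at h1
    have hs0 : s ≠ 0 := fun e => hb₀ (h1.trans (by rw [e, zero_smul]))
    apply hT
    rw [show T.1 a₀ = s⁻¹ • a₀ by conv_rhs => rw [h1, inv_smul_smul₀ hs0], polar_smul_right,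
      Classical.Quad.polar_singular_self ha, smul_zero]

end CfsgLib.ClassicalMax.OTens
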