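/-
Pairs of self-adjoint maps of a three-dimensional space with vanishing commutator relation for an anisotropic
form consist of scalars.
-/
import Cfsg.Agent.Lib.ClassicalMax.OrthTensorMax.Scalar
set_option autoImplicit false
set_option linter.unusedSectionVars false
set_option linter.unusedVariables false
set_option linter.unusedSimpArgs false

namespace CfsgLib.ClassicalMax.OTens

open Matrix Cfsg.Geo QuadraticMap Module
open CfsgLib.Classical.Quad (NDPolar Orth siegel siegelGroup)

variable {F : Type*} [Field F] [Fintype F] [DecidableEq F] {ι : Type} [Fintype ι] [DecidableEq ι]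
  {Q : QuadraticForm F (ι → F)}

/-- The weighted sum extracts the fourth coefficient. -/
lemma wsum_quartic {Z : Type*} [AddCommGroup Z] [Module F Z] (h5 : 5 ≤ Fintype.card F) (A B C D G : Z) :
    ∑ t : F, t ^ (Fintype.card F - 5) • (A + t • B + (t ^ 2) • C + (t ^ 3) • D + (t ^ 4) • G) = -G := by
  obtain ⟨e, he⟩ : ∃ e, e = Fintype.card F - 5 := ⟨_, rfl⟩
  rw [← he]
  have h0 : ∀ i, i < 4 → ∑ t : F, t ^ (e + i) = 0 := fun i hi =>
    FiniteField.sum_pow_lt_card_sub_one F _ (by omega)
  have h4 : ∑ t : F, t ^ (e + 4) = -1 := by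
    have hN : e + 4 = Fintype.card F - 1 := by omega
    rw [hN, ← Finset.sum_erase_add _ _ (Finset.mem_univ (0 : F)), zero_pow (by omega), add_zero,
      Finset.sum_congr rfl fun t ht => FiniteField.pow_card_sub_one_eq_one t (Finset.ne_of_mem_erase ht),
      Finset.sum_const, Finset.card_erase_of_mem (Finset.mem_univ _), Finset.card_univ, nsmul_one,
      Nat.cast_sub (by omega), FiniteField.cast_card_eq_zero, Nat.cast_one, zero_sub]
  simp only [smul_add, smul_smul, ← pow_succ, ← pow_add, Finset.sum_add_distrib, ← Finset.sum_smul]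
  have e0 := h0 0 (by omega)
  rw [add_zero] at e0
  rw [e0, h0 1 (by omega), h0 2 (by omega), h0 3 (by omega), h4]
  simp

/-- A basis of a three-dimensional space from a hyperbolic pair. -/
lemma decomp_three (hnd : NDPolar Q) (h2 : (2 : F) ≠ 0) (h3 : Fintype.card ι = 3) {u u' r : ι → F}
    (hu : Q u = 0) (hu' : Q u' = 0) (huu : polar Q u u' = 1) (hru : polar Q r u = 0)
    (hru' : polar Q r u' = 0) (hr : Q r ≠ 0) (x : ι → F) :
    x = polar Q x u' • u + polar Q x u • u' + (polar Q x r / (2 * Q r)) • r := by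
  let Φ : (ι → F) →ₗ[F] F × F × F := LinearMap.prod ((polarBilin Q).flip u)
    (LinearMap.prod ((polarBilin Q).flip u') ((polarBilin Q).flip r))
  have hΦ : ∀ z, Φ z = (polar Q z u, polar Q z u', polar Q z r) := fun z => rfl
  have hsurj : Function.Surjective Φ := fun p => ⟨p.2.1 • u + p.1 • u' + (p.2.2 / (2 * Q r)) • r, by
    simp [hΦ, Classical.Quad.polar_singular_self hu, Classical.Quad.polar_singular_self hu', huu, hru, hru',
      polar_comm Q u' u, polar_comm Q u r, polar_comm Q u' r, Classical.Quad.polar_self', h2, hr]⟩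
  have hinj := (LinearMap.injective_iff_surjective_of_finrank_eq_finrank (f := Φ) (by
    rw [finrank_prod, finrank_prod, finrank_self, finrank_fintype_fun_eq_card, h3])).2 hsurj
  apply hinj
  simp [hΦ, Classical.Quad.polar_singular_self hu, Classical.Quad.polar_singular_self hu', huu, hru, hru',
    polar_comm Q u' u, polar_comm Q u r, polar_comm Q u' r, Classical.Quad.polar_self', h2, hr]

/-- A self-adjoint map isotropic on the conic is a scalar. -/
lemma scalar_of_conic (hnd : NDPolar Q) (h2 : (2 : F) ≠ 0) (h3 : Fintype.card ι = 3)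
    (h5 : 5 ≤ Fintype.card F) {X : Module.End F (ι → F)} (hsa : ∀ x y, polar Q (X x) y = polar Q x (X y))
    (hc : ∀ u, Q u = 0 → polar Q (X u) u = 0) : ∃ c : F, X = c • 1 := by
  obtain ⟨u, -, hu0, hu⟩ := OmS.exists_singular_of_three (Q := Q) h2 (S := ⊤)
    (by rw [finrank_top, finrank_fintype_fun_eq_card, h3])
  obtain ⟨u', hu', huu⟩ := exists_hyp hnd hu hu0
  obtain ⟨r, hru, hru', hr⟩ := exists_nonsingular_perp_pair hnd (by omega) hu hu' huu
  have hrr := Classical.Quad.polar_self' (Q := Q) r
  have hu1 := Classical.Quad.polar_singular_self hu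
  have hu1' := Classical.Quad.polar_singular_self hu'
  set k00 := polar Q (X u) u
  set k01 := polar Q (X u) u' with hk01
  set k02 := polar Q (X u) r with hk02
  set k11 := polar Q (X u') u'
  set k12 := polar Q (X u') r with hk12
  set k22 := polar Q (X r) r with hk22
  have s01 : polar Q (X u') u = k01 := by rw [hsa, polar_comm]
  have s02 : polar Q (X r) u = k02 := by rw [hsa, polar_comm]
  have s12 : polar Q (X r) u' = k12 := by rw [hsa, polar_comm]
  have hk00 : k00 = 0 := hc u hu
  have hk11 : k11 = 0 := hc u' hu'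
  have hf : ∀ t : F, 2 * t * k02 + (t * t) * (k22 - 2 * Q r * k01) - 2 * (t * t * t) * Q r * k12 = 0 := by
    intro t
    have h := hc (u + t • r + (-(t * t * Q r)) • u') (by
      rw [Classical.Quad.Q_comb1, QuadraticMap.map_add (⇑Q), QuadraticMap.map_smul, hu, hu', polar_smul_right,
        polar_comm Q u r, hru, polar_add_left, polar_smul_left, huu, hru']
      simp only [smul_eq_mul]; ring)
    simp only [map_add, map_smul, polar_add_left, polar_add_right, polar_smul_left, polar_smul_right,
      smul_eq_mul, s01, s02, s12, ← hk01, ← hk02, ← hk12, ← hk22] at h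
    linear_combination h - hk00 - (t * t * Q r) * (t * t * Q r) * hk11
  obtain ⟨t, ht0, ht1⟩ : ∃ t : F, t ≠ 0 ∧ t * t ≠ 1 := by
    by_contra hcon
    push Not at hcon
    have hsub : (Finset.univ : Finset F) ⊆ {0, 1, -1} := fun x _ => by
      rcases eq_or_ne x 0 with h | h
      · simp [h]
      · rcases mul_self_eq_one_iff.1 (hcon x h) with h | h <;> simp [h]
    have h := (Finset.card_le_card hsub).trans Finset.card_le_three
    rw [Finset.card_univ] at h
    omega
  have hodd : ∀ s : F, s ≠ 0 → k02 - (s * s) * (Q r * k12) = 0 := fun s hs => by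
    have h := hf s
    have h' := hf (-s)
    exact (mul_eq_zero.1 (show (4 * s) * (k02 - (s * s) * (Q r * k12)) = 0 by linear_combination h - h')).resolve_left
      (mul_ne_zero (by rw [show (4 : F) = 2 * 2 by norm_num]; exact mul_ne_zero h2 h2) hs)
  have e1 := hodd 1 one_ne_zero
  have e2 := hodd t ht0
  have hk12' : k12 = 0 := by
    have : (t * t - 1) * (Q r * k12) = 0 := by linear_combination e1 - e2
    exact (mul_eq_zero.1 ((mul_eq_zero.1 this).resolve_left (sub_ne_zero.2 ht1))).resolve_left hr
  have hk02' : k02 = 0 := by linear_combination e1 + Q r * hk12'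
  have hk22' : k22 = 2 * Q r * k01 := by
    linear_combination hf 1 - 2 * hk02' + 2 * Q r * hk12'
  refine ⟨k01, LinearMap.ext fun x => ?_⟩
  have hd := decomp_three hnd h2 h3 hu hu' huu hru hru' hr
  have hXu : X u = k01 • u := by
    rw [hd (X u)]
    simp [← hk01, ← hk02, show polar Q (X u) u = 0 from hk00, hk02']
  have hXu' : X u' = k01 • u' := by
    rw [hd (X u')]
    simp [s01, ← hk12, show polar Q (X u') u' = 0 from hk11, hk12']
  have hXr : X r = k01 • r := by
    rw [hd (X r)]
    simp [s02, s12, hk02', hk12', ← hk22, hk22', h2, hr]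
  rw [LinearMap.smul_apply, Module.End.one_apply, hd x]
  simp only [map_add, map_smul, hXu, hXu', hXr, smul_add, smul_smul]
  module

/-- Conjugation by a Siegel transformation. -/
noncomputable def cS (T : Orth Q) :
    Module.End F (ι → F) × Module.End F (ι → F) →ₗ[F] Module.End F (ι → F) × Module.End F (ι → F) :=
  let f : Module.End F (ι → F) →ₗ[F] Module.End F (ι → F) :=
    LinearMap.mulRight F ((T⁻¹).1 : Module.End F (ι → F)) ∘ₗ LinearMap.mulLeft F (T.1 : Module.End F (ι → F))
  LinearMap.prodMap f f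

lemma cS_apply (T : Orth Q) (p : Module.End F (ι → F) × Module.End F (ι → F)) :
    cS T p = ((T.1 : Module.End F (ι → F)) * p.1 * ((T⁻¹).1 : Module.End F (ι → F)),
      (T.1 : Module.End F (ι → F)) * p.2 * ((T⁻¹).1 : Module.End F (ι → F))) := rfl

/-- Invariant pairs of self-adjoint maps commuting for an anisotropic form are scalars. -/
theorem scalar_of_pairs (hnd : NDPolar Q) (h2 : (2 : F) ≠ 0) (h3 : Fintype.card ι = 3)
    (h5 : 5 ≤ Fintype.card F) {α β : F}
    (haniso : ∀ x y : F, β * (x * x) + α * (y * y) = 0 → x = 0 ∧ y = 0)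
    (Λ : Set (Module.End F (ι → F) × Module.End F (ι → F)))
    (hcomm : ∀ p ∈ Λ, ∀ q ∈ Λ, β • (p.1 * q.1 - q.1 * p.1) + α • (p.2 * q.2 - q.2 * p.2) = 0)
    (hconj : ∀ p ∈ Λ, ∀ (u w : ι → F) (hu : Q u = 0) (hw : polar Q u w = 0),
      cS (siegel Q u w hu hw) p ∈ Λ)
    (hsa : ∀ p ∈ Λ, (∀ x y, polar Q (p.1 x) y = polar Q x (p.1 y)) ∧ ∀ x y, polar Q (p.2 x) y = polar Q x (p.2 y))
    {p : Module.End F (ι → F) × Module.End F (ι → F)} (hp : p ∈ Λ) :
    (∃ c : F, p.1 = c • 1) ∧ ∃ c : F, p.2 = c • 1 := by
  set Sig := Submodule.span F Λ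
  have hB1 : ∀ p ∈ Sig, ∀ q ∈ Λ, β • (p.1 * q.1 - q.1 * p.1) + α • (p.2 * q.2 - q.2 * p.2) = 0 := by
    intro p hp q hq
    induction hp using Submodule.span_induction with
    | mem x hx => exact hcomm x hx q hq
    | zero => simp
    | add x y _ _ ex ey =>
      refine Eq.trans ?_ ((congrArg₂ (· + ·) ex ey).trans (add_zero 0))
      simp only [Prod.fst_add, Prod.snd_add, add_mul, mul_add, smul_add, smul_sub]
      module
    | smul c x _ ex =>
      refine Eq.trans ?_ ((congrArg (c • ·) ex).trans (smul_zero c))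
      simp only [Prod.smul_fst, Prod.smul_snd, smul_mul_assoc, mul_smul_comm, smul_add, smul_sub, smul_smul]
      module
  have hB : ∀ p ∈ Sig, ∀ q ∈ Sig, β • (p.1 * q.1 - q.1 * p.1) + α • (p.2 * q.2 - q.2 * p.2) = 0 := by
    intro p hp q hq
    induction hq using Submodule.span_induction with
    | mem x hx => exact hB1 p hp x hx
    | zero => simp
    | add x y _ _ ex ey =>
      refine Eq.trans ?_ ((congrArg₂ (· + ·) ex ey).trans (add_zero 0))
      simp only [Prod.fst_add, Prod.snd_add, add_mul, mul_add, smul_add, smul_sub]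
      module
    | smul c x _ ex =>
      refine Eq.trans ?_ ((congrArg (c • ·) ex).trans (smul_zero c))
      simp only [Prod.smul_fst, Prod.smul_snd, smul_mul_assoc, mul_smul_comm, smul_add, smul_sub, smul_smul]
      module
  have hcS : ∀ p ∈ Sig, ∀ (u w : ι → F) (hu : Q u = 0) (hw : polar Q u w = 0),
      cS (siegel Q u w hu hw) p ∈ Sig := fun p hp u w hu hw => by
    induction hp using Submodule.span_induction with
    | mem x hx => exact Submodule.subset_span (hconj x hx u w hu hw)
    | zero => rw [map_zero]; exact Sig.zero_mem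
    | add x y _ _ ex ey => rw [map_add]; exact Sig.add_mem ex ey
    | smul c x _ ex => rw [map_smul]; exact Sig.smul_mem c ex
  have key : ∀ u, Q u = 0 → polar Q (p.1 u) u = 0 ∧ polar Q (p.2 u) u = 0 := by
    intro u hu
    rcases eq_or_ne u 0 with rfl | hu0
    · simp
    obtain ⟨u', hu', huu⟩ := exists_hyp hnd hu hu0
    obtain ⟨r, hru, hru', hr⟩ := exists_nonsingular_perp_pair hnd (by omega) hu hu' huu
    have hur : ∀ t : F, polar Q u (t • r) = 0 := fun t => by rw [polar_smul_right, polar_comm, hru, smul_zero]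
    set ρ := Q r with hρ
    set N : Module.End F (ι → F) := wed Q u r with hN
    set E : Module.End F (ι → F) := ((polarBilin Q).flip u).smulRight u with hE
    have hEx : ∀ x, E x = polar Q x u • u := fun x => rfl
    have hT : ∀ t : F, ((siegel Q u (t • r) hu (hur t)).1 : Module.End F (ι → F)) =
        1 + t • N + (-(t ^ 2 * ρ)) • E := fun t => LinearMap.ext fun z => by
      simp [Classical.Quad.siegel_apply, wed_apply, hN, hEx, QuadraticMap.map_smul, hρ]
      module
    have hTi : ∀ t : F, (((siegel Q u (t • r) hu (hur t))⁻¹).1 : Module.End F (ι → F)) =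
        1 + (-t) • N + (-(t ^ 2 * ρ)) • E := fun t => by
      rw [Classical.Quad.siegel_inv]
      refine LinearMap.ext fun z => ?_
      simp [Classical.Quad.siegel_apply, wed_apply, hN, hEx, QuadraticMap.map_smul, QuadraticMap.map_neg, hρ]
      module
    have hEE : ∀ X : Module.End F (ι → F), E * X * E = polar Q (X u) u • E := fun X =>
      LinearMap.ext fun x => by
        simp [Module.End.mul_apply, hEx, smul_smul, mul_comm]
    set cX := polar Q (p.1 u) u
    set cY := polar Q (p.2 u) u
    have hmem : (cX • E, cY • E) ∈ Sig := by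
      have hsum : ∑ t : F, t ^ (Fintype.card F - 5) • cS (siegel Q u (t • r) hu (hur t)) p ∈ Sig :=
        Sig.sum_mem fun t _ => Sig.smul_mem _ (hcS p (Submodule.subset_span hp) u _ hu (hur t))
      have hexp : ∀ t : F, cS (siegel Q u (t • r) hu (hur t)) p =
          p + t • (N * p.1 - p.1 * N, N * p.2 - p.2 * N) +
          (t ^ 2) • (-(ρ • (E * p.1)) - N * p.1 * N - ρ • (p.1 * E), -(ρ • (E * p.2)) - N * p.2 * N - ρ • (p.2 * E)) +
          (t ^ 3) • (ρ • (E * p.1 * N) - ρ • (N * p.1 * E), ρ • (E * p.2 * N) - ρ • (N * p.2 * E)) +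
          (t ^ 4) • (ρ ^ 2 • (E * p.1 * E), ρ ^ 2 • (E * p.2 * E)) := fun t => by
        rw [cS_apply, hT, hTi]
        refine Prod.ext ?_ ?_ <;>
        · simp only [Prod.fst_add, Prod.snd_add, Prod.smul_fst, Prod.smul_snd, add_mul, mul_add, sub_mul, mul_sub,
            smul_mul_assoc, mul_smul_comm, smul_smul, one_mul, mul_one, smul_add, smul_sub, smul_neg, mul_assoc]
          module
      rw [Finset.sum_congr rfl fun t _ => by rw [hexp t]] at hsum
      erw [wsum_quartic h5] at hsum
      rw [hEE, hEE] at hsum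
      have := Sig.smul_mem (-(ρ ^ 2)⁻¹) hsum
      simpa [Prod.smul_mk, smul_smul, hr] using this
    have hw : polar Q u' r = 0 := by rw [polar_comm, hru']
    have hq := hB _ hmem _ (hcS _ hmem u' r hu' hw)
    set T := siegel Q u' r hu' hw
    rw [cS_apply] at hq
    simp only [smul_mul_assoc, mul_smul_comm, smul_smul, ← smul_sub] at hq
    have hzero := haniso cX cY
    set E' : Module.End F (ι → F) := (T.1 : Module.End F (ι → F)) * E * ((T⁻¹).1 : Module.End F (ι → F))
    have hq' : (β * (cX * cX) + α * (cY * cY)) • (E * E' - E' * E) = 0 := by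
      rw [← hq]; simp only [E', mul_assoc]; module
    have hne : (E * E' - E' * E) u ≠ 0 := by
      have hu1 := Classical.Quad.polar_singular_self hu
      have hTu : polar Q (T.1 u) u = -ρ := by
        simp [T, Classical.Quad.siegel_apply, huu, hu1, polar_comm Q u' u, hru, polar_comm Q u r, hρ]
      have hTiu : polar Q ((T⁻¹).1 u) u = -ρ := by
        simp [T, Classical.Quad.siegel_inv, Classical.Quad.siegel_apply, huu, hu1, polar_comm Q u' u, hru,
          polar_comm Q u r, hρ, QuadraticMap.map_neg]
      simp only [E', LinearMap.sub_apply, Module.End.mul_apply, LinearEquiv.coe_coe, hEx, hu1, hTiu, hTu, zero_smul, map_zero, sub_zero, map_smul, polar_smul_left, smul_eq_mul, smul_smul]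
      exact smul_ne_zero (mul_ne_zero (neg_ne_zero.2 hr) (neg_ne_zero.2 hr)) hu0
    exact hzero ((smul_eq_zero.1 hq').resolve_right fun e => hne (by rw [e, LinearMap.zero_apply]))
  exact ⟨scalar_of_conic hnd h2 h3 h5 (hsa p hp).1 fun u hu => (key u hu).1,
    scalar_of_conic hnd h2 h3 h5 (hsa p hp).2 fun u hu => (key u hu).2⟩

end CfsgLib.ClassicalMax.OTens
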