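/-
When the root sets are trivial, the stabiliser of a tensor line consists of tensors.
-/
import Cfsg.Agent.Lib.ClassicalMax.OrthTensorMax.Small
set_option autoImplicit false
set_option linter.unusedSectionVars false
set_option linter.unusedVariables false
set_option linter.unusedSimpArgs false

namespace CfsgLib.ClassicalMax.OTens

open Matrix Cfsg.Geo QuadraticMap Module
open CfsgLib.Classical.Quad (NDPolar Orth siegel siegelGroup)
open CfsgLib.ClassicalMax.Kron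

variable {F : Type*} [Field F] [Fintype F] [DecidableEq F] {a b : ℕ}

local notation:70 g:71 " •ᵥ " z:70 => Matrix.mulVec (Units.val g) z

variable {S : Space F a b} {M : Subgroup (GL (Fin a × Fin b) F)}

/-- Trivial on the line of `v` and on its orthogonal modulo the line. -/
def InR (S : Space F a b) (v : Fin b → F) (g : GL (Fin a × Fin b) F) : Prop :=
  (∀ x, g •ᵥ pt x v = pt x v) ∧ ∀ z, S.ct v z = 0 → ∃ e, g •ᵥ z - z = pt e v

/-- No root element but the identity is trivial on the orthogonal of a tensor line. -/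
def NoRoot (S : Space F a b) (M : Subgroup (GL (Fin a × Fin b) F)) : Prop :=
  ∀ v, S.Q2 v = 0 → v ≠ 0 → ∀ C ∈ Zs S M v, C = 0

/-- Only tensors act trivially around a tensor line. -/
def OnlyScalar (S : Space F a b) (M : Subgroup (GL (Fin a × Fin b) F)) : Prop :=
  ∀ v, S.Q2 v = 0 → v ≠ 0 → ∀ g ∈ M, InR S v g →
    ∃ (w : Fin b → F) (hv : S.Q2 v = 0) (hw : QuadraticMap.polar S.Q2 v w = 0),
      g = S.k2 (siegel S.Q2 v w hv hw)

/-- A hyperbolic pair of the second factor. -/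
structure HP (S : Space F a b) where
  v : Fin b → F
  w0 : Fin b → F
  hv : S.Q2 v = 0
  hw0 : S.Q2 w0 = 0
  h1 : QuadraticMap.polar S.Q2 v w0 = 1

namespace HP

variable (P : HP S)

lemma h1' : QuadraticMap.polar S.Q2 P.w0 P.v = 1 := by rw [polar_comm]; exact P.h1

lemma hvv : QuadraticMap.polar S.Q2 P.v P.v = 0 := Classical.Quad.polar_singular_self P.hv

lemma hww : QuadraticMap.polar S.Q2 P.w0 P.w0 = 0 := Classical.Quad.polar_singular_self P.hw0

lemma v_ne : P.v ≠ 0 := fun e => by simpa [e] using P.h1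

/-- Orthogonal to both members. -/
def InW (y : Fin b → F) : Prop :=
  QuadraticMap.polar S.Q2 P.v y = 0 ∧ QuadraticMap.polar S.Q2 P.w0 y = 0

/-- The projection on the orthogonal of the pair. -/
noncomputable def pr : (Fin b → F) →ₗ[F] (Fin b → F) :=
  LinearMap.id - (polarBilin S.Q2 P.w0).smulRight P.v - (polarBilin S.Q2 P.v).smulRight P.w0

lemma pr_apply (y : Fin b → F) : P.pr y =
    y - QuadraticMap.polar S.Q2 P.w0 y • P.v - QuadraticMap.polar S.Q2 P.v y • P.w0 := rfl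

lemma pr_mem (y : Fin b → F) : P.InW (P.pr y) := by
  constructor <;> simp [pr_apply, P.h1, P.h1', P.hvv, P.hww]

lemma pr_of_mem {y : Fin b → F} (hy : P.InW y) : P.pr y = y := by
  simp [pr_apply, hy.1, hy.2]

/-- The projection of a tensor on the tensors with the orthogonal of the pair. -/
noncomputable def prT : (Fin a × Fin b → F) →ₗ[F] (Fin a × Fin b → F) :=
  LinearMap.id - ptR P.v ∘ₗ S.ct P.w0 - ptR P.w0 ∘ₗ S.ct P.v

lemma prT_pt (x : Fin a → F) (y : Fin b → F) : P.prT (pt x y) = pt x (P.pr y) := by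
  simp [prT, pr_apply, S.ct_pt, pt_smul_left, pt_smul_right, pt_sub_right]

lemma prT_of {z : Fin a × Fin b → F} (hz : S.ct P.v z = 0) :
    P.prT z = z - pt (S.ct P.w0 z) P.v := by
  simp [prT, hz, pt_zero_left]

lemma eq_on_perp {W : Type*} [AddCommGroup W] [Module F W] (f : (Fin a × Fin b → F) →ₗ[F] W)
    (hL : ∀ x, f (pt x P.v) = 0) (hW : ∀ x y, P.InW y → f (pt x y) = 0)
    {z : Fin a × Fin b → F} (hz : S.ct P.v z = 0) : f z = 0 := by
  have := LinearMap.congr_fun (linear_ext (f := f ∘ₗ P.prT) (g := 0) fun x y => by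
    simp [P.prT_pt, hW x _ (P.pr_mem y)]) z
  rw [LinearMap.comp_apply, P.prT_of hz, map_sub, hL, sub_zero] at this
  exact this

/-- Two vectors of the orthogonal of the pair with product one. -/
lemma exists_dual_W : ∃ x x', P.InW x ∧ QuadraticMap.polar S.Q2 P.v x' = 0 ∧
    QuadraticMap.polar S.Q2 x x' = 1 := by
  obtain ⟨r, hrv, hrw, hr⟩ := exists_nonsingular_perp_pair S.nd2
    (by rw [Fintype.card_fin]; have := S.hb; omega) P.hv P.hw0 P.h1
  refine ⟨r, (2 * S.Q2 r)⁻¹ • r, ⟨by rw [polar_comm, hrv], by rw [polar_comm, hrw]⟩, ?_, ?_⟩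
  · rw [polar_smul_right, polar_comm, hrv, smul_zero]
  · rw [polar_smul_right, Classical.Quad.polar_self', smul_eq_mul,
      inv_mul_cancel₀ (mul_ne_zero S.two hr)]

/-- In dimension four the orthogonal of the pair is an anisotropic plane. -/
lemma small_basis (hb4 : b = 4) : ∃ w1 w2, P.InW w1 ∧ P.InW w2 ∧ QuadraticMap.polar S.Q2 w1 w2 = 0 ∧
    S.Q2 w1 ≠ 0 ∧ S.Q2 w2 ≠ 0 ∧
    (∀ x y : F, x * x * S.Q2 w1 + y * y * S.Q2 w2 = 0 → x = 0 ∧ y = 0) ∧
    ∀ z, P.InW z → z = (QuadraticMap.polar S.Q2 z w1 / (2 * S.Q2 w1)) • w1 +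
      (QuadraticMap.polar S.Q2 z w2 / (2 * S.Q2 w2)) • w2 := by
  have haniso : ∀ y, P.InW y → S.Q2 y = 0 → y = 0 := fun y hy hQy => by
    obtain ⟨c, hc⟩ := (S.small hb4).2 P.v y P.hv hQy hy.1 P.v_ne
    have h := hy.2
    rw [← hc, polar_smul_right, P.h1', smul_eq_mul, mul_one] at h
    rw [← hc, h, zero_smul]
  obtain ⟨w1, h1v, h1w, hQ1⟩ := exists_nonsingular_perp_pair S.nd2
    (by rw [Fintype.card_fin]; omega) P.hv P.hw0 P.h1
  let Φ : (Fin b → F) →ₗ[F] F × F × F := LinearMap.prod (polarBilin S.Q2 P.v)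
    (LinearMap.prod (polarBilin S.Q2 P.w0) (polarBilin S.Q2 w1))
  obtain ⟨w2, hw, hw20⟩ := Submodule.exists_mem_ne_zero_of_ne_bot
    (LinearMap.ker_ne_bot_of_finrank_lt (f := Φ) (by
      rw [finrank_prod, finrank_prod, finrank_self, finrank_fin_fun]; omega))
  have h2v : QuadraticMap.polar S.Q2 P.v w2 = 0 := congrArg Prod.fst hw
  have h2w : QuadraticMap.polar S.Q2 P.w0 w2 = 0 := congrArg (fun t => t.2.1) hw
  have h12 : QuadraticMap.polar S.Q2 w1 w2 = 0 := congrArg (fun t => t.2.2) hw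
  have hW1 : P.InW w1 := ⟨by rw [polar_comm, h1v], by rw [polar_comm, h1w]⟩
  have hQ2 : S.Q2 w2 ≠ 0 := fun e => hw20 (haniso w2 ⟨h2v, h2w⟩ e)
  refine ⟨w1, w2, hW1, ⟨h2v, h2w⟩, h12, hQ1, hQ2, fun x y hxy => ?_, fun z hz => ?_⟩
  · have h0 := haniso (x • w1 + y • w2) ⟨by simp [hW1.1, h2v], by simp [hW1.2, h2w]⟩ (by
      rw [QuadraticMap.map_add (⇑S.Q2), QuadraticMap.map_smul, QuadraticMap.map_smul, polar_smul_left,
        polar_smul_right, h12]
      simpa using hxy)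
    have e1 := congrArg (QuadraticMap.polar S.Q2 w1) h0
    have e2 := congrArg (QuadraticMap.polar S.Q2 w2) h0
    simp [h12, polar_comm (⇑S.Q2) w2 w1, Classical.Quad.polar_self', S.two, hQ1, hQ2] at e1 e2
    exact ⟨e1, e2⟩
  · let Ψ : (Fin b → F) →ₗ[F] F × F × F × F := LinearMap.prod ((polarBilin S.Q2).flip P.v)
      (LinearMap.prod ((polarBilin S.Q2).flip P.w0)
        (LinearMap.prod ((polarBilin S.Q2).flip w1) ((polarBilin S.Q2).flip w2)))
    have hΨ : ∀ z, Ψ z = (QuadraticMap.polar S.Q2 z P.v, QuadraticMap.polar S.Q2 z P.w0,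
      QuadraticMap.polar S.Q2 z w1, QuadraticMap.polar S.Q2 z w2) := fun z => rfl
    have hsurj : Function.Surjective Ψ := fun p => ⟨p.2.1 • P.v + p.1 • P.w0 +
      (p.2.2.1 / (2 * S.Q2 w1)) • w1 + (p.2.2.2 / (2 * S.Q2 w2)) • w2, by
      simp [hΨ, P.hvv, P.hww, P.h1, P.h1', polar_comm (⇑S.Q2) P.v w1, polar_comm (⇑S.Q2) P.w0 w1, h1v, h1w,
        h2v, h2w, h12, polar_comm (⇑S.Q2) w2 P.v, polar_comm (⇑S.Q2) w2 P.w0, polar_comm (⇑S.Q2) w2 w1,
        Classical.Quad.polar_self', S.two, hQ1, hQ2]⟩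
    have hinj := (LinearMap.injective_iff_surjective_of_finrank_eq_finrank (f := Ψ) (by
      rw [finrank_prod, finrank_prod, finrank_prod, finrank_self, finrank_fin_fun, hb4])).2 hsurj
    apply hinj
    simp [hΨ, polar_comm (⇑S.Q2) z P.v, polar_comm (⇑S.Q2) z P.w0, hz.1, hz.2,
      h1v, h1w, polar_comm (⇑S.Q2) w2 P.v, polar_comm (⇑S.Q2) w2 P.w0, h2v, h2w, h12,
      polar_comm (⇑S.Q2) w2 w1, Classical.Quad.polar_self', S.two, hQ1, hQ2]

lemma exists_singular (h5 : 5 ≤ b) : ∃ x, S.Q2 x = 0 ∧ x ≠ 0 ∧ P.InW x := by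
  obtain ⟨x, hx, hx0, h1, h2⟩ := exists_singular_perp (Q := S.Q2) S.two P.v P.w0
    (by rw [Fintype.card_fin]; exact h5)
  exact ⟨x, hx, hx0, h1, h2⟩

lemma exists_quad (h5 : 5 ≤ b) {x : Fin b → F} (hx : S.Q2 x = 0) (hx0 : x ≠ 0) (hxW : P.InW x) :
    ∃ x0 r, S.Q2 x0 = 0 ∧ P.InW x0 ∧ QuadraticMap.polar S.Q2 x x0 = 1 ∧ P.InW r ∧
      QuadraticMap.polar S.Q2 x r = 0 ∧ QuadraticMap.polar S.Q2 x0 r = 0 ∧ S.Q2 r ≠ 0 := by
  obtain ⟨y, hy⟩ := Classical.Quad.exists_polar_one S.nd2 hx0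
  set y' := P.pr y
  have hxy' : QuadraticMap.polar S.Q2 x y' = 1 := by
    simp [y', pr_apply, hy, polar_comm (⇑S.Q2) x P.v, polar_comm (⇑S.Q2) x P.w0, hxW.1, hxW.2]
  set x0 := y' + (-(S.Q2 y')) • x
  have hx0Q : S.Q2 x0 = 0 := by
    rw [Classical.Quad.Q_comb1, hx, polar_comm (⇑S.Q2) y' x, hxy']; ring
  have hxx0 : QuadraticMap.polar S.Q2 x x0 = 1 := by
    simp [x0, hxy', Classical.Quad.polar_singular_self hx]
  have hx0W : P.InW x0 := ⟨by simp [x0, (P.pr_mem y).1, hxW.1, y'], by simp [x0, (P.pr_mem y).2, hxW.2, y']⟩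
  refine ⟨x0, ?_⟩
  let pr2 : (Fin b → F) → (Fin b → F) := fun q =>
    P.pr q - QuadraticMap.polar S.Q2 x0 (P.pr q) • x - QuadraticMap.polar S.Q2 x (P.pr q) • x0
  have hpr2 : ∀ q, P.InW (pr2 q) ∧ QuadraticMap.polar S.Q2 x (pr2 q) = 0 ∧
      QuadraticMap.polar S.Q2 x0 (pr2 q) = 0 := fun q =>
    ⟨⟨by simp [pr2, (P.pr_mem q).1, hxW.1, hx0W.1], by simp [pr2, (P.pr_mem q).2, hxW.2, hx0W.2]⟩,
      by simp [pr2, Classical.Quad.polar_singular_self hx, hxx0],
      by simp [pr2, Classical.Quad.polar_singular_self hx0Q, polar_comm (⇑S.Q2) x0 x, hxx0]⟩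
  by_contra hcon
  push Not at hcon
  have hz : ∀ q, S.Q2 (pr2 q) = 0 := fun q =>
    hcon (pr2 q) hx0Q hx0W hxx0 (hpr2 q).1 (hpr2 q).2.1 (hpr2 q).2.2
  have hall : ∀ q, pr2 q = 0 := fun q => S.nd2 _ fun q' => by
    have h1 : QuadraticMap.polar S.Q2 (pr2 q) (pr2 q') = 0 := by
      have h2 : pr2 (q + q') = pr2 q + pr2 q' := by simp [pr2]; module
      rw [polar, ← h2, hz, hz, hz]; simp
    rw [← h1]
    obtain ⟨⟨e1, e2⟩, e3, e4⟩ := hpr2 q
    rw [polar_comm] at e1 e2 e3 e4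
    show _ = QuadraticMap.polar S.Q2 (pr2 q) (P.pr q' - QuadraticMap.polar S.Q2 x0 (P.pr q') • x -
      QuadraticMap.polar S.Q2 x (P.pr q') • x0)
    rw [P.pr_apply]
    simp only [polar_sub_right, polar_smul_right, e1, e2, e3, e4, smul_eq_mul, mul_zero, sub_zero]
  have hle : (⊤ : Submodule F (Fin b → F)) ≤
      Submodule.span F {P.v, P.w0} ⊔ Submodule.span F {x, x0} := fun q _ => by
    have h := hall q
    simp only [pr2] at h
    rw [pr_apply, sub_sub, sub_eq_zero, sub_sub, sub_eq_iff_eq_add] at h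
    rw [h]
    refine Submodule.add_mem _ (Submodule.mem_sup_right (Submodule.add_mem _ ?_ ?_))
      (Submodule.mem_sup_left (Submodule.add_mem _ ?_ ?_)) <;>
      exact Submodule.smul_mem _ _ (Submodule.subset_span (by simp))
  have h := Submodule.finrank_mono hle
  rw [finrank_top, finrank_fin_fun] at h
  have := QuadSim.finrank_span_two_le P.v P.w0
  have := QuadSim.finrank_span_two_le x x0
  have := Submodule.finrank_add_le_finrank_add_finrank (Submodule.span F {P.v, P.w0})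
    (Submodule.span F {x, x0})
  omega

end HP

variable (H : Hyp S M)
include H

lemma InR.perp {v : Fin b → F} {g : GL (Fin a × Fin b) F} (hg : g ∈ M) (hgR : InR S v g)
    {z : Fin a × Fin b → F} : S.ct v (g •ᵥ z) = S.ct v z := by
  refine sub_eq_zero.1 (S.nd1 _ fun x => ?_)
  rw [polar_sub_left, ← S.polar_pt_right, ← S.polar_pt_right]
  nth_rewrite 1 [← hgR.1 x]
  rw [H.polar hg, sub_self]

lemma InR.mul {v : Fin b → F} {g h : GL (Fin a × Fin b) F} (hh : h ∈ M) (hgR : InR S v g)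
    (hhR : InR S v h) : InR S v (g * h) := by
  refine ⟨fun x => by rw [gl_mulVec_mul, hhR.1, hgR.1], fun z hz => ?_⟩
  obtain ⟨e, he⟩ := hhR.2 z hz
  obtain ⟨e', he'⟩ := hgR.2 (h •ᵥ z) (by rw [InR.perp H hh hhR, hz])
  exact ⟨e' + e, by rw [gl_mulVec_mul, pt_add_left, ← he, ← he']; abel⟩

lemma InR.inv {v : Fin b → F} {g : GL (Fin a × Fin b) F} (hg : g ∈ M) (hgR : InR S v g) :
    InR S v g⁻¹ := by
  refine ⟨fun x => by nth_rewrite 1 [← hgR.1 x]; rw [gl_inv_mulVec_mulVec], fun z hz => ?_⟩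
  set z' := g⁻¹ •ᵥ z
  have hz' : g •ᵥ z' = z := gl_mulVec_inv_mulVec g z
  obtain ⟨e, he⟩ := hgR.2 z' (by rw [← InR.perp H hg hgR, hz', hz])
  refine ⟨-e, ?_⟩
  rw [hz'] at he
  rw [← neg_one_smul F e, pt_smul_left, neg_one_smul, ← he]
  abel

variable (hS : NoRoot S M) (P : HP S)

lemma inR_siegel {w : Fin b → F} (hw : QuadraticMap.polar S.Q2 P.v w = 0) :
    InR S P.v (S.k2 (siegel S.Q2 P.v w P.hv hw)) := by
  refine ⟨fun x => by rw [S.k2_pt, Classical.Quad.siegel_fix P.hv hw P.hvv hw], fun z hz => ?_⟩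
  refine ⟨-(S.ct w z), ?_⟩
  rw [S.k2_siegel, hz, pt_zero_left, add_zero, smul_zero, add_zero, ← neg_one_smul F (S.ct w z),
    pt_smul_left]
  module

include hS

lemma eq_one_of_fix {g : GL (Fin a × Fin b) F} (hg : g ∈ M)
    (h : ∀ z, S.ct P.v z = 0 → g •ᵥ z = z) : g = 1 := by
  set G := Matrix.toLin' (g : Matrix (Fin a × Fin b) (Fin a × Fin b) F) - LinearMap.id with hG
  have hGz : ∀ z, G z = g •ᵥ z - z := fun z => by simp [hG, Matrix.toLin'_apply]
  set C : (Fin a → F) →ₗ[F] (Fin a → F) := S.ct P.w0 ∘ₗ G ∘ₗ ptR P.w0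
  have hD : ∀ z, G z = pt (S.ct P.w0 (G z)) P.v := fun z => by
    refine S.eq_pt P.h1 fun φ hφ => S.nd1 _ fun y => ?_
    rw [← S.polar_pt_right, hGz, polar_sub_left]
    nth_rewrite 1 [← h (pt y φ) (by rw [S.ct_pt, hφ, zero_smul])]
    rw [H.polar hg, sub_self]
  have hgz : ∀ z, g •ᵥ z = z + pt (C (S.ct P.v z)) P.v := by
    intro z
    have h0 : G (z - pt (S.ct P.v z) P.w0) = 0 := by
      rw [hGz, h _ (by rw [map_sub, S.ct_pt, P.h1, one_smul, sub_self]), sub_self]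
    rw [map_sub, sub_eq_zero] at h0
    rw [← sub_eq_iff_eq_add', ← hGz, h0, hD]
    rfl
  have hC : C ∈ Zs S M P.v := by
    refine ⟨fun x y => ?_, g, hg, hgz⟩
    have := H.polar hg (pt x P.w0) (pt y P.w0)
    rw [hgz, hgz, S.ct_pt, S.ct_pt, P.h1, one_smul, one_smul, polar_add_left, polar_add_right,
      polar_add_right, S.polar_pt, S.polar_pt, S.polar_pt, S.polar_pt, P.hww, P.h1, P.h1', P.hvv] at this
    simp only [mul_zero, mul_one, zero_add, add_zero] at this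
    linear_combination this
  refine gl_ext_mulVec fun z => ?_
  rw [hgz, hS _ P.hv P.v_ne C hC, LinearMap.zero_apply, pt_zero_left, add_zero, Units.val_one, one_mulVec]

lemma eq_of_agree {g h : GL (Fin a × Fin b) F} (hg : g ∈ M) (hh : h ∈ M) (hgR : InR S P.v g)
    (hhR : InR S P.v h) (hW : ∀ x y, P.InW y → g •ᵥ pt x y = h •ᵥ pt x y) : g = h := by
  have hagree : ∀ z, S.ct P.v z = 0 → g •ᵥ z = h •ᵥ z := fun z hz => by
    have := P.eq_on_perp (Matrix.toLin' (g : Matrix (Fin a × Fin b) (Fin a × Fin b) F) -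
      Matrix.toLin' (h : Matrix (Fin a × Fin b) (Fin a × Fin b) F))
      (fun x => by simp [Matrix.toLin'_apply, hgR.1, hhR.1])
      (fun x y hy => by simp [Matrix.toLin'_apply, hW x y hy]) hz
    simpa [Matrix.toLin'_apply, sub_eq_zero] using this
  have := eq_one_of_fix H hS P (M.mul_mem (M.inv_mem hh) hg) fun z hz => by
    rw [gl_mulVec_mul, hagree z hz, gl_inv_mulVec_mulVec]
  rw [inv_mul_eq_one] at this
  exact this.symm

lemma comm_of_inR {g h : GL (Fin a × Fin b) F} (hg : g ∈ M) (hh : h ∈ M) (hgR : InR S P.v g)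
    (hhR : InR S P.v h) : g * h = h * g := by
  refine eq_of_agree H hS P (M.mul_mem hg hh) (M.mul_mem hh hg) (InR.mul H hh hgR hhR)
    (InR.mul H hg hhR hgR) fun x y hy => ?_
  have hz : S.ct P.v (pt x y) = 0 := by rw [S.ct_pt, hy.1, zero_smul]
  obtain ⟨e, he⟩ := hgR.2 _ hz
  obtain ⟨e', he'⟩ := hhR.2 _ hz
  rw [sub_eq_iff_eq_add] at he he'
  rw [gl_mulVec_mul, gl_mulVec_mul, he, he', mulVec_add, mulVec_add, hgR.1, hhR.1, he, he']
  abel

omit H hS in
/-- The action of an element around the line on the orthogonal of the pair. -/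
noncomputable def Aop (g : GL (Fin a × Fin b) F) :
    (Fin b → F) →ₗ[F] Module.End F (Fin a → F) :=
  LinearMap.mk₂ F (fun y x => S.ct P.w0 (g •ᵥ pt x y - pt x y))
    (fun y y' x => by rw [← map_add]; congr 1; rw [pt_add_right, mulVec_add]; abel)
    (fun c y x => by rw [← map_smul]; congr 1; rw [pt_smul_right, mulVec_smul, smul_sub])
    (fun y x x' => by rw [← map_add]; congr 1; rw [pt_add_left, mulVec_add]; abel)
    (fun c y x => by rw [← map_smul]; congr 1; rw [pt_smul_left, mulVec_smul, smul_sub])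

omit H hS in
lemma aop_eq {g : GL (Fin a × Fin b) F} (hgR : InR S P.v g) (x : Fin a → F) {y : Fin b → F}
    (hy : QuadraticMap.polar S.Q2 P.v y = 0) :
    g •ᵥ pt x y = pt x y + pt (Aop P g y x) P.v := by
  obtain ⟨e, he⟩ := hgR.2 (pt x y) (by rw [S.ct_pt, hy, zero_smul])
  show _ = _ + pt (S.ct P.w0 (g •ᵥ pt x y - pt x y)) P.v
  rw [he, S.ct_pt, P.h1', one_smul, ← he, add_sub_cancel]

omit hS in
lemma aop_mul {g h : GL (Fin a × Fin b) F} (hgR : InR S P.v g) (hhR : InR S P.v h)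
    {y : Fin b → F} (hy : QuadraticMap.polar S.Q2 P.v y = 0) :
    Aop P (g * h) y = Aop P g y + Aop P h y := by
  refine LinearMap.ext fun x => ?_
  show S.ct P.w0 ((g * h) •ᵥ pt x y - pt x y) = _
  rw [gl_mulVec_mul, aop_eq P hhR x hy, mulVec_add, hgR.1, aop_eq P hgR x hy, add_assoc,
    add_sub_cancel_left, ← pt_add_left, S.ct_pt, P.h1', one_smul]
  rfl

omit hS in
lemma aop_inv {g : GL (Fin a × Fin b) F} (hg : g ∈ M) (hgR : InR S P.v g)
    {y : Fin b → F} (hy : QuadraticMap.polar S.Q2 P.v y = 0) :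
    Aop P g⁻¹ y = - Aop P g y := by
  have h1 := aop_mul H P (InR.inv H hg hgR) hgR hy
  rw [inv_mul_cancel] at h1
  rw [eq_neg_iff_add_eq_zero, ← h1]
  refine LinearMap.ext fun x => ?_
  show S.ct P.w0 ((1 : GL (Fin a × Fin b) F) •ᵥ pt x y - pt x y) = 0
  simp

omit H hS in
lemma aop_siegel {w : Fin b → F} (hw : QuadraticMap.polar S.Q2 P.v w = 0) {y : Fin b → F}
    (hy : QuadraticMap.polar S.Q2 P.v y = 0) :
    Aop P (S.k2 (siegel S.Q2 P.v w P.hv hw)) y = (- QuadraticMap.polar S.Q2 w y) • 1 := by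
  refine LinearMap.ext fun x => ?_
  show S.ct P.w0 (S.k2 (siegel S.Q2 P.v w P.hv hw) •ᵥ pt x y - pt x y) = _
  rw [S.k2_siegel, S.ct_pt, hy, zero_smul, pt_zero_left, add_zero, smul_zero, add_zero, sub_sub_cancel_left,
    map_neg, S.ct_pt, P.h1', one_smul, S.ct_pt]
  simp

/-- Contractions of the image of the partner. -/
lemma ct_image {g : GL (Fin a × Fin b) F} (hg : g ∈ M) (hgR : InR S P.v g) (x : Fin a → F)
    {w : Fin b → F} (hw : P.InW w) : S.ct w (g •ᵥ pt x P.w0) = - Aop P g w x := by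
  have hzR := inR_siegel H P hw.1
  have hzm := H.z_mem P.hv hw.1
  have e := congrArg (fun t => t •ᵥ pt x P.w0) (comm_of_inR H hS P hg hzm hgR hzR)
  simp only [gl_mulVec_mul] at e
  rw [S.k2_siegel, S.k2_siegel, InR.perp H hg hgR, S.ct_pt, S.ct_pt, P.h1, one_smul,
    polar_comm (⇑S.Q2) w P.w0, hw.2, zero_smul, zero_add, mulVec_sub, mulVec_add,
    aop_eq P hgR x hw.1, hgR.1, pt_add_left] at e
  have h2 : pt (S.ct w (g •ᵥ pt x P.w0) + Aop P g w x) P.v = 0 := by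
    rw [pt_add_left, ← neg_eq_zero, ← sub_self (g •ᵥ pt x P.w0)]
    linear_combination (norm := module) -e
  have h3 := congrArg (S.ct P.w0) h2
  rw [S.ct_pt, P.h1', one_smul, map_zero] at h3
  exact eq_neg_of_add_eq_zero_left h3

lemma aop_selfadjoint {g : GL (Fin a × Fin b) F} (hg : g ∈ M) (hgR : InR S P.v g) {w : Fin b → F}
    (hw : P.InW w) (x x' : Fin a → F) :
    QuadraticMap.polar S.Q1 (Aop P g w x) x' = QuadraticMap.polar S.Q1 x (Aop P g w x') := by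
  have h0 := H.polar hg (pt x P.w0) (pt x' w)
  rw [S.polar_pt, hw.2, mul_zero, aop_eq P hgR x' hw.1, polar_add_right, S.polar_pt_right,
    ct_image H hS P hg hgR x hw, S.polar_pt_right, InR.perp H hg hgR, S.ct_pt, P.h1, one_smul,
    polar_neg_left] at h0
  linear_combination -h0

omit hS in
lemma k2_conj {g : GL (Fin a × Fin b) F} (hgR : InR S P.v g) {τ : Orth S.Q2}
    (hτ : τ.1 P.v = P.v) (hτ0 : τ.1 P.w0 = P.w0) :
    InR S P.v (S.k2 τ * g * (S.k2 τ)⁻¹) ∧ ∀ y, QuadraticMap.polar S.Q2 P.v y = 0 →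
      Aop P (S.k2 τ * g * (S.k2 τ)⁻¹) y = Aop P g ((τ⁻¹).1 y) := by
  have hinv : (τ⁻¹).1 P.v = P.v := by
    conv_lhs => rw [← hτ, Classical.Quad.inv_apply_self]
  refine ⟨⟨fun x => by rw [gl_mulVec_mul, gl_mulVec_mul, ← map_inv, S.k2_pt, hinv, hgR.1, S.k2_pt, hτ],
    fun z hz => ?_⟩, fun y hy => ?_⟩
  · have hz' : S.ct P.v ((S.k2 τ)⁻¹ •ᵥ z) = 0 := by
      rw [← map_inv]
      nth_rewrite 1 [← hinv]
      rw [S.ct_k2, hz]
    obtain ⟨e, he⟩ := hgR.2 _ hz'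
    refine ⟨e, ?_⟩
    rw [sub_eq_iff_eq_add] at he
    rw [gl_mulVec_mul, gl_mulVec_mul, he, mulVec_add, gl_mulVec_inv_mulVec, S.k2_pt, hτ]
    abel
  · refine LinearMap.ext fun x => ?_
    have hy' : QuadraticMap.polar S.Q2 P.v ((τ⁻¹).1 y) = 0 := by
      nth_rewrite 1 [← hinv]
      rw [Classical.Quad.orth_polar, hy]
    show S.ct P.w0 ((S.k2 τ * g * (S.k2 τ)⁻¹) •ᵥ pt x y - pt x y) = _
    rw [gl_mulVec_mul, gl_mulVec_mul, ← map_inv, S.k2_pt, aop_eq P hgR x hy', mulVec_add, S.k2_pt,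
      S.k2_pt, Classical.Quad.self_apply_inv, hτ, add_sub_cancel_left, S.ct_pt, P.h1', one_smul]

omit hS in
/-- The localised maps at a vector. -/
def Loc (x : Fin b → F) : Submodule F (Module.End F (Fin a → F)) where
  carrier := {X | ∀ t : F, ∃ g ∈ M, InR S P.v g ∧
    ∀ y, P.InW y → Aop P g y = (t * QuadraticMap.polar S.Q2 y x) • X}
  zero_mem' t := ⟨1, M.one_mem, ⟨fun x => by simp, fun z _ => ⟨0, by simp [pt_zero_left]⟩⟩,
    fun y _ => LinearMap.ext fun x => by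
      show S.ct P.w0 ((1 : GL (Fin a × Fin b) F) •ᵥ pt x y - pt x y) = _
      simp⟩
  add_mem' {X X'} hX hX' t := by
    obtain ⟨g, hg, hgR, hgA⟩ := hX t
    obtain ⟨g', hg', hgR', hgA'⟩ := hX' t
    exact ⟨g * g', M.mul_mem hg hg', InR.mul H hg' hgR hgR', fun y hy => by
      rw [aop_mul H P hgR hgR' hy.1, hgA y hy, hgA' y hy, smul_add]⟩
  smul_mem' c X hX t := by
    obtain ⟨g, hg, hgR, hgA⟩ := hX (t * c)
    refine ⟨g, hg, hgR, fun y hy => ?_⟩
    rw [hgA y hy, smul_smul]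
    congr 1
    ring

omit hS in
lemma aop_mem_loc {g : GL (Fin a × Fin b) F} (hg : g ∈ M) (hgR : InR S P.v g) {x r : Fin b → F}
    (hx : S.Q2 x = 0) (hxW : P.InW x) (hrW : P.InW r) (hxr : QuadraticMap.polar S.Q2 x r = 0)
    (hr : S.Q2 r ≠ 0) : Aop P g x ∈ Loc H P x := by
  have hsec : ∀ t : F, ∃ h ∈ M, InR S P.v h ∧ ∀ y, P.InW y →
      Aop P h y = (-(2 * (t * t)) * S.Q2 r * QuadraticMap.polar S.Q2 y x) • Aop P g x := by
    intro t
    have hp : ∀ s : F, QuadraticMap.polar S.Q2 x (s • r) = 0 := fun s => by simp [hxr]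
    have hfix : ∀ s : F, (siegel S.Q2 x (s • r) hx (hp s)).1 P.v = P.v ∧
        (siegel S.Q2 x (s • r) hx (hp s)).1 P.w0 = P.w0 := fun s =>
      ⟨Classical.Quad.siegel_fix hx (hp s) hxW.1 (by simp [hrW.1]),
        Classical.Quad.siegel_fix hx (hp s) hxW.2 (by simp [hrW.2])⟩
    obtain ⟨h1R, h1A⟩ := k2_conj H P hgR (hfix t).1 (hfix t).2
    obtain ⟨h2R, h2A⟩ := k2_conj H P hgR (hfix (-t)).1 (hfix (-t)).2
    have hm : ∀ s : F, S.k2 (siegel S.Q2 x (s • r) hx (hp s)) ∈ M := fun s => H.z_mem _ _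
    have h12 := M.mul_mem (M.mul_mem (M.mul_mem (hm t) hg) (M.inv_mem (hm t)))
      (M.mul_mem (M.mul_mem (hm (-t)) hg) (M.inv_mem (hm (-t))))
    have hgi := InR.inv H hg hgR
    refine ⟨_, M.mul_mem h12 (M.mul_mem (M.inv_mem hg) (M.inv_mem hg)),
      InR.mul H (M.mul_mem (M.inv_mem hg) (M.inv_mem hg))
        (InR.mul H (M.mul_mem (M.mul_mem (hm (-t)) hg) (M.inv_mem (hm (-t)))) h1R h2R)
        (InR.mul H (M.inv_mem hg) hgi hgi), fun y hy => ?_⟩
    rw [aop_mul H P (InR.mul H (M.mul_mem (M.mul_mem (hm (-t)) hg) (M.inv_mem (hm (-t)))) h1R h2R)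
        (InR.mul H (M.inv_mem hg) hgi hgi) hy.1,
      aop_mul H P h1R h2R hy.1, aop_mul H P hgi hgi hy.1, aop_inv H P hg hgR hy.1, h1A y hy.1, h2A y hy.1,
      Classical.Quad.siegel_inv, Classical.Quad.siegel_inv, Classical.Quad.siegel_apply,
      Classical.Quad.siegel_apply]
    simp only [map_add, map_smul, map_neg, neg_smul, smul_neg, polar_smul_right, polar_neg_right,
      QuadraticMap.map_smul, QuadraticMap.map_neg, smul_eq_mul]
    module
  intro t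
  set c := t / (-8 * S.Q2 r)
  obtain ⟨h, hh, hhR, hhA⟩ := hsec (c + 1)
  obtain ⟨h', hh', hhR', hhA'⟩ := hsec (c - 1)
  refine ⟨h * h'⁻¹, M.mul_mem hh (M.inv_mem hh'), InR.mul H (M.inv_mem hh') hhR (InR.inv H hh' hhR'),
    fun y hy => ?_⟩
  rw [aop_mul H P hhR (InR.inv H hh' hhR') hy.1, aop_inv H P hh' hhR' hy.1, hhA y hy, hhA' y hy,
    ← sub_eq_add_neg]
  match_scalars
  have h8 : (-8 : F) * S.Q2 r ≠ 0 := by
    rw [show (-8 : F) = -(2 * 2 * 2) by norm_num]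
    exact mul_ne_zero (neg_ne_zero.2 (mul_ne_zero (mul_ne_zero S.two S.two) S.two)) hr
  have : t = c * (-8 * S.Q2 r) := by rw [div_mul_cancel₀ t h8]
  rw [this]
  ring

/-- The partner's image under a localised element. -/
lemma loc_image {g : GL (Fin a × Fin b) F} (hg : g ∈ M) (hgR : InR S P.v g) {x : Fin b → F}
    (hxW : P.InW x) {X : Module.End F (Fin a → F)}
    (hA : ∀ y, P.InW y → Aop P g y = QuadraticMap.polar S.Q2 y x • X) (e : Fin a → F) :
    g •ᵥ pt e P.w0 = pt e P.w0 - pt (X e) x + pt (S.ct P.w0 (g •ᵥ pt e P.w0)) P.v := by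
  refine S.eq_of_ct fun φ => ?_
  have hφ : φ = P.pr φ + QuadraticMap.polar S.Q2 P.w0 φ • P.v + QuadraticMap.polar S.Q2 P.v φ • P.w0 := by
    rw [P.pr_apply]; abel
  have hW := P.pr_mem φ
  rw [hφ]
  simp only [map_add, map_smul, LinearMap.add_apply, LinearMap.smul_apply]
  rw [ct_image H hS P hg hgR e hW, InR.perp H hg hgR, hA _ hW]
  simp only [map_sub, map_add, S.ct_pt, P.h1, P.h1', P.hvv, P.hww, hxW.1, hxW.2,
    polar_comm (⇑S.Q2) (P.pr φ) P.v, polar_comm (⇑S.Q2) (P.pr φ) P.w0, hW.1, hW.2,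
    LinearMap.smul_apply, one_smul, zero_smul, add_zero, sub_zero, zero_add, smul_zero]
  module

lemma loc_commInv {x x0 r : Fin b → F} (hx : S.Q2 x = 0) (hxW : P.InW x) (hx0 : S.Q2 x0 = 0)
    (hx0W : P.InW x0) (h1 : QuadraticMap.polar S.Q2 x x0 = 1) (hrW : P.InW r)
    (hxr : QuadraticMap.polar S.Q2 x r = 0) (hx0r : QuadraticMap.polar S.Q2 x0 r = 0)
    (hr : S.Q2 r ≠ 0) (hex : 4 ≤ a ∨ ∃ t : F, t ≠ 0 ∧ t * t ≠ 1) :
    CommInv S.Q1 (Loc H P x) := by
  refine ⟨S.nd1, S.two, by rw [Fintype.card_fin]; exact S.ha, fun X hX e e' => ?_, fun X hX Y hY => ?_,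
    fun t => ?_, fun X hX u w hu hw t => ?_, by rwa [Fintype.card_fin]⟩
  · obtain ⟨g, hg, hgR, hA⟩ := hX 1
    have h' := aop_selfadjoint H hS P hg hgR hx0W e e'
    rw [hA x0 hx0W, polar_comm (⇑S.Q2) x0 x, h1, mul_one, one_smul] at h'
    exact h'
  · obtain ⟨g, hg, hgR, hA⟩ := hX 1
    obtain ⟨g', hg', hgR', hA'⟩ := hY 1
    set τ := siegel S.Q2 x0 r hx0 hx0r
    have hτv : τ.1 P.v = P.v := Classical.Quad.siegel_fix hx0 hx0r hx0W.1 hrW.1
    have hτw : τ.1 P.w0 = P.w0 := Classical.Quad.siegel_fix hx0 hx0r hx0W.2 hrW.2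
    obtain ⟨hR'', hA''⟩ := k2_conj H P hgR' hτv hτw
    set x' := τ.1 x
    have hx' : x' = x + r - S.Q2 r • x0 := by
      simp [x', τ, Classical.Quad.siegel_apply, h1, hxr]
      try module
    have hx'W : P.InW x' := by
      constructor <;> simp [hx', hxW.1, hxW.2, hrW.1, hrW.2, hx0W.1, hx0W.2]
    have hk := H.z_mem hx0 hx0r
    have hg'' := M.mul_mem (M.mul_mem hk hg') (M.inv_mem hk)
    have hA2 : ∀ y, P.InW y →
        Aop P (S.k2 τ * g' * (S.k2 τ)⁻¹) y = QuadraticMap.polar S.Q2 y x' • Y := by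
      intro y hy
      have hyW : P.InW ((τ⁻¹).1 y) := by
        constructor
        · nth_rewrite 1 [← show (τ⁻¹).1 P.v = P.v by conv_lhs => rw [← hτv, Classical.Quad.inv_apply_self]]
          rw [Classical.Quad.orth_polar, hy.1]
        · nth_rewrite 1 [← show (τ⁻¹).1 P.w0 = P.w0 by conv_lhs => rw [← hτw, Classical.Quad.inv_apply_self]]
          rw [Classical.Quad.orth_polar, hy.2]
      rw [hA'' y hy.1, hA' _ hyW, one_mul, ← Classical.Quad.orth_polar τ, Classical.Quad.self_apply_inv]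
    have hA1 : ∀ y, P.InW y → Aop P g y = QuadraticMap.polar S.Q2 y x • X := fun y hy => by
      rw [hA y hy, one_mul]
    obtain ⟨g'', hg''def⟩ : ∃ g'', g'' = S.k2 τ * g' * (S.k2 τ)⁻¹ := ⟨_, rfl⟩
    rw [← hg''def] at hg'' hR'' hA2
    refine LinearMap.ext fun e => ?_
    have e1 := congrArg (fun t => S.ct P.w0 (t •ᵥ pt e P.w0)) (comm_of_inR H hS P hg hg'' hgR hR'')
    simp only [gl_mulVec_mul] at e1
    rw [loc_image H hS P hg hgR hxW hA1 e, loc_image H hS P hg'' hR'' hx'W hA2 e] at e1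
    simp only [mulVec_add, mulVec_sub, hgR.1, hR''.1, aop_eq P hgR _ hx'W.1, aop_eq P hR'' _ hxW.1,
      hA1 _ hx'W, hA2 _ hxW, LinearMap.smul_apply] at e1
    rw [loc_image H hS P hg hgR hxW hA1 e, loc_image H hS P hg'' hR'' hx'W hA2 e] at e1
    have hc : QuadraticMap.polar S.Q2 x x' = - S.Q2 r := by
      simp [hx', hxr, h1, Classical.Quad.polar_singular_self hx]
    rw [polar_comm (⇑S.Q2) x' x, hc] at e1
    simp only [map_add, map_sub, map_smul, S.ct_pt, P.h1', P.hww, hxW.2, hx'W.2, one_smul, zero_smul,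
      smul_zero] at e1
    simp only [Module.End.mul_apply]
    refine sub_eq_zero.1 ((smul_eq_zero.1 ?_).resolve_left hr)
    linear_combination (norm := module) e1
  · have hw : QuadraticMap.polar S.Q2 P.v (-(t • x)) = 0 := by simp [hxW.1]
    refine ⟨_, H.z_mem P.hv hw, inR_siegel H P hw, fun y hy => ?_⟩
    rw [aop_siegel P hw hy.1, polar_neg_left, neg_neg, polar_smul_left, polar_comm (⇑S.Q2) x y, smul_eq_mul]
  · obtain ⟨g, hg, hgR, hA⟩ := hX t
    set T := siegel S.Q1 u w hu hw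
    have hk := H.t_mem hu hw
    refine ⟨S.k1 T * g * (S.k1 T)⁻¹, M.mul_mem (M.mul_mem hk hg) (M.inv_mem hk), ⟨fun e => ?_, fun z hz => ?_⟩,
      fun y hy => LinearMap.ext fun e => ?_⟩
    · rw [gl_mulVec_mul, gl_mulVec_mul, ← map_inv, S.k1_pt, hgR.1, S.k1_pt, Classical.Quad.self_apply_inv]
    · obtain ⟨d, hd⟩ := hgR.2 ((S.k1 T)⁻¹ •ᵥ z) (by rw [← map_inv, S.ct_k1, hz, map_zero])
      refine ⟨T.1 d, ?_⟩
      rw [sub_eq_iff_eq_add] at hd
      rw [gl_mulVec_mul, gl_mulVec_mul, hd, mulVec_add, gl_mulVec_inv_mulVec, S.k1_pt]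
      abel
    · show S.ct P.w0 ((S.k1 T * g * (S.k1 T)⁻¹) •ᵥ pt e y - pt e y) = _
      rw [gl_mulVec_mul, gl_mulVec_mul, ← map_inv, S.k1_pt, aop_eq P hgR _ hy.1, mulVec_add, S.k1_pt,
        S.k1_pt, Classical.Quad.self_apply_inv, add_sub_cancel_left, S.ct_pt, P.h1', one_smul, hA y hy]
      simp

/-- In dimension four only scalars occur around a tensor line. -/
lemma aop_scalar_small (hb4 : b = 4) {g : GL (Fin a × Fin b) F} (hg : g ∈ M) (hgR : InR S P.v g)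
    {y : Fin b → F} (hy : P.InW y) : ∃ d : F, Aop P g y = d • 1 := by
  obtain ⟨w1, w2, hW1, hW2, h12, hQ1, hQ2, haniso, hdec⟩ := P.small_basis hb4
  set α := S.Q2 w1 with hα
  set β := S.Q2 w2 with hβ
  have hα2 : (2 : F) * α ≠ 0 := mul_ne_zero S.two hQ1
  have hβ2 : (2 : F) * β ≠ 0 := mul_ne_zero S.two hQ2
  have himg : ∀ g ∈ M, InR S P.v g → ∀ e, g •ᵥ pt e P.w0 = pt e P.w0 - pt ((2 * α)⁻¹ • Aop P g w1 e) w1 -
      pt ((2 * β)⁻¹ • Aop P g w2 e) w2 + pt (S.ct P.w0 (g •ᵥ pt e P.w0)) P.v := by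
    intro g hg hgR e
    refine S.eq_of_ct fun φ => ?_
    have hd := hdec _ (P.pr_mem φ)
    set c1 := QuadraticMap.polar S.Q2 (P.pr φ) w1 / (2 * α)
    set c2 := QuadraticMap.polar S.Q2 (P.pr φ) w2 / (2 * β)
    have hφ : φ = c1 • w1 + c2 • w2 + QuadraticMap.polar S.Q2 P.w0 φ • P.v +
        QuadraticMap.polar S.Q2 P.v φ • P.w0 := by
      rw [← hd, P.pr_apply]; abel
    rw [hφ]
    simp only [map_add, map_smul, LinearMap.add_apply, LinearMap.smul_apply]
    rw [ct_image H hS P hg hgR e hW1, ct_image H hS P hg hgR e hW2, InR.perp H hg hgR]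
    simp only [map_sub, map_add, map_smul, S.ct_pt, P.h1, P.h1', P.hvv, P.hww, hW1.1, hW1.2, hW2.1, hW2.2,
      h12, polar_comm (⇑S.Q2) w2 w1, polar_comm (⇑S.Q2) w1 P.v, polar_comm (⇑S.Q2) w1 P.w0,
      polar_comm (⇑S.Q2) w2 P.v, polar_comm (⇑S.Q2) w2 P.w0, Classical.Quad.polar_self', ← hα, ← hβ,
      LinearMap.smul_apply, smul_smul, mul_inv_cancel₀ hα2, mul_inv_cancel₀ hβ2, one_smul, zero_smul,
      add_zero, sub_zero, zero_add, smul_zero, zero_mul, mul_zero]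
    module
  let Λ : Set (Module.End F (Fin a → F) × Module.End F (Fin a → F)) :=
    {p | ∃ g ∈ M, InR S P.v g ∧ p = (Aop P g w1, Aop P g w2)}
  have hres := scalar_of_pairs (Q := S.Q1) S.nd1 S.two
    (by rw [Fintype.card_fin]; have := S.ha; have := S.lt; omega) (S.five_le_card hb4) (α := α) (β := β)
    (fun x y hxy => (haniso y x (by linear_combination hxy)).symm) Λ ?_ ?_ ?_
    (p := (Aop P g w1, Aop P g w2)) ⟨g, hg, hgR, rfl⟩
  · obtain ⟨⟨c1, hc1⟩, ⟨c2, hc2⟩⟩ := hres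
    refine ⟨QuadraticMap.polar S.Q2 y w1 / (2 * α) * c1 + QuadraticMap.polar S.Q2 y w2 / (2 * β) * c2, ?_⟩
    conv_lhs => rw [hdec y hy]
    simp only at hc1 hc2
    rw [map_add, map_smul, map_smul, hc1, hc2, smul_smul, smul_smul, ← add_smul]
  · rintro _ ⟨g, hg, hgR, rfl⟩ _ ⟨g', hg', hgR', rfl⟩
    refine LinearMap.ext fun e => ?_
    have e1 := congrArg (fun t => S.ct P.w0 (t •ᵥ pt e P.w0)) (comm_of_inR H hS P hg hg' hgR hgR')
    simp only [gl_mulVec_mul] at e1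
    rw [himg g hg hgR e, himg g' hg' hgR' e] at e1
    simp only [mulVec_add, mulVec_sub, hgR.1, hgR'.1, aop_eq P hgR _ hW1.1, aop_eq P hgR _ hW2.1,
      aop_eq P hgR' _ hW1.1, aop_eq P hgR' _ hW2.1, map_add, map_sub, S.ct_pt, P.h1', hW1.2, hW2.2,
      zero_smul, one_smul, zero_add, map_smul] at e1
    simp only [LinearMap.add_apply, LinearMap.smul_apply, LinearMap.sub_apply, Module.End.mul_apply,
      LinearMap.zero_apply]
    have key : (2 * α)⁻¹ • (Aop P g w1 (Aop P g' w1 e) - Aop P g' w1 (Aop P g w1 e)) +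
        (2 * β)⁻¹ • (Aop P g w2 (Aop P g' w2 e) - Aop P g' w2 (Aop P g w2 e)) = 0 := by
      linear_combination (norm := module) -e1
    have := congrArg ((2 * α * β) • ·) key
    simp only [smul_add, smul_zero, smul_smul] at this
    rw [show 2 * α * β * (2 * α)⁻¹ = β by rw [mul_comm _ β, mul_assoc, mul_inv_cancel₀ hα2, mul_one],
      show 2 * α * β * (2 * β)⁻¹ = α by rw [mul_comm (2 : F) α, mul_assoc α, mul_assoc, mul_inv_cancel₀ hβ2, mul_one]] at this
    exact this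
  · rintro _ ⟨g, hg, hgR, rfl⟩ u w hu hw
    set T := siegel S.Q1 u w hu hw
    have hk := H.t_mem hu hw
    refine ⟨S.k1 T * g * (S.k1 T)⁻¹, M.mul_mem (M.mul_mem hk hg) (M.inv_mem hk), ⟨fun e => ?_, fun z hz => ?_⟩,
      ?_⟩
    · rw [gl_mulVec_mul, gl_mulVec_mul, ← map_inv, S.k1_pt, hgR.1, S.k1_pt, Classical.Quad.self_apply_inv]
    · obtain ⟨d, hd⟩ := hgR.2 ((S.k1 T)⁻¹ •ᵥ z) (by rw [← map_inv, S.ct_k1, hz, map_zero])
      refine ⟨T.1 d, ?_⟩
      rw [sub_eq_iff_eq_add] at hd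
      rw [gl_mulVec_mul, gl_mulVec_mul, hd, mulVec_add, gl_mulVec_inv_mulVec, S.k1_pt]
      abel
    · have hA : ∀ y, P.InW y → Aop P (S.k1 T * g * (S.k1 T)⁻¹) y =
          (T.1 : Module.End F (Fin a → F)) * Aop P g y * ((T⁻¹).1 : Module.End F (Fin a → F)) := fun y hy =>
        LinearMap.ext fun e => by
          show S.ct P.w0 ((S.k1 T * g * (S.k1 T)⁻¹) •ᵥ pt e y - pt e y) = _
          rw [gl_mulVec_mul, gl_mulVec_mul, ← map_inv, S.k1_pt, aop_eq P hgR _ hy.1, mulVec_add, S.k1_pt,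
            S.k1_pt, Classical.Quad.self_apply_inv, add_sub_cancel_left, S.ct_pt, P.h1', one_smul]
          rfl
      rw [cS_apply, hA w1 hW1, hA w2 hW2]
  · rintro _ ⟨g, hg, hgR, rfl⟩
    exact ⟨aop_selfadjoint H hS P hg hgR hW1, aop_selfadjoint H hS P hg hgR hW2⟩

/-- Without root elements only tensors act trivially around a tensor line. -/
theorem onlyScalar_aux (hex : 4 ≤ a ∨ ∃ t : F, t ≠ 0 ∧ t * t ≠ 1) {g : GL (Fin a × Fin b) F}
    (hg : g ∈ M) (hgR : InR S P.v g) :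
    ∃ (w : Fin b → F) (hw : QuadraticMap.polar S.Q2 P.v w = 0),
      g = S.k2 (siegel S.Q2 P.v w P.hv hw) := by
  have hall : ∀ y, P.InW y → ∃ d : F, Aop P g y = d • 1 := by
    by_cases hb4 : b = 4
    · exact fun y hy => aop_scalar_small H hS P hb4 hg hgR hy
    have h5 : 5 ≤ b := by have := S.hb; omega
    have hsing : ∀ x, S.Q2 x = 0 → P.InW x → ∃ c : F, Aop P g x = c • 1 := by
      intro x hx hxW
      rcases eq_or_ne x 0 with rfl | hx0
      · exact ⟨0, by rw [map_zero, zero_smul]⟩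
      obtain ⟨x0, r, hx0Q, hx0W, h1, hrW, hxr, hx0r, hr⟩ := P.exists_quad h5 hx hx0 hxW
      obtain ⟨c, hc⟩ := (loc_commInv H hS P hx hxW hx0Q hx0W h1 hrW hxr hx0r hr hex).scalar
        (aop_mem_loc H P hg hgR hx hxW hrW hxr hr)
      exact ⟨c, LinearMap.ext fun e => by rw [hc]; simp⟩
    obtain ⟨x, hx, hx0, hxW⟩ := P.exists_singular h5
    obtain ⟨x0, -, hx0Q, hx0W, h1, -⟩ := P.exists_quad h5 hx hx0 hxW
    obtain ⟨c, hc⟩ := hsing x hx hxW
    obtain ⟨c0, hc0⟩ := hsing x0 hx0Q hx0W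
    intro y hy
    set r := y - QuadraticMap.polar S.Q2 x0 y • x - QuadraticMap.polar S.Q2 x y • x0
    have hrW : P.InW r := by constructor <;> simp [r, hy.1, hy.2, hxW.1, hxW.2, hx0W.1, hx0W.2]
    have hrx : QuadraticMap.polar S.Q2 x r = 0 := by
      simp [r, h1, Classical.Quad.polar_singular_self hx]
    have hrx0 : QuadraticMap.polar S.Q2 x0 r = 0 := by
      simp [r, polar_comm (⇑S.Q2) x0 x, h1, Classical.Quad.polar_singular_self hx0Q]
    obtain ⟨d, hd⟩ := hsing (x + r + (-(S.Q2 r)) • x0)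
      (by rw [Classical.Quad.Q_comb1, QuadraticMap.map_add (⇑S.Q2), hx, hx0Q, hrx, polar_add_left, h1,
            polar_comm (⇑S.Q2) r x0, hrx0]; ring)
      (by constructor <;> simp [hxW.1, hxW.2, hrW.1, hrW.2, hx0W.1, hx0W.2])
    refine ⟨QuadraticMap.polar S.Q2 x0 y * c + QuadraticMap.polar S.Q2 x y * c0 +
      (d - c + S.Q2 r * c0), ?_⟩
    conv_lhs => rw [show y = QuadraticMap.polar S.Q2 x0 y • x + QuadraticMap.polar S.Q2 x y • x0 +
      ((x + r + (-(S.Q2 r)) • x0) - x + S.Q2 r • x0) by simp [r]; module]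
    simp only [map_add, map_sub, map_smul, hc, hc0, hd]
    module
  obtain ⟨i⟩ : Nonempty (Fin a) := ⟨⟨0, by have := S.ha; omega⟩⟩
  set e : Fin a → F := Pi.single i 1
  obtain ⟨e', he'⟩ := Classical.Quad.exists_polar_one S.nd1
    (show e ≠ 0 from fun he => one_ne_zero (α := F) (by simpa [e] using congrFun he i))
  obtain ⟨w, hw⟩ := Classical.Quad.exists_polar S.nd2
    (-((polarBilin S.Q1).flip e' ∘ₗ (LinearMap.applyₗ e) ∘ₗ Aop P g ∘ₗ P.pr))
  have hwv : QuadraticMap.polar S.Q2 P.v w = 0 := by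
    rw [polar_comm, hw]
    simp [P.pr_apply, P.h1', P.hvv]
  refine ⟨w, hwv, eq_of_agree H hS P hg (H.z_mem P.hv hwv) hgR (inR_siegel H P hwv) fun q y hy => ?_⟩
  rw [aop_eq P hgR q hy.1, aop_eq P (inR_siegel H P hwv) q hy.1, aop_siegel P hwv hy.1, hw]
  obtain ⟨d, hd⟩ := hall y hy
  simp [P.pr_of_mem hy, hd, he']

omit hS P in
theorem onlyScalar (hS : NoRoot S M) (hex : 4 ≤ a ∨ ∃ t : F, t ≠ 0 ∧ t * t ≠ 1) : OnlyScalar S M := by
  intro v hv hv0 g hg hgR
  obtain ⟨w0, hw0, h1⟩ := exists_hyp S.nd2 hv hv0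
  obtain ⟨w, hw, he⟩ := onlyScalar_aux H hS ⟨v, w0, hv, hw0, h1⟩ hex hg hgR
  exact ⟨w, hv, hw, he⟩

end CfsgLib.ClassicalMax.OTens
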