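/-
Elements fixing a tensor line, or a singular point on one, or having a tensor conjugate of a root element,
are tensors.
-/
import Cfsg.Agent.Lib.ClassicalMax.OrthTensorMax.Line
set_option autoImplicit false
set_option linter.unusedSectionVars false
set_option linter.unusedVariables false
set_option linter.unusedSimpArgs false

namespace CfsgLib.ClassicalMax.OTens

open Matrix Cfsg.Geo QuadraticMap Module
open CfsgLib.Classical.Quad (NDPolar Orth siegel siegelGroup)
open CfsgLib.ClassicalMax.Kron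

variable {F : Type*} [Field F] [Fintype F] [DecidableEq F] {a b : ℕ}

local notation:70 g:71 " •ᵥ " z:70 => Matrix.mulVec (Units.val g) z

variable {S : Space F a b} {M : Subgroup (GL (Fin a × Fin b) F)}

lemma Space.exists_nonsingular1 (S : Space F a b) : ∃ u : Fin a → F, S.Q1 u ≠ 0 := by
  by_contra hcon
  push Not at hcon
  have := S.ha
  obtain ⟨y, hy⟩ := Classical.Quad.exists_polar_one S.nd1
    (show (Pi.single ⟨0, by omega⟩ 1 : Fin a → F) ≠ 0 from fun e =>
      one_ne_zero (α := F) (by simpa using congrFun e ⟨0, by omega⟩))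
  rw [polar, hcon, hcon, hcon] at hy
  simp at hy

lemma pt_left_injective {v : Fin b → F} (hv : v ≠ 0) {x y : Fin a → F} (h : pt x v = pt y v) : x = y :=
  ptR_injective hv (by simpa using h)

lemma pt_sub_left (x y : Fin a → F) (w : Fin b → F) : pt (x - y) w = pt x w - pt y w :=
  funext fun _ => sub_mul _ _ _

/-- The image of a line of tensors with a common second factor: a singular one. -/
lemma singular_of_line (H : Hyp S M) {g : GL (Fin a × Fin b) F} (hg : g ∈ M) {v v' : Fin b → F}
    (hv : S.Q2 v = 0) (f : (Fin a → F) → Fin a → F) (h : ∀ x, g •ᵥ pt (f x) v = pt x v') :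
    S.Q2 v' = 0 := by
  obtain ⟨u, hu⟩ := S.exists_nonsingular1
  have h1 := Classical.Quad.polar_self' (Q := S.Q) (pt u v')
  have h2 := H.polar hg (pt (f u) v) (pt (f u) v)
  rw [h, S.polar_pt, S.polar_pt, Classical.Quad.polar_singular_self hv, mul_zero,
    Classical.Quad.polar_self', Classical.Quad.polar_self'] at h2
  simpa [S.two, hu] using h2

variable (H : Hyp S M) (hO : OnlyScalar S M)
include H hO

/-- The stabiliser of a tensor line. -/
lemma inH_of_line_self (P : HP S) {g : GL (Fin a × Fin b) F} (hg : g ∈ M)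
    (hline : ∀ x, ∃ y, g •ᵥ pt x P.v = pt y P.v) : InH g := by
  have hv := P.v_ne
  let α₀ : (Fin a → F) →ₗ[F] (Fin a → F) :=
    S.ct P.w0 ∘ₗ Matrix.toLin' (g : Matrix (Fin a × Fin b) (Fin a × Fin b) F) ∘ₗ ptR P.v
  have hα₀ : ∀ x, g •ᵥ pt x P.v = pt (α₀ x) P.v := fun x => by
    obtain ⟨y, hy⟩ := hline x
    simp [α₀, Matrix.toLin'_apply, hy, S.ct_pt, P.h1']
  have hinj : Function.Injective α₀ := fun x y hxy =>
    pt_left_injective hv (gl_mulVec_injective g (by show g •ᵥ _ = g •ᵥ _; rw [hα₀, hα₀, hxy]))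
  let α : (Fin a → F) ≃ₗ[F] (Fin a → F) := LinearEquiv.ofInjectiveEndo α₀ hinj
  have hα : ∀ x, g •ᵥ pt x P.v = pt (α x) P.v := hα₀
  have hperp : ∀ z, S.ct P.v z = 0 → S.ct P.v (g •ᵥ z) = 0 := fun z hz => S.nd1 _ fun x => by
    rw [← S.polar_pt_right, ← α.apply_symm_apply x, ← hα, H.polar hg, S.polar_pt_right, hz, polar_zero_left]
  have hperp' : ∀ z, S.ct P.v z = 0 → S.ct P.v (g⁻¹ •ᵥ z) = 0 := fun z hz => S.nd1 _ fun x => by
    rw [← S.polar_pt_right, ← H.polar hg, gl_mulVec_inv_mulVec, hα, S.polar_pt_right, hz, polar_zero_left]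
  -- the action on the parameters of the root elements
  have hσ : ∀ w, P.InW w → ∃ u, P.InW u ∧ ∀ z, S.ct P.v z = 0 →
      α (S.ct w z) = S.ct u (g •ᵥ z) := by
    intro w hw
    set k := S.k2 (siegel S.Q2 P.v w P.hv hw.1)
    have hk := inR_siegel H P hw.1
    have hkm := H.z_mem P.hv hw.1
    have hR : InR S P.v (g * k * g⁻¹) := by
      refine ⟨fun x => ?_, fun z hz => ?_⟩
      · obtain ⟨x', rfl⟩ := α.surjective x
        rw [gl_mulVec_mul, gl_mulVec_mul, ← hα, gl_inv_mulVec_mulVec, hk.1]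
      · obtain ⟨e, he⟩ := hk.2 _ (hperp' z hz)
        refine ⟨α e, ?_⟩
        rw [gl_mulVec_mul, gl_mulVec_mul, ← hα, ← he, mulVec_sub, gl_mulVec_inv_mulVec]
    obtain ⟨u₀, hv', hu₀, he⟩ := hO P.v P.hv hv _ (M.mul_mem (M.mul_mem hg hkm) (M.inv_mem hg)) hR
    refine ⟨u₀ - QuadraticMap.polar S.Q2 P.w0 u₀ • P.v,
      ⟨by simp [hu₀, P.hvv], by simp [P.h1']⟩, fun z hz => ?_⟩
    have e1 := congrArg (fun t => t •ᵥ (g •ᵥ z)) he
    simp only [gl_mulVec_mul, gl_inv_mulVec_mulVec] at e1
    rw [S.k2_siegel, S.k2_siegel, hz, hperp z hz, pt_zero_left, pt_zero_left, add_zero, add_zero,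
      smul_zero, smul_zero, add_zero, add_zero, mulVec_sub, hα, sub_right_inj] at e1
    rw [pt_left_injective hv e1, map_sub, map_smul, LinearMap.sub_apply, LinearMap.smul_apply,
      hperp z hz, smul_zero, sub_zero]
  choose σ hσW hσe using hσ
  let W := {w : Fin b → F // P.InW w}
  let σ' : W → W := fun w => ⟨σ w.1 w.2, hσW w.1 w.2⟩
  have hσinj : Function.Injective σ' := fun w w' hww => by
    refine Subtype.ext (sub_eq_zero.1 ((fun h => ?_) (S.nd2 (w.1 - w'.1))))
    refine h fun y => ?_
    obtain ⟨u, hu⟩ := S.exists_nonsingular1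
    have hu0 : u ≠ 0 := fun e => hu (by rw [e, map_zero])
    have hz : S.ct P.v (pt u (P.pr y)) = 0 := by rw [S.ct_pt, (P.pr_mem y).1, zero_smul]
    have h1 := (hσe w.1 w.2 _ hz)
    rw [show σ w.1 w.2 = σ w'.1 w'.2 from congrArg Subtype.val hww, ← hσe w'.1 w'.2 _ hz] at h1
    have h2 := α.injective h1
    rw [S.ct_pt, S.ct_pt] at h2
    have h3 := smul_left_injective F hu0 h2
    rw [P.pr_apply] at h3
    simp only [polar_sub_right, polar_smul_right, polar_comm (⇑S.Q2) w.1 P.v, polar_comm (⇑S.Q2) w.1 P.w0,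
      polar_comm (⇑S.Q2) w'.1 P.v, polar_comm (⇑S.Q2) w'.1 P.w0, w.2.1, w.2.2, w'.2.1, w'.2.2,
      smul_eq_mul, mul_zero, sub_zero] at h3
    rw [polar_sub_left, h3, sub_self]
  have hσsurj : ∀ u, P.InW u → ∃ w, ∃ hw : P.InW w, σ w hw = u := fun u hu => by
    obtain ⟨w, hw⟩ := (Finite.injective_iff_surjective.1 hσinj) ⟨u, hu⟩
    exact ⟨w.1, w.2, congrArg Subtype.val hw⟩
  obtain ⟨x₀, hx₀⟩ : ∃ x₀ : Fin a → F, x₀ ≠ 0 := ⟨S.exists_nonsingular1.choose, fun e => (S.exists_nonsingular1.choose_spec)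
    (by rw [e, map_zero])⟩
  obtain ⟨η, hη⟩ := Classical.Quad.exists_polar_one S.nd1 (show α x₀ ≠ 0 by simpa using hx₀)
  rw [polar_comm] at hη
  let τ : (Fin b → F) →ₗ[F] (Fin b → F) :=
    S.lc η ∘ₗ Matrix.toLin' (g : Matrix (Fin a × Fin b) (Fin a × Fin b) F) ∘ₗ ptL x₀
  have hτ : ∀ y, τ y = S.lc η (g •ᵥ pt x₀ y) := fun y => by simp [τ, Matrix.toLin'_apply]
  have hτv : ∀ y, QuadraticMap.polar S.Q2 P.v y = 0 → QuadraticMap.polar S.Q2 P.v (τ y) = 0 := by
    intro y hy
    rw [hτ, ← S.polar_pt_left', S.polar_pt_left, hperp _ (by rw [S.ct_pt, hy, zero_smul]), polar_zero_right]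
  have hcong : ∀ x y, QuadraticMap.polar S.Q2 P.v y = 0 → ∀ φ, QuadraticMap.polar S.Q2 P.v φ = 0 →
      S.ct φ (g •ᵥ pt x y) = S.ct φ (pt (α x) (τ y)) := by
    intro x y hy φ hφ
    set φ' := φ - QuadraticMap.polar S.Q2 P.w0 φ • P.v
    have hφ' : P.InW φ' := ⟨by simp [φ', hφ, P.hvv], by simp [φ', P.h1']⟩
    obtain ⟨w, hw, hwe⟩ := hσsurj φ' hφ'
    have hz : ∀ x, S.ct P.v (pt x y) = 0 := fun x => by rw [S.ct_pt, hy, zero_smul]
    have h1 : ∀ x, S.ct φ' (g •ᵥ pt x y) = QuadraticMap.polar S.Q2 w y • α x := fun x => by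
      rw [← hwe, ← hσe w hw _ (hz x), S.ct_pt, map_smul]
    have h2 : ∀ z, S.ct P.v z = 0 → S.ct φ z = S.ct φ' z := fun z hz' => by simp [φ', hz']
    rw [h2 _ (hperp _ (hz x)), h2 _ (by rw [S.ct_pt, hτv y hy, zero_smul]), h1, S.ct_pt]
    congr 1
    rw [hτ, ← S.polar_pt_left', S.polar_pt_left, h1, polar_smul_right, smul_eq_mul, hη, mul_one]
  have hcongL : ∀ x y, QuadraticMap.polar S.Q2 P.v y = 0 →
      ∃ e, g •ᵥ pt x y = pt (α x) (τ y) + pt e P.v := fun x y hy =>
    ⟨S.ct P.w0 (g •ᵥ pt x y - pt (α x) (τ y)), by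
      rw [← S.eq_pt P.h1 fun φ hφ => by rw [map_sub, hcong x y hy φ hφ, sub_self], add_sub_cancel]⟩
  have hsim : ∀ x x' y y', QuadraticMap.polar S.Q2 P.v y = 0 → QuadraticMap.polar S.Q2 P.v y' = 0 →
      QuadraticMap.polar S.Q1 x x' * QuadraticMap.polar S.Q2 y y' =
        QuadraticMap.polar S.Q1 (α x) (α x') * QuadraticMap.polar S.Q2 (τ y) (τ y') := by
    intro x x' y y' hy hy'
    obtain ⟨e, he⟩ := hcongL x y hy
    obtain ⟨e', he'⟩ := hcongL x' y' hy'
    have h := H.polar hg (pt x y) (pt x' y')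
    rw [he, he', polar_add_left, polar_add_right, polar_add_right, S.polar_pt, S.polar_pt, S.polar_pt,
      S.polar_pt, S.polar_pt, P.hvv, hτv y' hy', polar_comm (⇑S.Q2) (τ y) P.v, hτv y hy] at h
    simp only [mul_zero, add_zero] at h
    exact h.symm
  obtain ⟨u, hu⟩ := S.exists_nonsingular1
  obtain ⟨x, x', hxW, hx'v, hxx'⟩ := P.exists_dual_W
  set ν := QuadraticMap.polar S.Q2 (τ x) (τ x')
  have hA : ∀ e e', QuadraticMap.polar S.Q1 e e' = QuadraticMap.polar S.Q1 (α e) (α e') * ν :=
    fun e e' => by have := hsim e e' x x' hxW.1 hx'v; rwa [hxx', mul_one] at this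
  obtain ⟨u', hu'⟩ := Classical.Quad.exists_polar_one S.nd1
    (show u ≠ 0 from fun e => hu (by rw [e, map_zero]))
  have hν : ν ≠ 0 := fun e => by simpa [e, hu'] using hA u u'
  have hB : ∀ y y', QuadraticMap.polar S.Q2 P.v y = 0 → QuadraticMap.polar S.Q2 P.v y' = 0 →
      QuadraticMap.polar S.Q2 (τ y) (τ y') = ν * QuadraticMap.polar S.Q2 y y' := fun y y' hy hy' => by
    have h := hsim u u' y y' hy hy'
    have h' := hA u u'
    rw [hu'] at h h'
    linear_combination ν * h.symm + QuadraticMap.polar S.Q2 (τ y) (τ y') * h'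
  -- the second factor
  let τ' : (Fin b → F) →ₗ[F] (Fin b → F) :=
    τ - (polarBilin S.Q2 P.w0 ∘ₗ τ).smulRight P.v
  let β₀ : (Fin b → F) →ₗ[F] (Fin b → F) := (polarBilin S.Q2 P.w0).smulRight P.v +
    (polarBilin S.Q2 P.v).smulRight (ν • P.w0) + τ' ∘ₗ P.pr
  have hτ'W : ∀ y, P.InW (τ' (P.pr y)) := fun y =>
    ⟨by simp [τ', hτv _ (P.pr_mem y).1, P.hvv], by simp [τ', P.h1']⟩
  have hβform : ∀ y y', QuadraticMap.polar S.Q2 (β₀ y) (β₀ y') = ν * QuadraticMap.polar S.Q2 y y' := by
    intro y y'
    have h1 : QuadraticMap.polar S.Q2 (τ' (P.pr y)) (τ' (P.pr y')) =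
        ν * QuadraticMap.polar S.Q2 (P.pr y) (P.pr y') := by
      rw [← hB _ _ (P.pr_mem y).1 (P.pr_mem y').1]
      simp [τ', P.hvv, hτv _ (P.pr_mem y').1, polar_comm (⇑S.Q2) (τ (P.pr y)) P.v, hτv _ (P.pr_mem y).1]
    have e := hτ'W y
    have e' := hτ'W y'
    simp only [β₀, LinearMap.add_apply, LinearMap.comp_apply, LinearMap.smulRight_apply,
      polarBilin_apply_apply, polar_add_left, polar_add_right, polar_smul_left, polar_smul_right, h1,
      polar_comm (⇑S.Q2) (τ' (P.pr y)) P.v, polar_comm (⇑S.Q2) (τ' (P.pr y)) P.w0, e.1, e.2, e'.1, e'.2,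
      P.hvv, P.hww, P.h1, P.h1', smul_eq_mul]
    simp only [P.pr_apply, polar_sub_left, polar_sub_right, polar_smul_left, polar_smul_right,
      P.hvv, P.hww, P.h1, P.h1', polar_comm (⇑S.Q2) y P.v, polar_comm (⇑S.Q2) y P.w0, smul_eq_mul]
    ring
  have hβinj : Function.Injective β₀ := (injective_iff_map_eq_zero β₀).2 fun y hy => S.nd2 y fun y' => by
    have h := hβform y y'
    rw [hy, polar_zero_left] at h
    exact (mul_eq_zero.1 h.symm).resolve_left hν
  let β : (Fin b → F) ≃ₗ[F] (Fin b → F) := LinearEquiv.ofInjectiveEndo β₀ hβinj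
  set h := kronGL (glOf α) (glOf β) with hh
  have hhi : h ∈ Cfsg.isometryGroup F ⇑S.Q := S.kron_mem_iso (inv_mul_cancel₀ hν)
    (fun e e' => by
      rw [glOf_mulVec, glOf_mulVec, hA e e', mul_comm (QuadraticMap.polar S.Q1 (α e) (α e')),
        inv_mul_cancel_left₀ hν])
    (fun y y' => by rw [glOf_mulVec, glOf_mulVec]; exact hβform y y')
  have hhpt : ∀ e y, h •ᵥ pt e y = pt (α e) (β₀ y) := fun e y => by
    rw [hh, kronGL_pt, glOf_mulVec, glOf_mulVec]; rfl
  have hβv : β₀ P.v = P.v := by simp [β₀, P.pr_apply, P.h1', P.hvv]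
  set r := h⁻¹ * g with hr
  have hgr : g = h * r := by rw [hr, mul_inv_cancel_left]
  have hri : r ∈ Cfsg.isometryGroup F ⇑S.Q := Subgroup.mul_mem _ (Subgroup.inv_mem _ hhi) (H.iso hg)
  have hrL : ∀ e, r •ᵥ pt e P.v = pt e P.v := fun e => gl_mulVec_injective h (by
    show h •ᵥ _ = h •ᵥ _
    rw [← gl_mulVec_mul, ← hgr, hα, hhpt, hβv])
  have hrR : InR S P.v r := by
    refine ⟨hrL, fun z hz => ?_⟩
    set d := S.ct P.w0 (g •ᵥ z - h •ᵥ z)
    have hd : g •ᵥ z - h •ᵥ z = pt d P.v := by
      refine S.eq_pt P.h1 fun φ hφ => ?_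
      have := P.eq_on_perp (S.ct φ ∘ₗ (Matrix.toLin' (g : Matrix (Fin a × Fin b) (Fin a × Fin b) F) -
        Matrix.toLin' (h : Matrix (Fin a × Fin b) (Fin a × Fin b) F))) (fun e => by
          simp [Matrix.toLin'_apply, hα, hhpt, hβv]) (fun e y hy => by
          have hy' : β₀ y = τ' y := by simp [β₀, hy.1, hy.2, P.pr_of_mem hy]
          simp only [LinearMap.comp_apply, LinearMap.sub_apply, Matrix.toLin'_apply, hhpt, hy', map_sub,
            hcong e y hy.1 φ hφ]
          simp [τ', S.ct_pt, sub_smul, polar_comm (⇑S.Q2) φ P.v, hφ]) hz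
      simpa [Matrix.toLin'_apply] using this
    refine ⟨α.symm d, gl_mulVec_injective h ?_⟩
    show h •ᵥ _ = h •ᵥ _
    rw [mulVec_sub, ← gl_mulVec_mul, ← hgr, hd, hhpt, hβv, α.apply_symm_apply]
  -- `r` is unipotent of odd order
  have hrperp : ∀ z, S.ct P.v (r •ᵥ z) = S.ct P.v z := fun z => by
    refine sub_eq_zero.1 (S.nd1 _ fun e => ?_)
    rw [polar_sub_left, ← S.polar_pt_right, ← S.polar_pt_right]
    nth_rewrite 1 [← hrL e]
    rw [iso_polar hri, sub_self]
  have hrM : r ∈ M := by
    obtain ⟨p, hp⟩ := CharP.exists F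
    have hpp : Fact p.Prime := ⟨CharP.char_is_prime F p⟩
    have hpo : Odd p := by
      refine hpp.out.eq_two_or_odd'.resolve_left fun e => S.two ?_
      subst e; exact_mod_cast CharP.cast_eq_zero F 2
    haveI : Nonempty (Fin a × Fin b) := ⟨(⟨0, by have := S.ha; omega⟩, ⟨0, by have := S.hb; omega⟩)⟩
    have h3 : (r.val - 1) ^ 3 = 0 := by
      refine Matrix.ext_of_mulVec_single fun i => ?_
      set z := Pi.single (M := fun _ => F) i 1
      have hd : ∀ t, (r.val - 1) *ᵥ t = r •ᵥ t - t := fun t => by rw [sub_mulVec, one_mulVec]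
      rw [pow_succ, pow_two, ← mulVec_mulVec, ← mulVec_mulVec, hd z, hd (r •ᵥ z - z), hd]
      obtain ⟨e, he⟩ := hrR.2 (r •ᵥ z - z) (by rw [map_sub, hrperp, sub_self])
      rw [he, hrL, sub_self, zero_mulVec]
    have hp2 : r.val ^ (p ^ 2) = 1 := by
      have hle : 3 ≤ p ^ 2 := le_trans (by norm_num) (Nat.pow_le_pow_left hpp.out.two_le 2)
      have := sub_pow_char_pow_of_commute p 2 (Commute.one_right r.val)
      rw [one_pow, ← Nat.add_sub_cancel' hle, pow_add, h3, zero_mul, Nat.add_sub_cancel' hle] at this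
      exact sub_eq_zero.1 this.symm
    obtain ⟨m, hm⟩ : ∃ m, p ^ 2 + 1 = 2 * m := by
      have := (hpo.pow (n := 2)).add_odd odd_one
      obtain ⟨m, hm⟩ := this
      exact ⟨m, by omega⟩
    have hr2 : r = r ^ m * r ^ m := by
      rw [← pow_add, ← two_mul, ← hm, pow_add, pow_one]
      have : r ^ (p ^ 2) = 1 := Units.ext (by rw [Units.val_pow_eq_pow_val, Units.val_one]; exact hp2)
      rw [this, one_mul]
    have hrO : r ∈ omegaGL ⇑S.Q := hr2 ▸ S.sq_mem (Subgroup.pow_mem _ hri m)
    have hhO : h ∈ omegaGL ⇑S.Q := by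
      have e : h = g * r⁻¹ := by rw [hgr, mul_inv_cancel_right]
      rw [e]
      exact Subgroup.mul_mem _ (H.le hg) (Subgroup.inv_mem _ hrO)
    have hhM : h ∈ M := H.mem h ⟨_, _, rfl⟩ hhO
    rw [hr]
    exact M.mul_mem (M.inv_mem hhM) hg
  obtain ⟨w, _, hw, he⟩ := hO P.v P.hv hv r hrM hrR
  rw [hgr, he]
  exact InH.mul ⟨_, _, rfl⟩ (S.inH_k2 _)

/-- Elements mapping a tensor line onto one are tensors. -/
lemma inH_of_line {g : GL (Fin a × Fin b) F} (hg : g ∈ M) {v v' : Fin b → F} (hv : S.Q2 v = 0)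
    (hv0 : v ≠ 0) (hv' : S.Q2 v' = 0) (hv'0 : v' ≠ 0) (hline : ∀ x, ∃ y, g •ᵥ pt x v = pt y v') :
    InH g := by
  obtain ⟨τ, hτ, c, hc, hτv⟩ := exists_move S.nd2 S.two (by rw [Fintype.card_fin]; have := S.hb; omega) hv' hv'0 hv hv0
  obtain ⟨w0, hw0, h1⟩ := exists_hyp S.nd2 hv hv0
  refine InH.cancel_left (S.inH_k2 τ) (inH_of_line_self H hO ⟨v, w0, hv, hw0, h1⟩
    (M.mul_mem (H.k2_mem hτ) hg) fun x => ?_)
  obtain ⟨y, hy⟩ := hline x
  refine ⟨c • y, ?_⟩
  show (S.k2 τ * g) •ᵥ pt x v = pt (c • y) v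
  rw [gl_mulVec_mul, hy, S.k2_pt, hτv, pt_smul_right, pt_smul_left]

omit hO in
/-- A tensor conjugate to a root element has a scalar first factor. -/
lemma scalar_of_conj {g : GL (Fin a × Fin b) F} (hg : g ∈ M) {v w : Fin b → F} (hv : S.Q2 v = 0)
    (hw : QuadraticMap.polar S.Q2 v w = 0)
    (hK : InH (g * S.k2 (siegel S.Q2 v w hv hw) * g⁻¹)) :
    ∃ B : GL (Fin b) F, g * S.k2 (siegel S.Q2 v w hv hw) * g⁻¹ = kronGL 1 B := by
  set k := S.k2 (siegel S.Q2 v w hv hw) with hk_def
  obtain ⟨A, B, hAB⟩ := hK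
  set K := g * k * g⁻¹ with hKdef
  obtain ⟨p, hp⟩ := CharP.exists F
  have hpp : Fact p.Prime := ⟨CharP.char_is_prime F p⟩
  haveI : Nonempty (Fin a) := ⟨⟨0, by have := S.ha; omega⟩⟩
  haveI : CharP (Module.End F (Fin a → F)) p :=
    charP_of_injective_algebraMap (algebraMap F (Module.End F (Fin a → F))).injective p
  have hpow : ∀ n : ℕ, siegel S.Q2 v w hv hw ^ n =
      siegel S.Q2 v ((n : F) • w) hv (by rw [polar_smul_right, hw, smul_zero]) := by
    intro n
    induction n with
    | zero =>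
      rw [pow_zero]
      refine (Classical.Quad.siegel_zero hv).symm.trans (Classical.Quad.siegel_congr _ _ _ _ rfl ?_)
      simp
    | succ n ih =>
      rw [pow_succ, ih, Classical.Quad.siegel_mul]
      refine Classical.Quad.siegel_congr _ _ _ _ rfl ?_
      simp [add_smul]
  have hkp : k ^ p = 1 := by
    rw [hk_def, ← map_pow, hpow, ← map_one S.k2]
    congr 1
    refine (Classical.Quad.siegel_congr _ _ _ _ rfl ?_).trans (Classical.Quad.siegel_zero hv)
    simp
  have hKp : K ^ p = 1 := by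
    rw [hKdef, conj_pow, hkp, mul_one, mul_inv_cancel]
  have hKn : ∀ n : ℕ, ∀ x y, (K ^ n) •ᵥ pt x y =
      pt ((Matrix.toLin' (A : Matrix (Fin a) (Fin a) F) ^ n) x)
        ((Matrix.toLin' (B : Matrix (Fin b) (Fin b) F) ^ n) y) := by
    intro n
    induction n with
    | zero => intro x y; simp
    | succ n ih =>
      intro x y
      rw [pow_succ, gl_mulVec_mul, hAB, kronGL_pt, ← hAB, ih, pow_succ, pow_succ, Module.End.mul_apply,
        Module.End.mul_apply, Matrix.toLin'_apply, Matrix.toLin'_apply]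
  obtain ⟨x₀, hx₀⟩ := S.exists_nonsingular1
  obtain ⟨x₁, hx₁⟩ := Classical.Quad.exists_polar_one S.nd1
    (show x₀ ≠ 0 from fun e => hx₀ (by rw [e, map_zero]))
  obtain ⟨i⟩ : Nonempty (Fin b) := ⟨⟨0, by have := S.hb; omega⟩⟩
  set y₀ : Fin b → F := Pi.single i 1
  have hy₀ : y₀ ≠ 0 := fun e => one_ne_zero (α := F) (by simpa [y₀] using congrFun e i)
  obtain ⟨φ, hφ⟩ := Classical.Quad.exists_polar_one S.nd2 hy₀
  rw [polar_comm] at hφ
  obtain ⟨ρ, hρ⟩ : ∃ ρ : F, ∀ x, (Matrix.toLin' (A : Matrix (Fin a) (Fin a) F) ^ p) x = ρ • x := by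
    set s := QuadraticMap.polar S.Q2 φ ((Matrix.toLin' (B : Matrix (Fin b) (Fin b) F) ^ p) y₀)
    have he : ∀ x, s • (Matrix.toLin' (A : Matrix (Fin a) (Fin a) F) ^ p) x = x := fun x => by
      have := congrArg (S.ct φ) (hKn p x y₀)
      rw [hKp, Units.val_one, one_mulVec, S.ct_pt, S.ct_pt, hφ, one_smul] at this
      exact this.symm
    have hs : s ≠ 0 := fun e => hx₀ (by rw [← he x₀, e, zero_smul, map_zero])
    exact ⟨s⁻¹, fun x => by conv_rhs => rw [← he x, inv_smul_smul₀ hs]⟩
  obtain ⟨c, hc⟩ := Finite.injective_iff_surjective.1 (frobenius_inj F p) ρ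
  rw [frobenius_def] at hc
  have hc0 : c ≠ 0 := by
    intro e
    rw [e, zero_pow hpp.out.ne_zero] at hc
    have hinj : Function.Injective (Matrix.toLin' (A : Matrix (Fin a) (Fin a) F) ^ p) := by
      rw [Module.End.coe_pow]
      exact Function.Injective.iterate (fun x y h => gl_mulVec_injective A (by simpa [Matrix.toLin'_apply] using h)) p
    exact hx₀ (by rw [hinj (a₁ := x₀) (a₂ := 0) (by rw [hρ, hρ, ← hc, zero_smul, zero_smul]), map_zero])
  let Ae : Module.End F (Fin a → F) := c⁻¹ • Matrix.toLin' (A : Matrix (Fin a) (Fin a) F)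
  let Be : Module.End F (Fin b → F) := c • Matrix.toLin' (B : Matrix (Fin b) (Fin b) F)
  have hKe : ∀ x y, K •ᵥ pt x y = pt (Ae x) (Be y) := fun x y => by
    rw [hAB, kronGL_pt]
    simp [Ae, Be, pt_smul_left, pt_smul_right, smul_smul, hc0, Matrix.toLin'_apply]
  have hAp : Ae ^ p = 1 := by
    refine LinearMap.ext fun x => ?_
    rw [smul_pow, LinearMap.smul_apply, hρ, inv_pow, hc, smul_smul, inv_mul_cancel₀, one_smul, Module.End.one_apply]
    rw [← hc]; exact pow_ne_zero _ hc0
  have hBinj : Function.Injective Be := fun y y' h => gl_mulVec_injective B (by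
    simpa [Be, hc0, Matrix.toLin'_apply] using h)
  set N := Ae - 1 with hN
  have hNp : N ^ p = 0 := by
    have h := sub_pow_char_of_commute p (Commute.one_right Ae)
    rw [hAp, one_pow, sub_self] at h
    exact h
  have hKiso : K ∈ Cfsg.isometryGroup F ⇑S.Q := H.iso (M.mul_mem (M.mul_mem hg (H.z_mem hv hw)) (M.inv_mem hg))
  have hAiso : ∀ x x', QuadraticMap.polar S.Q1 (Ae x) (Ae x') = QuadraticMap.polar S.Q1 x x' := by
    set ν := QuadraticMap.polar S.Q2 (Be y₀) (Be φ)
    have h1 : ∀ x x', QuadraticMap.polar S.Q1 x x' = QuadraticMap.polar S.Q1 (Ae x) (Ae x') * ν :=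
      fun x x' => by
        have h := iso_polar hKiso (pt x y₀) (pt x' φ)
        rw [hKe, hKe, S.polar_pt, S.polar_pt, polar_comm (⇑S.Q2) y₀ φ, hφ, mul_one] at h
        exact h.symm
    have h2 : ∀ n : ℕ, ∀ x x', QuadraticMap.polar S.Q1 x x' =
        QuadraticMap.polar S.Q1 ((Ae ^ n) x) ((Ae ^ n) x') * ν ^ n := by
      intro n
      induction n with
      | zero => intro x x'; simp
      | succ n ih =>
        intro x x'
        rw [h1 x x', ih (Ae x) (Ae x'), pow_succ Ae, Module.End.mul_apply, Module.End.mul_apply, pow_succ]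
        ring
    have h3 := h2 p x₀ x₁
    rw [hAp, Module.End.one_apply, Module.End.one_apply, hx₁, one_mul] at h3
    have hν1 : ν = 1 := frobenius_inj F p (by rw [frobenius_def, frobenius_def, one_pow, ← h3])
    intro x x'
    rw [h1 x x', hν1, mul_one]
  have hrank : ∀ (x x' : Fin a → F), ¬ Function.Injective
      (fun t : (Fin b → F) × (Fin b → F) => K •ᵥ (pt x t.1 + pt x' t.2) - (pt x t.1 + pt x' t.2)) := by
    intro x x' hinj
    let L : ((Fin b → F) × (Fin b → F)) →ₗ[F] (Fin a × Fin b → F) :=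
      (Matrix.toLin' (K : Matrix (Fin a × Fin b) (Fin a × Fin b) F) - LinearMap.id) ∘ₗ
        LinearMap.coprod (ptL x) (ptL x')
    have hL : Function.Injective L := fun t t' h => hinj (by
      simpa [L, Matrix.toLin'_apply, LinearMap.coprod_apply] using h)
    let U : ((Fin a → F) × (Fin a → F)) →ₗ[F] (Fin a × Fin b → F) :=
      Matrix.toLin' (g : Matrix (Fin a × Fin b) (Fin a × Fin b) F) ∘ₗ LinearMap.coprod (ptR v) (ptR w)
    have hle : LinearMap.range L ≤ LinearMap.range U := by
      rintro _ ⟨t, rfl⟩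
      set z := g⁻¹ •ᵥ (pt x t.1 + pt x' t.2) with hz
      refine ⟨(-(S.ct w z + S.Q2 w • S.ct v z), S.ct v z), ?_⟩
      have e : L t = K •ᵥ (pt x t.1 + pt x' t.2) - (pt x t.1 + pt x' t.2) := by
        simp [L, Matrix.toLin'_apply, LinearMap.coprod_apply]
      rw [e, hKdef, gl_mulVec_mul, gl_mulVec_mul, ← hz, hk_def, S.k2_siegel, mulVec_sub, mulVec_add,
        gl_mulVec_inv_mulVec]
      simp only [U, LinearMap.comp_apply, LinearMap.coprod_apply, Matrix.toLin'_apply, ptR_apply, mulVec_add]
      rw [← neg_one_smul F (S.ct w z + S.Q2 w • S.ct v z), pt_smul_left, mulVec_smul]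
      module
    have h1 := Submodule.finrank_mono hle
    rw [LinearMap.finrank_range_of_inj hL, finrank_prod, finrank_fin_fun] at h1
    have h2 := LinearMap.finrank_range_le U
    rw [finrank_prod, finrank_fin_fun] at h2
    have := S.lt
    omega
  have hN0 : ∀ x, N x = 0 := by
    by_contra hcon
    push Not at hcon
    obtain ⟨x, hx⟩ := hcon
    by_cases h2 : ∀ x, N (N x) = 0
    · obtain ⟨x', hx'⟩ : ∃ x', N x' ∉ Submodule.span F {N x} := by
        by_contra hall
        push Not at hall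
        have hiso : ∀ p q, QuadraticMap.polar S.Q1 (N p) q + QuadraticMap.polar S.Q1 p (N q) +
            QuadraticMap.polar S.Q1 (N p) (N q) = 0 := fun p q => by
          have := hAiso p q
          rw [show Ae p = p + N p by simp [hN], show Ae q = q + N q by simp [hN]] at this
          simp only [polar_add_left, polar_add_right] at this
          linear_combination this
        set n := N x
        have hnn : QuadraticMap.polar S.Q1 n n = 0 := by
          have := hiso x n
          rw [h2 x, polar_zero_right, polar_zero_right, add_zero, add_zero] at this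
          exact this
        have hxn : QuadraticMap.polar S.Q1 x n = 0 := by
          have := hiso x x
          rw [polar_comm (⇑S.Q1) n x, hnn, add_zero] at this
          exact (mul_eq_zero.1 (by linear_combination this : (2 : F) * QuadraticMap.polar S.Q1 x n = 0)).resolve_left S.two
        refine hx (S.nd1 n fun q => ?_)
        obtain ⟨s, hs⟩ := Submodule.mem_span_singleton.1 (hall q)
        have := hiso x q
        rwa [← hs, polar_smul_right, polar_smul_right, hxn, hnn, smul_zero, add_zero, add_zero] at this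
      have hnot : N x ∉ Submodule.span F {x, x', N x'} := by
        intro hm
        obtain ⟨s, t, r, hst⟩ := Submodule.mem_span_triple.1 hm
        have h' := congrArg N hst
        simp only [map_add, map_smul, h2, smul_zero, add_zero] at h'
        have hs : s = 0 ∧ t = 0 := by
          by_cases ht : t = 0
          · rw [ht, zero_smul, add_zero, smul_eq_zero] at h'
            exact ⟨h'.resolve_right hx, ht⟩
          · exact absurd (Submodule.mem_span_singleton.2 ⟨-(t⁻¹ * s), by
              rw [neg_smul, mul_smul, ← neg_eq_of_add_eq_zero_left h', smul_neg, neg_neg, inv_smul_smul₀ ht]⟩) hx'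
        rw [hs.1, hs.2, zero_smul, zero_smul, zero_add, zero_add] at hst
        rcases eq_or_ne r 0 with rfl | hr
        · exact hx (by rw [← hst, zero_smul])
        · exact hx' (Submodule.mem_span_singleton.2 ⟨r⁻¹, by rw [← hst, inv_smul_smul₀ hr]⟩)
      obtain ⟨η, hη1, hη0⟩ := QuadSim.exists_dual_vec S.nd1 hnot
      have hnot' : N x' ∉ Submodule.span F {x, x', N x} := by
        intro hm
        obtain ⟨s, t, r, hst⟩ := Submodule.mem_span_triple.1 hm
        have h' := congrArg N hst
        simp only [map_add, map_smul, h2, smul_zero, add_zero] at h'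
        have ht : t = 0 := by
          by_contra ht
          exact hx' (Submodule.mem_span_singleton.2 ⟨-(t⁻¹ * s), by
            rw [neg_smul, mul_smul, ← neg_eq_of_add_eq_zero_left h', smul_neg, neg_neg, inv_smul_smul₀ ht]⟩)
        rw [ht, zero_smul, add_zero, smul_eq_zero, or_iff_left hx] at h'
        rw [ht, h', zero_smul, zero_smul, zero_add, zero_add] at hst
        exact hx' (Submodule.mem_span_singleton.2 ⟨r, hst⟩)
      obtain ⟨η', hη'1, hη'0⟩ := QuadSim.exists_dual_vec S.nd1 hnot'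
      refine hrank x x' fun s t hst => ?_
      have key : ∀ (η : Fin a → F) (q : (Fin b → F) × (Fin b → F)),
          QuadraticMap.polar S.Q1 η x = 0 → QuadraticMap.polar S.Q1 η x' = 0 →
          S.lc η (K •ᵥ (pt x q.1 + pt x' q.2) - (pt x q.1 + pt x' q.2)) =
          QuadraticMap.polar S.Q1 η (N x) • Be q.1 + QuadraticMap.polar S.Q1 η (N x') • Be q.2 :=
        fun η q e1 e2 => by
          have hx1 : Ae x = x + N x := by simp [hN]
          have hx2 : Ae x' = x' + N x' := by simp [hN]
          rw [mulVec_add, hKe, hKe, hx1, hx2]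
          simp [S.lc_pt, pt_add_left, e1, e2]
      have m : ∀ {D : Set (Fin a → F)} {η : Fin a → F},
          (∀ d ∈ Submodule.span F D, QuadraticMap.polar S.Q1 d η = 0) → ∀ d ∈ D, QuadraticMap.polar S.Q1 η d = 0 :=
        fun h d hd => by rw [polar_comm]; exact h d (Submodule.subset_span hd)
      have e1 := congrArg (S.lc η) hst
      simp only [key η _ (m hη0 x (by simp)) (m hη0 x' (by simp)), m hη0 (N x') (by simp),
        polar_comm (⇑S.Q1) η (N x), hη1, one_smul, zero_smul, add_zero] at e1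
      have e2 := congrArg (S.lc η') hst
      simp only [key η' _ (m hη'0 x (by simp)) (m hη'0 x' (by simp)), m hη'0 (N x) (by simp),
        polar_comm (⇑S.Q1) η' (N x'), hη'1, one_smul, zero_smul, zero_add] at e2
      exact Prod.ext (hBinj e1) (hBinj e2)
    · push Not at h2
      obtain ⟨q₀, hq₀⟩ := h2
      obtain ⟨q, hq, hq3⟩ : ∃ q, N (N q) ≠ 0 ∧ N (N (N q)) = 0 := by
        have hex : ∃ j : ℕ, N (N ((N ^ j) q₀)) = 0 := ⟨p, by rw [hNp]; simp⟩
        classical
        obtain ⟨j, hj⟩ : ∃ j, Nat.find hex = j + 1 := Nat.exists_eq_succ_of_ne_zero fun e => by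
          have := Nat.find_spec hex
          rw [e, pow_zero, Module.End.one_apply] at this
          exact hq₀ this
        refine ⟨(N ^ j) q₀, Nat.find_min hex (by omega), ?_⟩
        have := Nat.find_spec hex
        rwa [hj, pow_succ', Module.End.mul_apply] at this
      have hnot : N (N q) ∉ Submodule.span F {q, N q} := by
        intro hm
        obtain ⟨s, t, hst⟩ := Submodule.mem_span_pair.1 hm
        have h' := congrArg (fun z => N (N z)) hst
        simp only [map_add, map_smul, hq3, map_zero, smul_zero, add_zero, smul_eq_zero, or_iff_left hq] at h'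
        subst h'
        rw [zero_smul, zero_add] at hst
        have h'' := congrArg N hst
        rw [map_smul, hq3, smul_eq_zero, or_iff_left hq] at h''
        rw [h'', zero_smul] at hst
        exact hq hst.symm
      obtain ⟨η, hη1, hη0⟩ := QuadSim.exists_dual_vec S.nd1 hnot
      have hnot' : N q ∉ Submodule.span F {q} := by
        intro hm
        obtain ⟨s, hs⟩ := Submodule.mem_span_singleton.1 hm
        refine hnot (Submodule.mem_span_pair.2 ⟨0, s, ?_⟩)
        rw [zero_smul, zero_add, ← map_smul, hs]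
      obtain ⟨η', hη'1, hη'0⟩ := QuadSim.exists_dual_vec S.nd1 hnot'
      refine hrank q (N q) fun s t hst => ?_
      have key : ∀ (η : Fin a → F) (r : (Fin b → F) × (Fin b → F)), QuadraticMap.polar S.Q1 η q = 0 →
          S.lc η (K •ᵥ (pt q r.1 + pt (N q) r.2) - (pt q r.1 + pt (N q) r.2)) =
          QuadraticMap.polar S.Q1 η (N q) • (Be r.1 + Be r.2 - r.2) +
            QuadraticMap.polar S.Q1 η (N (N q)) • Be r.2 :=
        fun η r e1 => by
          have hx1 : Ae q = q + N q := by simp [hN]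
          have hx2 : Ae (N q) = N q + N (N q) := by simp [hN]
          rw [mulVec_add, hKe, hKe, hx1, hx2]
          simp [S.lc_pt, pt_add_left, e1]
          module
      have m1 := hη0 q (Submodule.subset_span (by simp))
      have m2 := hη0 (N q) (Submodule.subset_span (by simp))
      have m3 := hη'0 q (Submodule.subset_span (by simp))
      rw [polar_comm] at hη1 hη'1 m1 m2 m3
      have e1 := congrArg (S.lc η) hst
      simp only [key η _ m1, m2, hη1, one_smul, zero_smul, zero_add] at e1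
      have e2' := hBinj e1
      have e2 := congrArg (S.lc η') hst
      simp only [key η' _ m3, hη'1, one_smul] at e2
      rw [e2'] at e2
      simp only [add_left_inj, sub_left_inj] at e2
      exact Prod.ext (hBinj e2) e2'
  refine ⟨glOf (LinearEquiv.ofInjectiveEndo Be hBinj), gl_ext_pt fun x y => ?_⟩
  rw [hKe, kronGL_pt, glOf_mulVec, Units.val_one, one_mulVec]
  have : Ae x = x := sub_eq_zero.1 (hN0 x)
  rw [this]
  rfl

lemma inH_of_key_aniso {g : GL (Fin a × Fin b) F} (hg : g ∈ M) {v w : Fin b → F} (hv : S.Q2 v = 0)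
    (hv0 : v ≠ 0) (hw : QuadraticMap.polar S.Q2 v w = 0) (hQw : S.Q2 w ≠ 0)
    (hK : InH (g * S.k2 (siegel S.Q2 v w hv hw) * g⁻¹)) : InH g := by
  obtain ⟨B, hB⟩ := scalar_of_conj H hg hv hw hK
  set k := S.k2 (siegel S.Q2 v w hv hw)
  set d : (Fin b → F) → Fin b → F := fun y => (B : Matrix (Fin b) (Fin b) F) *ᵥ y - y
  have hpt : ∀ x y, (g * k * g⁻¹) •ᵥ pt x y - pt x y = pt x (d y) := fun x y => by
    rw [hB, kronGL_pt, Units.val_one, one_mulVec, ← pt_sub_right]
  have hconj : ∀ z, (g * k * g⁻¹) •ᵥ z - z = g •ᵥ (k •ᵥ (g⁻¹ •ᵥ z) - g⁻¹ •ᵥ z) := fun z => by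
    rw [gl_mulVec_mul, gl_mulVec_mul, mulVec_sub, gl_mulVec_inv_mulVec]
  have him : ∀ x y, ∃ e, g •ᵥ pt e v = pt x (d (d y)) := by
    intro x y
    rw [← hpt, ← hpt, hconj, hconj, gl_inv_mulVec_mulVec]
    set z := g⁻¹ •ᵥ pt x y
    refine ⟨-(2 * S.Q2 w) • S.ct v z, ?_⟩
    congr 1
    rw [S.k2_siegel, S.k2_siegel]
    simp only [map_add, map_sub, map_smul, S.ct_pt, polar_comm (⇑S.Q2) w v, hw,
      Classical.Quad.polar_singular_self hv, Classical.Quad.polar_self', pt_add_left, pt_smul_left,
      LinearMap.add_apply, zero_smul, smul_zero, pt_zero_left, add_sub_cancel_left, add_zero, sub_zero, sub_self, pt_sub_left]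
    module
  obtain ⟨y₀, hy₀⟩ : ∃ y, d (d y) ≠ 0 := by
    by_contra hcon
    push Not at hcon
    obtain ⟨u, hu⟩ := S.exists_nonsingular1
    obtain ⟨w0, hw0, h1⟩ := exists_hyp S.nd2 hv hv0
    let L : (Fin a × Fin b → F) →ₗ[F] (Fin a × Fin b → F) :=
      Matrix.toLin' ((g * k * g⁻¹ : GL (Fin a × Fin b) F) : Matrix (Fin a × Fin b) (Fin a × Fin b) F) - LinearMap.id
    have h0 := linear_ext (f := L ∘ₗ L) (g := 0) fun x y => by
      simp only [L, LinearMap.comp_apply, LinearMap.sub_apply, Matrix.toLin'_apply, LinearMap.id_apply, hpt,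
        hcon, pt_zero_right, LinearMap.zero_apply]
    have h2 := LinearMap.congr_fun h0 (g •ᵥ pt u w0)
    simp only [L, LinearMap.comp_apply, LinearMap.sub_apply, Matrix.toLin'_apply, LinearMap.id_apply,
      LinearMap.zero_apply, hconj, gl_inv_mulVec_mulVec] at h2
    have h3 := gl_mulVec_injective g (h2.trans (mulVec_zero _).symm)
    rw [S.k2_siegel, S.k2_siegel] at h3
    have h4 := congrArg (S.ct w0) h3
    simp [S.ct_pt, h1, polar_comm (⇑S.Q2) w0 v, polar_comm (⇑S.Q2) w v, hw,
      Classical.Quad.polar_singular_self hv, Classical.Quad.polar_singular_self hw0,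
      Classical.Quad.polar_self', smul_smul, ← add_smul, ← sub_smul, ← neg_smul] at h4
    have hu0 : u ≠ 0 := fun e => hu (by rw [e, map_zero])
    simp [hu0, S.two, hQw] at h4
  choose f hf using him
  have hfinj : Function.Injective fun x => f x y₀ := fun x x' h => pt_left_injective hy₀ (by
    rw [← hf x y₀, ← hf x' y₀, show f x y₀ = f x' y₀ from h])
  refine inH_of_line H hO hg hv hv0 (singular_of_line H hg hv (fun x => f x y₀) fun x => hf x y₀) hy₀
    fun e => ?_
  obtain ⟨x, hx⟩ := Finite.injective_iff_surjective.1 hfinj e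
  exact ⟨x, by rw [← hf x y₀, show f x y₀ = e from hx]⟩

/-- A tensor conjugate of a root element comes from a tensor. -/
theorem inH_of_key {g : GL (Fin a × Fin b) F} (hg : g ∈ M) {v w : Fin b → F} (hv : S.Q2 v = 0)
    (hw : QuadraticMap.polar S.Q2 v w = 0) (hv0 : v ≠ 0) (hwv : w ∉ Submodule.span F {v})
    (hK : InH (g * S.k2 (siegel S.Q2 v w hv hw) * g⁻¹)) : InH g := by
  by_cases hQw : S.Q2 w = 0
  swap
  · exact inH_of_key_aniso H hO hg hv hv0 hw hQw hK
  obtain ⟨B, hB⟩ := scalar_of_conj H hg hv hw hK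
  obtain ⟨u', hu', hQu'⟩ : ∃ u ∈ QuadSim.perpOf S.Q2 (Submodule.span F {v, w}), S.Q2 u ≠ 0 := by
    by_contra hcon
    push Not at hcon
    by_cases hb4 : b = 4
    · obtain ⟨c, hc⟩ := (S.small hb4).2 v w hv hQw hw hv0
      exact hwv (Submodule.mem_span_singleton.2 ⟨c, hc⟩)
    have h1 := OmS.two_mul_finrank_le (Q := S.Q2) S.nd2 hcon
    have h2 := QuadSim.finrank_perpOf (Q := S.Q2) (Submodule.span F {v, w})
    have h3 := QuadSim.finrank_span_two_le v w
    rw [Fintype.card_fin] at h1 h2
    have := S.hb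
    omega
  have huv : QuadraticMap.polar S.Q2 v u' = 0 := by
    rw [polar_comm]; exact QuadSim.mem_perpOf.1 hu' v (Submodule.subset_span (by simp))
  have huw : QuadraticMap.polar S.Q2 w u' = 0 := by
    rw [polar_comm]; exact QuadSim.mem_perpOf.1 hu' w (Submodule.subset_span (by simp))
  obtain ⟨y₀, hy₀⟩ : ∃ y, (B : Matrix (Fin b) (Fin b) F) *ᵥ y - y ≠ 0 := by
    by_contra hcon
    push Not at hcon
    have h1 : g * S.k2 (siegel S.Q2 v w hv hw) * g⁻¹ = 1 := by
      rw [hB]
      exact gl_ext_pt fun x y => by rw [kronGL_pt, sub_eq_zero.1 (hcon y), Units.val_one, one_mulVec,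
        Units.val_one, one_mulVec]
    rw [conj_eq_one_iff] at h1
    obtain ⟨u, hu⟩ := S.exists_nonsingular1
    obtain ⟨w0, hw0, h1w⟩ := exists_hyp S.nd2 hv hv0
    have h2 := congrArg (fun t => t •ᵥ pt u w0) h1
    simp only [Units.val_one, one_mulVec, S.k2_pt, Classical.Quad.siegel_apply] at h2
    have h3 := ptR_injective (a := b) (v := u) (fun e => hu (by rw [e, map_zero]))
    have hl := congrArg (S.lc ((2 * S.Q1 u)⁻¹ • u)) h2
    simp only [S.lc_pt, polar_smul_left, Classical.Quad.polar_self', smul_eq_mul,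
      inv_mul_cancel₀ (mul_ne_zero S.two hu), one_smul, hQw, polar_comm (⇑S.Q2) w0 v, h1w, zero_mul,
      sub_zero] at hl
    rw [add_assoc, add_eq_left] at hl
    refine hwv (Submodule.mem_span_singleton.2 ⟨QuadraticMap.polar S.Q2 w0 w, ?_⟩)
    rw [neg_smul, ← sub_eq_add_neg, sub_eq_zero] at hl
    exact hl.symm
  set v' := (B : Matrix (Fin b) (Fin b) F) *ᵥ y₀ - y₀
  set k := S.k2 (siegel S.Q2 v w hv hw) with hk
  have him : ∀ x, ∃ e e', g •ᵥ (pt e v + pt e' w) = pt x v' := by
    intro x
    set z := g⁻¹ •ᵥ pt x y₀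
    refine ⟨-(S.ct w z + S.Q2 w • S.ct v z), S.ct v z, ?_⟩
    rw [pt_sub_right]
    rw [← show (g * k * g⁻¹) •ᵥ pt x y₀ = pt x ((B : Matrix (Fin b) (Fin b) F) *ᵥ y₀) by
      rw [hk, hB, kronGL_pt, Units.val_one, one_mulVec]]
    rw [gl_mulVec_mul, gl_mulVec_mul, hk, S.k2_siegel, mulVec_sub, mulVec_add, mulVec_add, gl_mulVec_inv_mulVec]
    rw [← neg_one_smul F (S.ct w z + S.Q2 w • S.ct v z), pt_smul_left, mulVec_smul]
    module
  have hv'Q : S.Q2 v' = 0 := by
    obtain ⟨u, hu⟩ := S.exists_nonsingular1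
    obtain ⟨e, e', he⟩ := him u
    have h2 := H.polar hg (pt e v + pt e' w) (pt e v + pt e' w)
    rw [he, S.polar_pt, Classical.Quad.polar_self', Classical.Quad.polar_self'] at h2
    simp only [polar_add_left, polar_add_right, S.polar_pt, Classical.Quad.polar_singular_self hv,
      Classical.Quad.polar_singular_self hQw, hw, polar_comm (⇑S.Q2) w v, mul_zero, add_zero] at h2
    simpa [S.two, hu] using h2
  set k' := S.k2 (siegel S.Q2 v u' hv huv)
  have hm := M.mul_mem (M.mul_mem hg (H.z_mem hv huv)) (M.inv_mem hg)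
  refine inH_of_key_aniso H hO hg hv hv0 huv hQu' (inH_of_line H hO hm hv'Q hy₀ hv'Q hy₀ fun x => ⟨x, ?_⟩)
  obtain ⟨e, e', he⟩ := him x
  rw [← he, gl_mulVec_mul, gl_mulVec_mul, gl_inv_mulVec_mulVec, mulVec_add, mulVec_add, mulVec_add, S.k2_pt, S.k2_pt,
    Classical.Quad.siegel_fix hv huv (Classical.Quad.polar_singular_self hv) huv,
    Classical.Quad.siegel_fix hv huv (by rw [polar_comm]; exact hw) huw]

/-- The stabiliser of a singular point with a singular first factor. -/
theorem inH_of_fix (hgap : a + 2 ≤ b) {e : Fin a → F} (he : S.Q1 e = 0) (he0 : e ≠ 0) {v : Fin b → F}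
    (hv : S.Q2 v = 0) (hv0 : v ≠ 0) {g : GL (Fin a × Fin b) F} (hg : g ∈ M) {c₀ : F}
    (hfix : g •ᵥ pt e v = pt (c₀ • e) v) : InH g := by
  have ha := S.ha
  have hb := S.hb
  have hvv := Classical.Quad.polar_singular_self hv
  have key : ∀ (k : ℕ) (E : Submodule F (Fin a → F)), finrank F E + k = a → e ∈ E →
      ∀ g ∈ M, (∀ x ∈ E, ∃ y ∈ E, g •ᵥ pt x v = pt y v) → InH g := by
    intro k
    induction k with
    | zero =>
      intro E hE _ g hg h
      have hE' : E = ⊤ := Submodule.eq_top_of_finrank_eq (by rw [finrank_fin_fun]; omega)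
      exact inH_of_line H hO hg hv hv0 hv hv0 fun x => by
        obtain ⟨y, -, hy⟩ := h x (hE' ▸ Submodule.mem_top)
        exact ⟨y, hy⟩
    | succ k ih =>
      intro E hE heE g hg hstab
      have hEpos : 1 ≤ finrank F E := Submodule.one_le_finrank_iff.2 fun h0 => he0
        ((Submodule.mem_bot F).1 (h0 ▸ heE))
      -- the case of a further point going into the orthogonal of the line
      have hker : ∀ g ∈ M, (∀ x ∈ E, ∃ y ∈ E, g •ᵥ pt x v = pt y v) → ∀ x, x ∉ E →
          S.ct v (g •ᵥ pt x v) = 0 → InH g := by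
        intro g hg hstab x hx hcx
        let Φ : (Fin b → F) →ₗ[F] (Fin a → F) ⧸ E := E.mkQ ∘ₗ S.ct.flip (g •ᵥ pt x v)
        set P := QuadSim.perpOf S.Q2 (Submodule.span F {v})
        obtain ⟨w, hwP, hwv⟩ : ∃ w, (w ∈ P ∧ Φ w = 0) ∧ w ∉ Submodule.span F {v} := by
          by_contra hcon
          push Not at hcon
          have hle : P ⊓ LinearMap.ker Φ ≤ Submodule.span F {v} := fun w hw => hcon w ⟨hw.1, hw.2⟩
          have h1 := Submodule.finrank_mono hle
          rw [finrank_span_singleton hv0] at h1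
          have h2 := QuadSim.finrank_perpOf (Q := S.Q2) (Submodule.span F {v})
          rw [finrank_span_singleton hv0, Fintype.card_fin] at h2
          have h3 := Submodule.finrank_sup_add_finrank_inf_eq P (LinearMap.ker Φ)
          have h4 := (P ⊔ LinearMap.ker Φ).finrank_le
          have h5 := LinearMap.finrank_range_add_finrank_ker Φ
          have h6 := (LinearMap.range Φ).finrank_le
          have h7 := E.finrank_quotient_add_finrank
          rw [finrank_fin_fun] at h4 h5 h7
          have h2' : b ≤ finrank F P + 1 := h2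
          omega
        obtain ⟨hwP, hwΦ⟩ := hwP
        have hvw : QuadraticMap.polar S.Q2 v w = 0 := by
          rw [polar_comm]; exact QuadSim.mem_perpOf.1 hwP v (Submodule.mem_span_singleton_self v)
        have hwq : S.ct w (g •ᵥ pt x v) ∈ E := (Submodule.Quotient.mk_eq_zero E).1 hwΦ
        set z := S.k2 (siegel S.Q2 v w hv hvw)
        have hzv : ∀ y, z •ᵥ pt y v = pt y v := fun y => by
          rw [S.k2_pt, Classical.Quad.siegel_fix hv hvw hvv hvw]
        choose f hf hfe using hstab
        have hsurj : ∀ y ∈ E, ∃ x ∈ E, g •ᵥ pt x v = pt y v := by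
          let fE : E → E := fun x => ⟨f x x.2, hf x x.2⟩
          have hinj : Function.Injective fE := fun x y hxy => Subtype.ext <| pt_left_injective hv0 <|
            gl_mulVec_injective g (show g •ᵥ _ = g •ᵥ _ by
              rw [hfe x x.2, hfe y y.2, show f x x.2 = f y y.2 from congrArg Subtype.val hxy])
          intro y hy
          obtain ⟨x, hx⟩ := Finite.injective_iff_surjective.1 hinj ⟨y, hy⟩
          exact ⟨x, x.2, by rw [hfe x x.2, show f x x.2 = y from congrArg Subtype.val hx]⟩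
        obtain ⟨e', he', he'e⟩ := hsurj _ hwq
        have hf' : InH (g⁻¹ * z * g⁻¹⁻¹) := by
          rw [inv_inv]
          refine ih (E ⊔ Submodule.span F {x}) (by rw [Submodule.finrank_sup_span_singleton hx]; omega)
            (Submodule.mem_sup_left heE) _ (M.mul_mem (M.mul_mem (M.inv_mem hg) (H.z_mem hv hvw)) hg) ?_
          intro y hy
          obtain ⟨y₁, hy₁, y₂, hy₂, rfl⟩ := Submodule.mem_sup.1 hy
          obtain ⟨t, rfl⟩ := Submodule.mem_span_singleton.1 hy₂
          refine ⟨y₁ + t • x - t • e', Submodule.sub_mem _ hy (Submodule.mem_sup_left (E.smul_mem t he')), ?_⟩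
          rw [gl_mulVec_mul, gl_mulVec_mul, pt_add_left, pt_smul_left, mulVec_add, mulVec_smul, mulVec_add,
            mulVec_smul, hfe y₁ hy₁, hzv, S.k2_siegel, hcx, pt_zero_left, add_zero, smul_zero, add_zero,
            ← he'e, ← hfe y₁ hy₁, mulVec_add, mulVec_smul, mulVec_sub, gl_inv_mulVec_mulVec,
            gl_inv_mulVec_mulVec, gl_inv_mulVec_mulVec]
          rw [sub_eq_add_neg (y₁ + t • x), ← neg_smul, pt_add_left, pt_add_left, pt_smul_left, pt_smul_left]
          module
        simpa using (inH_of_key H hO (M.inv_mem hg) hv hvw hv0 hwv hf').inv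
      let c : (Fin a → F) →ₗ[F] (Fin a → F) :=
        S.ct v ∘ₗ Matrix.toLin' (g : Matrix (Fin a × Fin b) (Fin a × Fin b) F) ∘ₗ ptR v
      have hc : ∀ x, c x = S.ct v (g •ᵥ pt x v) := fun x => by simp [c, Matrix.toLin'_apply]
      by_cases hex : ∃ x, x ∉ E ∧ c x = 0
      · obtain ⟨x, hx, hcx⟩ := hex
        exact hker g hg hstab x hx (by rw [← hc, hcx])
      push Not at hex
      choose f hf hfe using hstab
      have hcE : ∀ x ∈ E, c x = 0 := fun x hx => by rw [hc, hfe x hx, S.ct_pt, hvv, zero_smul]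
      have hcperp : ∀ x y, ∀ hy : y ∈ E, QuadraticMap.polar S.Q1 (c x) (f y hy) = 0 := fun x y hy => by
        rw [hc, ← S.polar_pt_right, ← hfe y hy, H.polar hg, S.polar_pt, hvv, mul_zero]
      have hcrange : finrank F (LinearMap.range c) = k + 1 := by
        have h1 := LinearMap.finrank_range_add_finrank_ker c
        have h2 : LinearMap.ker c = E := le_antisymm (fun x hx => by_contra fun hn => hex x hn hx) hcE
        rw [h2, finrank_fin_fun] at h1
        omega
      set P := QuadSim.perpOf S.Q2 (Submodule.span F {v})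
      have hP : b ≤ finrank F P + 1 := by
        have h2 := QuadSim.finrank_perpOf (Q := S.Q2) (Submodule.span F {v})
        rw [finrank_span_singleton hv0, Fintype.card_fin] at h2
        exact h2
      -- the linear part of the new contraction at a chosen point
      let L : (Fin a → F) → (Fin b → F) →ₗ[F] Module.Dual F (Fin a → F) := fun x₀ =>
        LinearMap.mk₂ F (fun w y => QuadraticMap.polar S.Q1 (c x₀) (S.ct w (g •ᵥ pt y v))
            - QuadraticMap.polar S.Q1 (S.ct w (g •ᵥ pt x₀ v)) (c y))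
          (fun w w' y => by simp only [map_add, LinearMap.add_apply, polar_add_left, polar_add_right]; ring)
          (fun t w y => by
            simp only [map_smul, LinearMap.smul_apply, polar_smul_left, polar_smul_right, smul_eq_mul]; ring)
          (fun w y y' => by
            simp only [pt_add_left, mulVec_add, map_add, polar_add_right]; ring)
          (fun t w y => by
            simp only [pt_smul_left, mulVec_smul, map_smul, polar_smul_right, smul_eq_mul]; ring)
      have hLv : ∀ x₀, L x₀ v = 0 := fun x₀ => LinearMap.ext fun y => by simp [L, hc]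
      have hpick : ∀ x₀, x₀ ∉ E → ∀ w ∈ P, L x₀ w = 0 → w ∉ Submodule.span F {v} →
          (∀ y, S.Q2 w * QuadraticMap.polar S.Q1 (c x₀) (c y) = 0) → InH g := by
        intro x₀ hx₀ w hwP hwL hwv hwQ
        have hvw : QuadraticMap.polar S.Q2 v w = 0 := by
          rw [polar_comm]; exact QuadSim.mem_perpOf.1 hwP v (Submodule.mem_span_singleton_self v)
        set z := S.k2 (siegel S.Q2 v w hv hvw)
        have hm := M.mul_mem (M.mul_mem (M.inv_mem hg) (H.z_mem hv hvw)) hg
        have hzv : ∀ y, z •ᵥ pt y v = pt y v := fun y => by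
          rw [S.k2_pt, Classical.Quad.siegel_fix hv hvw hvv hvw]
        have hf' : InH (g⁻¹ * z * g⁻¹⁻¹) := by
          rw [inv_inv]
          refine hker _ hm (fun y hy => ⟨y, hy, ?_⟩) x₀ hx₀ ?_
          · rw [gl_mulVec_mul, gl_mulVec_mul, hfe y hy, hzv, ← hfe y hy, gl_inv_mulVec_mulVec]
          · refine S.nd1 _ fun y => ?_
            rw [← S.polar_pt_right, gl_mulVec_mul, gl_mulVec_mul, ← H.polar hg, gl_mulVec_inv_mulVec,
              S.k2_siegel, sub_eq_add_neg, polar_add_left, polar_add_left, polar_neg_left, S.polar_pt_left,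
              S.polar_pt_left, ← hc, ← hc, H.polar hg, S.polar_pt, hvv, mul_zero, zero_add, polar_add_left,
              polar_smul_left]
            have h1 := LinearMap.congr_fun hwL y
            simp only [L, LinearMap.mk₂_apply, LinearMap.zero_apply] at h1
            rw [smul_eq_mul]
            linear_combination h1 - hwQ y
        simpa using (inH_of_key H hO (M.inv_mem hg) hv hvw hv0 hwv hf').inv
      have hLker : ∀ x₀, x₀ ∉ E → b ≤ finrank F (P ⊓ LinearMap.ker (L x₀) : Submodule F (Fin b → F)) + (k + 1) := by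
        intro x₀ hx₀
        set E' := E ⊔ Submodule.span F {x₀}
        have hE' : finrank F E' = finrank F E + 1 := Submodule.finrank_sup_span_singleton hx₀
        have hann : ∀ w ∈ P, L x₀ w ∈ E'.dualAnnihilator := fun w hwP => by
          rw [Submodule.mem_dualAnnihilator]
          intro y hy
          obtain ⟨y₁, hy₁, y₂, hy₂, rfl⟩ := Submodule.mem_sup.1 hy
          obtain ⟨t, rfl⟩ := Submodule.mem_span_singleton.1 hy₂
          have hvw : QuadraticMap.polar S.Q2 w v = 0 := QuadSim.mem_perpOf.1 hwP v (Submodule.mem_span_singleton_self v)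
          rw [map_add, map_smul]
          simp only [L, LinearMap.mk₂_apply, hfe y₁ hy₁, S.ct_pt, hvw, zero_smul, polar_zero_right,
            hcE y₁ hy₁, sub_self, polar_comm (⇑S.Q1) (c x₀) (S.ct w (g •ᵥ pt x₀ v)), smul_zero, add_zero]
        let L' : P →ₗ[F] Module.Dual F (Fin a → F) := (L x₀).domRestrict P
        have h1 := LinearMap.finrank_range_add_finrank_ker L'
        have h2 : finrank F (LinearMap.range L') ≤ finrank F E'.dualAnnihilator :=
          Submodule.finrank_mono (by rintro _ ⟨w, rfl⟩; exact hann w w.2)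
        have h3 := Subspace.finrank_add_finrank_dualAnnihilator_eq E'
        rw [finrank_fin_fun] at h3
        have h4 : finrank F (LinearMap.ker L') ≤
            finrank F (P ⊓ LinearMap.ker (L x₀) : Submodule F (Fin b → F)) := by
          rw [LinearEquiv.finrank_eq (Submodule.equivMapOfInjective P.subtype P.injective_subtype (LinearMap.ker L'))]
          refine Submodule.finrank_mono ?_
          rintro _ ⟨w, hw, rfl⟩
          exact ⟨w.2, LinearMap.mem_ker.1 hw⟩
        omega
      obtain ⟨C, hC⟩ := Submodule.exists_isCompl E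
      by_cases hbig : k + 5 ≤ b
      · obtain ⟨x₀, hx₀⟩ : ∃ x₀, x₀ ∉ E := by
          by_contra hcon
          push Not at hcon
          rw [Submodule.eq_top_iff'.2 hcon, finrank_top, finrank_fin_fun] at hE
          omega
        obtain ⟨D, hD⟩ := Submodule.exists_isCompl (Submodule.span F {v})
        have h1 := Submodule.finrank_add_eq_of_isCompl hD
        rw [finrank_span_singleton hv0, finrank_fin_fun] at h1
        have h2 := Submodule.finrank_sup_add_finrank_inf_eq (P ⊓ LinearMap.ker (L x₀)) D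
        have h3 := (P ⊓ LinearMap.ker (L x₀) ⊔ D).finrank_le
        rw [finrank_fin_fun] at h3
        have h4 := hLker x₀ hx₀
        obtain ⟨w, hw, hw0, hQw⟩ := OmS.exists_singular_of_three (Q := S.Q2) S.two
          (S := P ⊓ LinearMap.ker (L x₀) ⊓ D) (by omega)
        exact hpick x₀ hx₀ w hw.1.1 hw.1.2
          (fun hs => hw0 ((Submodule.disjoint_def.1 hD.disjoint) w hs hw.2)) fun y => by rw [hQw, zero_mul]
      · have hk1 : finrank F E = 1 := by omega
        have hEe : E = Submodule.span F {e} := (Submodule.eq_of_le_of_finrank_eq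
          (by rw [Submodule.span_singleton_le_iff_mem]; exact heE) (by rw [finrank_span_singleton he0, hk1])).symm
        obtain ⟨t, ht⟩ := Submodule.mem_span_singleton.1 (hEe ▸ hf e heE)
        have ht0 : t ≠ 0 := fun e0 => he0 (pt_left_injective hv0 (gl_mulVec_injective g (by
          show g •ᵥ _ = g •ᵥ _
          rw [hfe e heE, ← ht, e0, zero_smul, pt_zero_left, mulVec_zero])))
        have hcp : ∀ x, QuadraticMap.polar S.Q1 (c x) e = 0 := fun x => by
          have := hcperp x e heE
          rw [← ht, polar_smul_right, smul_eq_mul] at this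
          exact (mul_eq_zero.1 this).resolve_left ht0
        obtain ⟨x₀, hx₀⟩ : ∃ x₀, c x₀ = e := by
          by_contra hcon
          push Not at hcon
          have hle : LinearMap.range c ⊔ Submodule.span F {e} ≤ QuadSim.perpOf S.Q1 (Submodule.span F {e}) := by
            refine sup_le ?_ ?_
            · rintro _ ⟨x, rfl⟩
              exact QuadSim.mem_perpOf.2 fun d hd => by
                obtain ⟨s, rfl⟩ := Submodule.mem_span_singleton.1 hd
                rw [polar_smul_right, hcp, smul_zero]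
            · rw [Submodule.span_singleton_le_iff_mem]
              exact QuadSim.mem_perpOf.2 fun d hd => by
                obtain ⟨s, rfl⟩ := Submodule.mem_span_singleton.1 hd
                rw [polar_smul_right, Classical.Quad.polar_singular_self he, smul_zero]
          have h1 := Submodule.finrank_mono hle
          rw [Submodule.finrank_sup_span_singleton (fun hm => by
            obtain ⟨x, hx⟩ := hm; exact hcon x hx), hcrange] at h1
          have htop : QuadSim.perpOf S.Q1 (Submodule.span F {e}) = ⊤ := Submodule.eq_top_of_finrank_eq (by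
            have := (QuadSim.perpOf S.Q1 (Submodule.span F {e})).finrank_le
            rw [finrank_fin_fun] at this ⊢
            omega)
          refine he0 (S.nd1 e fun y => ?_)
          rw [polar_comm]
          exact QuadSim.mem_perpOf.1 (htop ▸ Submodule.mem_top) e (Submodule.mem_span_singleton_self e)
        have hx₀E : x₀ ∉ E := fun h => he0 (by rw [← hx₀, hcE x₀ h])
        have h4 := hLker x₀ hx₀E
        obtain ⟨w, hw, hwv⟩ : ∃ w, (w ∈ P ∧ L x₀ w = 0) ∧ w ∉ Submodule.span F {v} := by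
          by_contra hcon
          push Not at hcon
          have hle : P ⊓ LinearMap.ker (L x₀) ≤ Submodule.span F {v} := fun w hw => hcon w ⟨hw.1, hw.2⟩
          have h1 := Submodule.finrank_mono hle
          rw [finrank_span_singleton hv0] at h1
          omega
        exact hpick x₀ hx₀E w hw.1 hw.2 hwv fun y => by
          rw [hx₀, polar_comm, hcp, mul_zero]
  refine key (a - 1) (Submodule.span F {e}) (by rw [finrank_span_singleton he0]; omega)
    (Submodule.mem_span_singleton_self e) g hg fun x hx => ?_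
  obtain ⟨t, rfl⟩ := Submodule.mem_span_singleton.1 hx
  exact ⟨(t * c₀) • e, Submodule.smul_mem _ _ (Submodule.mem_span_singleton_self e), by
    rw [pt_smul_left, mulVec_smul, hfix, ← pt_smul_left, smul_smul]⟩

end CfsgLib.ClassicalMax.OTens
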