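/-
Averaging the partial trace over the cosets of the tensor stabiliser.

If only tensors act trivially around tensor lines, then the root elements at a tensor line act freely on the
other cosets of the tensor elements, so the average of the partial trace is the partial trace itself on the
operators they centralise.  The group therefore normalises the operators of the first factor.
-/
import Cfsg.Agent.Lib.ClassicalMax.OrthTensorMax.Stab
import Cfsg.Agent.Lib.ClassicalMax.OrthTensorMax.AvgMat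
set_option autoImplicit false
set_option linter.unusedSectionVars false
set_option linter.unusedVariables false
set_option linter.unusedSimpArgs false

namespace CfsgLib.ClassicalMax.OTens

open Matrix Kronecker Cfsg.Geo QuadraticMap Module
open CfsgLib.Classical.Quad (NDPolar Orth siegel siegelGroup)
open CfsgLib.ClassicalMax.Kron

variable {F : Type*} [Field F] [Fintype F] [DecidableEq F] {a b : ℕ}

local notation:70 g:71 " •ᵥ " z:70 => Matrix.mulVec (Units.val g) z

lemma single_mulVec_single (i i₀ : Fin a) :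
    Matrix.single i i₀ (1 : F) *ᵥ Pi.single i₀ 1 = Pi.single i 1 := by
  funext j
  simp [Matrix.single_apply, Pi.single_apply, eq_comm]

/-- Conjugation of operators. -/
def cj {ι : Type*} [Fintype ι] [DecidableEq ι] (g : GL ι F) (ψ : Matrix ι ι F) : Matrix ι ι F :=
  g.val * ψ * (g⁻¹).val

lemma cj_mul {ι : Type*} [Fintype ι] [DecidableEq ι] (g h : GL ι F) (ψ : Matrix ι ι F) :
    cj (g * h) ψ = cj g (cj h ψ) := by
  simp [cj, _root_.mul_inv_rev, mul_assoc]

lemma cj_one {ι : Type*} [Fintype ι] [DecidableEq ι] (ψ : Matrix ι ι F) : cj (1 : GL ι F) ψ = ψ := by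
  simp [cj]

lemma cj_smul {ι : Type*} [Fintype ι] [DecidableEq ι] (g : GL ι F) (c : F) (ψ : Matrix ι ι F) :
    cj g (c • ψ) = c • cj g ψ := by
  simp [cj]

lemma cj_inv_cancel {ι : Type*} [Fintype ι] [DecidableEq ι] (g : GL ι F) (ψ : Matrix ι ι F) :
    cj g⁻¹ (cj g ψ) = ψ := by rw [← cj_mul, inv_mul_cancel, cj_one]

lemma piT_cj_of_inH {h : GL (Fin a × Fin b) F} (hh : InH h) (ψ : Matrix (Fin a × Fin b) (Fin a × Fin b) F) :
    piT (cj h ψ) = cj h (piT ψ) := by
  obtain ⟨A, B, rfl⟩ := hh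
  rw [cj, cj, kronGL_inv]
  exact piT_conj _ _ (by rw [← Units.val_mul, mul_inv_cancel, Units.val_one])
    (by rw [← Units.val_mul, inv_mul_cancel, Units.val_one]) ψ

/-- The tensor elements of a group. -/
def Hs (M : Subgroup (GL (Fin a × Fin b) F)) : Subgroup M where
  carrier := {m | InH (m : GL (Fin a × Fin b) F)}
  mul_mem' h h' := InH.mul h h'
  one_mem' := InH.one
  inv_mem' h := InH.inv h

lemma mem_Hs {M : Subgroup (GL (Fin a × Fin b) F)} {m : M} : m ∈ Hs M ↔ InH (m : GL (Fin a × Fin b) F) :=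
  Iff.rfl

/-- One term of the average. -/
def term {ι : Type*} [Fintype ι] [DecidableEq ι] (π : Matrix ι ι F → Matrix ι ι F)
    (χ : Matrix ι ι F) (g : GL ι F) : Matrix ι ι F :=
  cj g (π (cj g⁻¹ χ))

variable (M : Subgroup (GL (Fin a × Fin b) F))

lemma term_inH {h : GL (Fin a × Fin b) F} (hh : InH h) (g : GL (Fin a × Fin b) F)
    (χ : Matrix (Fin a × Fin b) (Fin a × Fin b) F) : term piT χ (g * h) = term piT χ g := by
  rw [term, term, _root_.mul_inv_rev, cj_mul h⁻¹, piT_cj_of_inH hh.inv, ← cj_mul, mul_inv_cancel_right]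

noncomputable instance instFintypeQuotHs : Fintype (M ⧸ Hs M) := Fintype.ofFinite _

/-- The average of the partial trace over the cosets. -/
noncomputable def avg (χ : Matrix (Fin a × Fin b) (Fin a × Fin b) F) :
    Matrix (Fin a × Fin b) (Fin a × Fin b) F :=
  ∑ γ : M ⧸ Hs M, term piT χ (γ.out : GL (Fin a × Fin b) F)

lemma term_out_smul (m : M) (γ : M ⧸ Hs M) (χ : Matrix (Fin a × Fin b) (Fin a × Fin b) F) :
    term piT χ ((m • γ).out : GL (Fin a × Fin b) F) = term piT χ ((m : GL (Fin a × Fin b) F) * γ.out) := by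
  have e : m • γ = ((m * γ.out : M) : M ⧸ Hs M) := by
    conv_lhs => rw [← QuotientGroup.out_eq' γ]
    rfl
  obtain ⟨h, hh⟩ := QuotientGroup.mk_out_eq_mul (Hs M) (m * γ.out)
  rw [e, hh, Subgroup.coe_mul, Subgroup.coe_mul, term_inH (mem_Hs.1 h.2)]

lemma avg_equiv (m : M) (χ : Matrix (Fin a × Fin b) (Fin a × Fin b) F) :
    avg M (cj (m : GL (Fin a × Fin b) F) χ) = cj (m : GL (Fin a × Fin b) F) (avg M χ) := by
  rw [avg, avg, show cj (m : GL (Fin a × Fin b) F) (∑ γ : M ⧸ Hs M, term piT χ (γ.out : GL (Fin a × Fin b) F)) =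
      ∑ γ : M ⧸ Hs M, cj (m : GL (Fin a × Fin b) F) (term piT χ (γ.out : GL (Fin a × Fin b) F)) by
    simp [cj, Finset.mul_sum, Finset.sum_mul]]
  rw [← Equiv.sum_comp (MulAction.toPerm m : Equiv.Perm (M ⧸ Hs M))]
  refine Finset.sum_congr rfl fun γ _ => ?_
  rw [MulAction.toPerm_apply, term_out_smul, term, term, cj_mul, _root_.mul_inv_rev, cj_mul, cj_inv_cancel]

lemma avg_adjoint (φ χ : Matrix (Fin a × Fin b) (Fin a × Fin b) F) :
    trace (avg M φ * χ) = trace (φ * avg M χ) := by
  rw [avg, avg, Finset.sum_mul, Finset.mul_sum, trace_sum, trace_sum]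
  refine Finset.sum_congr rfl fun γ _ => ?_
  set g := (γ.out : GL (Fin a × Fin b) F)
  rw [term, term, cj, cj, cj, cj, inv_inv]
  have key : trace (g.val * piT ((g⁻¹).val * φ * g.val) * (g⁻¹).val * χ) =
      trace (piT ((g⁻¹).val * φ * g.val) * ((g⁻¹).val * χ * g.val)) := by
    rw [mul_assoc g.val, mul_assoc g.val, trace_mul_comm g.val]
    simp only [mul_assoc]
  rw [key, trace_piT_comm, mul_assoc ((g⁻¹).val * φ), mul_assoc ((g⁻¹).val), trace_mul_comm ((g⁻¹).val),
    mul_assoc]

variable {M}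

/-- A free orbit decomposition makes a sum vanish. -/
lemma sum_eq_zero_of_free {T γ X : Type*} [Fintype T] [DecidableEq γ] [AddCommMonoid X] (act : T → γ → γ)
    (f : γ → X) (hinj : ∀ i, ∀ t t', act t i = act t' i → t = t') (hzero : ∀ i, ∑ t, f (act t i) = 0)
    (hmem : ∀ i, ∃ t, act t i = i) (hclosed : ∀ i t t', ∃ t'', act t (act t' i) = act t'' i)
    (hback : ∀ i t, ∃ t', act t' (act t i) = i) :
    ∀ s : Finset γ, (∀ i ∈ s, ∀ t, act t i ∈ s) → (∀ i ∈ s, True) → ∑ i ∈ s, f i = 0 := by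
  intro s
  induction s using Finset.strongInduction with
  | _ s ih =>
    intro hs _
    rcases s.eq_empty_or_nonempty with rfl | ⟨i, hi⟩
    · simp
    set O := Finset.univ.image fun t => act t i
    have hsub : O ⊆ s := fun j hj => by
      obtain ⟨t, -, rfl⟩ := Finset.mem_image.1 hj
      exact hs i hi t
    rw [← Finset.sum_sdiff hsub, Finset.sum_image fun t _ t' _ h => hinj i t t' h, hzero, add_zero]
    refine ih (s \ O) (Finset.sdiff_ssubset hsub ⟨act (hmem i).choose i,
      Finset.mem_image_of_mem _ (Finset.mem_univ _)⟩) (fun j hj t => ?_) (fun _ _ => trivial)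
    rw [Finset.mem_sdiff] at hj ⊢
    refine ⟨hs j hj.1 t, fun hO => hj.2 ?_⟩
    obtain ⟨t', -, ht'⟩ := Finset.mem_image.1 hO
    obtain ⟨t₁, ht₁⟩ := hback j t
    obtain ⟨t₂, ht₂⟩ := hclosed i t₁ t'
    exact Finset.mem_image.2 ⟨t₂, Finset.mem_univ _, by rw [← ht₂, ht', ht₁]⟩

/-! ### The root elements at a tensor line -/

section Root

variable {S : Space F a b} {k : ℕ} {v : Fin b → F} (hv : S.Q2 v = 0) (ws : Fin k → (Fin b → F))
  (hperp : ∀ i, polar S.Q2 v (ws i) = 0)

/-- The parameter vector. -/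
def wt (t : Fin k → F) : Fin b → F := ∑ i, t i • ws i

include hperp in
lemma wt_perp (t : Fin k → F) : polar S.Q2 v (wt ws t) = 0 := by
  show (polarBilin S.Q2 v) (wt ws t) = 0
  simp [wt, map_sum, hperp]

/-- The root element with the given parameters. -/
noncomputable def zt (t : Fin k → F) : Orth S.Q2 := siegel S.Q2 v (wt ws t) hv (wt_perp ws hperp t)

lemma zt_add (t t' : Fin k → F) : zt hv ws hperp (t + t') = zt hv ws hperp t * zt hv ws hperp t' := by
  rw [zt, zt, zt, Classical.Quad.siegel_mul]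
  refine Classical.Quad.siegel_congr _ _ _ _ rfl ?_
  simp [wt, add_smul, Finset.sum_add_distrib]

lemma zt_zero : zt hv ws hperp 0 = 1 := by
  rw [zt, ← Classical.Quad.siegel_zero hv]
  refine Classical.Quad.siegel_congr _ _ _ _ rfl ?_
  simp [wt]

lemma zt_neg (t : Fin k → F) : zt hv ws hperp (-t) = (zt hv ws hperp t)⁻¹ := by
  rw [eq_inv_iff_mul_eq_one, ← zt_add, neg_add_cancel, zt_zero]

lemma deg_glOf : Deg 2 fun t => (glOf (zt hv ws hperp t).1).val := by
  intro l j
  set e : Fin b → F := Pi.single j 1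
  refine ⟨MvPolynomial.C (e l) + MvPolynomial.C (polar S.Q2 e v) * linP (fun i => ws i l) +
    (MvPolynomial.C (-1) * linP (fun i => polar S.Q2 e (ws i)) +
      MvPolynomial.C (-((2 : F)⁻¹ * polar S.Q2 e v)) * quadP (fun i i' => polar S.Q2 (ws i) (ws i'))) *
      MvPolynomial.C (v l), ?_, fun t => ?_⟩
  · have h1 := linP_deg (fun i => ws i l)
    have h2 := linP_deg (fun i => polar S.Q2 e (ws i))
    have h3 := quadP_deg (fun i i' => polar S.Q2 (ws i) (ws i'))
    refine (MvPolynomial.totalDegree_add _ _).trans (max_le ((MvPolynomial.totalDegree_add _ _).trans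
      (max_le ?_ ?_)) ((MvPolynomial.totalDegree_mul _ _).trans ?_))
    · rw [MvPolynomial.totalDegree_C]; omega
    · refine (MvPolynomial.totalDegree_mul _ _).trans ?_
      rw [MvPolynomial.totalDegree_C]; omega
    · rw [MvPolynomial.totalDegree_C, add_zero]
      refine (MvPolynomial.totalDegree_add _ _).trans (max_le ?_ ?_) <;>
        refine (MvPolynomial.totalDegree_mul _ _).trans ?_ <;> rw [MvPolynomial.totalDegree_C] <;> omega
  · have hcol : (glOf (zt hv ws hperp t).1).val l j = (zt hv ws hperp t).1 e l := by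
      rw [← glOf_mulVec]; simp [e]
    have hQ : S.Q2 (wt ws t) = (2 : F)⁻¹ * ∑ i, t i * ∑ i', polar S.Q2 (ws i) (ws i') * t i' := by
      have h := Classical.Quad.polar_self' (Q := S.Q2) (wt ws t)
      have hsum : polar S.Q2 (wt ws t) (wt ws t) = ∑ i, t i * ∑ i', polar S.Q2 (ws i) (ws i') * t i' := by
        show polarBilin S.Q2 (∑ i, t i • ws i) (∑ i, t i • ws i) = _
        rw [LinearMap.map_sum₂]
        refine Finset.sum_congr rfl fun i _ => ?_
        rw [map_smul, LinearMap.smul_apply, smul_eq_mul, map_sum]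
        refine congrArg _ (Finset.sum_congr rfl fun i' _ => ?_)
        rw [map_smul, smul_eq_mul, mul_comm]
        rfl
      rw [← hsum, h, inv_mul_cancel_left₀ S.two]
    have hlin : polar S.Q2 e (wt ws t) = ∑ i, polar S.Q2 e (ws i) * t i := by
      show polarBilin S.Q2 e (wt ws t) = _
      simp [wt, map_sum, mul_comm]
    have hw : wt ws t l = ∑ i, ws i l * t i := by simp [wt, mul_comm]
    show (glOf (zt hv ws hperp t).1).val l j = _
    rw [hcol, zt, Classical.Quad.siegel_apply]
    simp only [Pi.add_apply, Pi.smul_apply, smul_eq_mul, hQ, hlin, hw, map_add, map_mul, MvPolynomial.eval_C,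
      linP_eval, quadP_eval]
    ring

lemma deg_k2 : Deg 2 fun t => (S.k2 (zt hv ws hperp t)).val := by
  intro i j
  obtain ⟨P, hP, hPe⟩ := deg_glOf hv ws hperp i.2 j.2
  refine ⟨MvPolynomial.C ((1 : Matrix (Fin a) (Fin a) F) i.1 j.1) * P,
    (MvPolynomial.totalDegree_mul _ _).trans (by rw [MvPolynomial.totalDegree_C, zero_add]; exact hP),
    fun t => ?_⟩
  rw [map_mul, MvPolynomial.eval_C, ← hPe]
  rfl

/-- The conjugates of an operator under the root elements sum to zero. -/
lemma sum_cj (hk : 4 < (Fintype.card F - 1) * k) (X : Matrix (Fin a × Fin b) (Fin a × Fin b) F) :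
    ∑ t, cj (S.k2 (zt hv ws hperp t)) X = 0 := by
  have hinv : Deg 2 fun t => ((S.k2 (zt hv ws hperp t))⁻¹).val := by
    intro i j
    obtain ⟨P, hP, hPe⟩ := deg_k2 hv ws hperp i j
    refine ⟨MvPolynomial.aeval (fun l => -(MvPolynomial.X l : MvPolynomial (Fin k) F)) P, ?_, fun t => ?_⟩
    · refine le_trans ?_ hP
      rw [MvPolynomial.aeval_def, MvPolynomial.eval₂_eq]
      refine (MvPolynomial.totalDegree_finsetSum _ _).trans (Finset.sup_le fun d hd => ?_)
      refine (MvPolynomial.totalDegree_mul _ _).trans ?_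
      rw [MvPolynomial.algebraMap_eq, MvPolynomial.totalDegree_C, zero_add]
      refine (MvPolynomial.totalDegree_finset_prod _ _).trans ((Finset.sum_le_sum fun l _ => ?_).trans
        (MvPolynomial.le_totalDegree hd))
      refine (MvPolynomial.totalDegree_pow _ _).trans ?_
      rw [MvPolynomial.totalDegree_neg, MvPolynomial.totalDegree_X, mul_one]
    · show ((S.k2 (zt hv ws hperp t))⁻¹).val i j = _
      have e : (S.k2 (zt hv ws hperp (-t))).val i j = _ := hPe (-t)
      rw [← map_inv, ← zt_neg, e, MvPolynomial.aeval_def, MvPolynomial.eval₂_eq', MvPolynomial.eval_eq']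
      simp
  exact (((deg_k2 hv ws hperp).mul (Deg.const X)).mul hinv).sum_eq_zero (by omega)

end Root

variable {S : Space F a b} (H : Hyp S M) (hO : OnlyScalar S M)
include H hO

/-- The average agrees with the partial trace on operators centralised by enough root elements. -/
lemma avg_eq {k : ℕ} {v : Fin b → F} (hv : S.Q2 v = 0) (hv0 : v ≠ 0) (ws : Fin k → (Fin b → F))
    (hperp : ∀ i, QuadraticMap.polar S.Q2 v (ws i) = 0)
    (hind : ∀ t : Fin k → F, wt ws t ∈ Submodule.span F {v} → t = 0)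
    (hk : 4 < (Fintype.card F - 1) * k) {χ : Matrix (Fin a × Fin b) (Fin a × Fin b) F}
    (hfix : ∀ t, cj (S.k2 (zt hv ws hperp t)) χ = χ) : avg M χ = piT χ := by
  classical
  set γ₀ : M ⧸ Hs M := ((1 : M) : M ⧸ Hs M)
  have hbase : term piT χ (γ₀.out : GL (Fin a × Fin b) F) = piT χ := by
    obtain ⟨h, hh⟩ := QuotientGroup.mk_out_eq_mul (Hs M) 1
    rw [show γ₀.out = 1 * (h : M) from hh, one_mul, ← one_mul ((h : M) : GL (Fin a × Fin b) F),
      term_inH (mem_Hs.1 h.2), term, inv_one, cj_one, cj_one]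
  let z : (Fin k → F) → M := fun t =>
    ⟨S.k2 (zt hv ws hperp t), H.z_mem hv (wt_perp ws hperp t)⟩
  have hzmul : ∀ t t', z t * z t' = z (t + t') := fun t t' => Subtype.ext (by
    show S.k2 _ * S.k2 _ = S.k2 _
    rw [← map_mul, ← zt_add])
  have hz0 : z 0 = 1 := Subtype.ext (by show S.k2 _ = 1; rw [zt_zero, map_one])
  have hfree : ∀ γ, γ ≠ γ₀ → ∀ t, z t • γ = γ → t = 0 := by
    intro γ hγ t ht
    refine hind t (by_contra fun hw => hγ ?_)
    conv_lhs at ht => rw [← QuotientGroup.out_eq' γ]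
    conv_rhs at ht => rw [← QuotientGroup.out_eq' γ]
    have h1 : (γ.out)⁻¹ * (z t * γ.out) ∈ Hs M := QuotientGroup.eq.1 ht.symm
    have hK : InH (((γ.out : M) : GL (Fin a × Fin b) F)⁻¹ *
        S.k2 (siegel S.Q2 v (wt ws t) hv (wt_perp ws hperp t)) *
        ((γ.out : M) : GL (Fin a × Fin b) F)⁻¹⁻¹) := by
      rw [inv_inv, mul_assoc]
      exact h1
    have h2 := (inH_of_key H hO (M.inv_mem (γ.out).2) hv (wt_perp ws hperp t) hv0 hw hK).inv
    rw [inv_inv] at h2
    rw [← QuotientGroup.out_eq' γ]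
    exact QuotientGroup.eq.2 (mem_Hs.2 (by simpa using InH.inv h2))
  have hne : ∀ γ, γ ≠ γ₀ → ∀ t, z t • γ ≠ γ₀ := by
    intro γ hγ t ht
    apply hγ
    have h1 : γ = z (-t) • γ₀ := by rw [← ht, ← mul_smul, hzmul, neg_add_cancel, hz0, one_smul]
    rw [h1]
    exact QuotientGroup.eq.2 (mem_Hs.2 (by simpa using (S.inH_k2 _).inv))
  rw [avg, ← Finset.sum_erase_add _ _ (Finset.mem_univ γ₀), hbase, add_eq_right]
  have hzero := sum_eq_zero_of_free (T := Fin k → F) (γ := {γ : M ⧸ Hs M // γ ≠ γ₀})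
    (fun t γ => ⟨z t • γ.1, hne γ.1 γ.2 t⟩)
    (fun γ => term piT χ ((γ.1).out : GL (Fin a × Fin b) F))
    (fun γ t t' h => ?_) (fun γ => ?_) (fun γ => ⟨0, Subtype.ext (by simp [hz0])⟩)
    (fun γ t t' => ⟨t + t', Subtype.ext (by simp [← mul_smul, hzmul])⟩)
    (fun γ t => ⟨-t, Subtype.ext (by simp [← mul_smul, hzmul, hz0])⟩)
    Finset.univ (fun _ _ _ => Finset.mem_univ _) (fun _ _ => trivial)
  · rw [← Finset.sum_subtype (Finset.univ.erase γ₀) (fun x => by simp) fun γ =>
      term piT χ (γ.out : GL (Fin a × Fin b) F)] at hzero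
    exact hzero
  · have h' : z t • γ.1 = z t' • γ.1 := congrArg Subtype.val h
    have : z (t - t') • (z t' • γ.1) = z t' • γ.1 := by rw [← mul_smul, hzmul, sub_add_cancel, h']
    exact sub_eq_zero.1 (hfree _ (hne γ.1 γ.2 t') _ this)
  · show ∑ t, term piT χ ((z t • γ.1).out : GL (Fin a × Fin b) F) = 0
    simp only [term_out_smul]
    rw [← sum_cj hv ws hperp hk (term piT χ ((γ.1).out : GL (Fin a × Fin b) F))]
    refine Finset.sum_congr rfl fun t _ => ?_
    have hfix' : cj (S.k2 (zt hv ws hperp t))⁻¹ χ = χ := by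
      conv_lhs => rw [← hfix t, cj_inv_cancel]
    rw [term, term, cj_mul, _root_.mul_inv_rev, cj_mul, show ((z t : M) : GL (Fin a × Fin b) F)⁻¹ =
      (S.k2 (zt hv ws hperp t))⁻¹ from rfl, hfix']

lemma cj_kron_rop {v : Fin b → F} (g : Orth S.Q2) (X : Matrix (Fin a) (Fin a) F) (Y : Matrix (Fin b) (Fin b) F)
    (hY : (glOf g.1).val * Y * ((glOf g.1)⁻¹).val = Y) : cj (S.k2 g) (X ⊗ₖ Y) = X ⊗ₖ Y := by
  show ((1 : GL (Fin a) F).val ⊗ₖ (glOf g.1).val) * (X ⊗ₖ Y) *
    (((1 : GL (Fin a) F)⁻¹).val ⊗ₖ ((glOf g.1)⁻¹).val) = _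
  rw [← mul_kronecker_mul, ← mul_kronecker_mul, inv_one, Units.val_one, one_mul, mul_one, hY]

omit hO in
lemma rop_fix (g : Orth S.Q2) (y y' : Fin b → F) :
    (glOf g.1).val * rop S.Q2 y y' * ((glOf g.1)⁻¹).val = rop S.Q2 (g.1 y) (g.1 y') :=
  rop_conj S.Q2 g (glOf_mulVec g.1) (by rw [← Units.val_mul, mul_inv_cancel, Units.val_one]) y y'

omit H hO in
/-- Independent parameters in a subspace, outside the line of `v`. -/
lemma exists_params (P : Submodule F (Fin b → F)) {v : Fin b → F} (hv0 : v ≠ 0) :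
    ∃ k, finrank F P ≤ k + 1 ∧ ∃ ws : Fin k → (Fin b → F), (∀ i, ws i ∈ P) ∧
      ∀ t : Fin k → F, wt ws t ∈ Submodule.span F {v} → t = 0 := by
  obtain ⟨D, hD⟩ := Submodule.exists_isCompl (Submodule.span F {v})
  let T := P ⊓ D
  let β := Module.finBasis F T
  refine ⟨finrank F T, ?_, fun i => (β i : Fin b → F), fun i => (β i).2.1, fun t ht => ?_⟩
  · have h1 := Submodule.finrank_add_eq_of_isCompl hD
    rw [finrank_span_singleton hv0] at h1
    have h2 := Submodule.finrank_sup_add_finrank_inf_eq P D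
    have h3 := (P ⊔ D).finrank_le
    show finrank F P ≤ finrank F ↥(P ⊓ D) + 1
    omega
  · have hmem : wt (fun i => (β i : Fin b → F)) t ∈ D :=
      Submodule.sum_mem _ fun i _ => D.smul_mem _ (β i).2.2
    have h0 := Submodule.disjoint_def.1 hD.disjoint _ ht hmem
    have h1 : ∑ i, t i • β i = 0 := Subtype.ext (by simpa [wt] using h0)
    funext i
    exact Fintype.linearIndependent_iff.1 β.linearIndependent t h1 i

/-- When only tensors act trivially around tensor lines, the group consists of tensors. -/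
theorem inH_of_mem' : ∀ g ∈ M, InH g := by
  have ha := S.ha
  have hb := S.hb
  have h2 := S.two
  have hq : 3 ≤ Fintype.card F := by
    have h01 : (0 : F) ≠ 1 := zero_ne_one
    have h3 : (2 : F) ≠ 1 := fun e => one_ne_zero (α := F) (by linear_combination e)
    have : ({0, 1, 2} : Finset F).card = 3 := by
      rw [Finset.card_insert_of_notMem (by simp [h01, Ne.symm h2]),
        Finset.card_insert_of_notMem (by simp [Ne.symm h3]), Finset.card_singleton]
    rw [← this]; exact Finset.card_le_univ _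
  -- operators of trace zero in the second factor
  have hperpv : ∀ v : Fin b → F, v ≠ 0 →
      b ≤ finrank F (QuadSim.perpOf S.Q2 (Submodule.span F {v})) + 1 := fun v hv0 => by
    have h := QuadSim.finrank_perpOf (Q := S.Q2) (Submodule.span F {v})
    rwa [finrank_span_singleton hv0, Fintype.card_fin] at h
  have hzero : ∀ v w : Fin b → F, S.Q2 v = 0 → v ≠ 0 → polar S.Q2 v w = 0 → ∀ X : Matrix (Fin a) (Fin a) F,
      avg M (X ⊗ₖ rop S.Q2 v v) = 0 ∧ avg M (X ⊗ₖ (rop S.Q2 v w - rop S.Q2 w v)) = 0 := by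
    intro v w hv hv0 hw X
    obtain ⟨k, hk, ws, hws, hind⟩ := exists_params (QuadSim.perpOf S.Q2 (Submodule.span F {v})) hv0
    have hperp : ∀ i, polar S.Q2 v (ws i) = 0 := fun i => by
      rw [polar_comm]; exact QuadSim.mem_perpOf.1 (hws i) v (Submodule.mem_span_singleton_self v)
    have hkk : 4 < (Fintype.card F - 1) * k := by
      have := hperpv v hv0
      by_cases hb4 : b = 4
      · have := S.five_le_card hb4
        calc 4 < 4 * 2 := by norm_num
          _ ≤ _ := Nat.mul_le_mul (by omega) (by omega)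
      have h3 : 3 ≤ k := by omega
      calc 4 < 2 * 3 := by norm_num
        _ ≤ _ := Nat.mul_le_mul (by omega) h3
    have hzv : ∀ t, (zt hv ws hperp t).1 v = v := fun t =>
      Classical.Quad.siegel_fix hv _ (Classical.Quad.polar_singular_self hv) (wt_perp ws hperp t)
    constructor
    · rw [avg_eq H hO hv hv0 ws hperp hind hkk fun t => cj_kron_rop H hO (v := v) _ X _ (by
        rw [rop_fix H, hzv]), piT_kron, trace_rop, Classical.Quad.polar_singular_self hv, zero_smul]
    · rw [avg_eq H hO hv hv0 ws hperp hind hkk fun t => cj_kron_rop H hO (v := v) _ X _ (by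
        rw [mul_sub, sub_mul, rop_fix H, rop_fix H, hzv]
        set d := -(polar S.Q2 w (wt ws t)) - S.Q2 (wt ws t) * polar S.Q2 w v
        have e : (zt hv ws hperp t).1 w = w + d • v := by
          rw [zt, Classical.Quad.siegel_apply, polar_comm (⇑S.Q2) w v, hw, zero_smul, add_zero]
          simp [d, polar_comm (⇑S.Q2) w v, hw]
        rw [e]
        refine Matrix.ext_of_mulVec_single fun i => ?_
        simp only [sub_mulVec, rop_mulVec, polar_add_right, polar_smul_right, smul_eq_mul]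
        module), piT_kron, trace_sub, trace_rop, trace_rop, polar_comm (⇑S.Q2) w v, sub_self, zero_smul]
  -- the image of the average lies in the first factor
  have himage : ∀ ψ, ∃ A : Matrix (Fin a) (Fin a) F, avg M ψ = A ⊗ₖ (1 : Matrix (Fin b) (Fin b) F) := by
    intro ψ
    have hblk : ∀ i j, ∃ c : F, blk (avg M ψ) i j = c • (1 : Matrix (Fin b) (Fin b) F) := fun i j => by
      refine scalar_of_traces (S := S) (fun v hv => ?_) (fun v w hv hw => ?_)
      · rcases eq_or_ne v 0 with rfl | hv0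
        · simp
        rw [← trace_mul_rop, ← trace_blk, avg_adjoint, (hzero v v hv hv0
          (Classical.Quad.polar_singular_self hv) _).1, mul_zero, trace_zero]
      · rcases eq_or_ne v 0 with rfl | hv0
        · simp
        rw [← trace_mul_rop, ← trace_mul_rop, ← sub_eq_zero, ← trace_sub, ← mul_sub, ← trace_blk, avg_adjoint,
          (hzero v w hv hv0 hw _).2, mul_zero, trace_zero]
    choose c hc using hblk
    refine ⟨c, Matrix.ext fun p q => ?_⟩
    obtain ⟨i, k⟩ := p
    obtain ⟨j, l⟩ := q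
    have e : avg M ψ (i, k) (j, l) = (c i j • (1 : Matrix (Fin b) (Fin b) F)) k l :=
      congrFun (congrFun (hc i j) k) l
    rw [e, Matrix.smul_apply, smul_eq_mul]
    rfl
  -- an operator with trace whose average is known
  obtain ⟨Y, hY, hYavg⟩ : ∃ Y : Matrix (Fin b) (Fin b) F, trace Y ≠ 0 ∧ ∀ X : Matrix (Fin a) (Fin a) F,
      avg M (X ⊗ₖ Y) = trace Y • (X ⊗ₖ (1 : Matrix (Fin b) (Fin b) F)) := by
    obtain ⟨v, -, hv0, hv⟩ := OmS.exists_singular_of_three (Q := S.Q2) S.two (S := ⊤)
      (by rw [finrank_top, finrank_fin_fun]; omega)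
    by_cases hcase : (b : F) = 0
    · obtain ⟨w, hw, hQw⟩ : ∃ w ∈ QuadSim.perpOf S.Q2 (Submodule.span F {v}), S.Q2 w ≠ 0 := by
        by_contra hcon
        push Not at hcon
        have h1 := OmS.two_mul_finrank_le (Q := S.Q2) S.nd2 hcon
        have := hperpv v hv0
        rw [Fintype.card_fin] at h1
        omega
      have hvw : polar S.Q2 w v = 0 := QuadSim.mem_perpOf.1 hw v (Submodule.mem_span_singleton_self v)
      obtain ⟨k, hk, ws, hws, hind⟩ := exists_params (QuadSim.perpOf S.Q2 (Submodule.span F {v, w})) hv0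
      have hperp : ∀ i, polar S.Q2 v (ws i) = 0 := fun i => by
        rw [polar_comm]; exact QuadSim.mem_perpOf.1 (hws i) v (Submodule.subset_span (by simp))
      have hb5 : 5 ≤ b := by
        by_contra hlt
        have e4 : b = 4 := by omega
        rw [e4] at hcase
        exact mul_ne_zero h2 h2 (by push_cast at hcase; linear_combination hcase)
      have hkk : 4 < (Fintype.card F - 1) * k := by
        have h1 := QuadSim.finrank_perpOf (Q := S.Q2) (Submodule.span F {v, w})
        have h3 := QuadSim.finrank_span_two_le v w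
        rw [Fintype.card_fin] at h1
        have h4 : b ≤ k + 3 := by omega
        by_cases h5 : 5 ≤ Fintype.card F
        · calc 4 < 4 * 2 := by norm_num
            _ ≤ _ := Nat.mul_le_mul (by omega) (by omega)
        · have hchar : (3 : F) = 0 := by
            have h6 : Fintype.card F = 3 := by
              rcases (show Fintype.card F = 3 ∨ Fintype.card F = 4 by omega) with h | h
              · exact h
              · exfalso
                have h0 := FiniteField.cast_card_eq_zero F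
                rw [h] at h0
                exact mul_ne_zero h2 h2 (by push_cast at h0; linear_combination h0)
            have h0 := FiniteField.cast_card_eq_zero F
            rw [h6] at h0
            exact_mod_cast h0
          have h7 : b ≠ 5 := by
            intro e5
            rw [e5] at hcase
            push_cast at hcase
            exact h2 (by linear_combination hcase - hchar)
          calc 4 < 2 * 3 := by norm_num
            _ ≤ _ := Nat.mul_le_mul (by omega) (by omega)
      refine ⟨rop S.Q2 w w, ?_, fun X => ?_⟩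
      · rw [trace_rop, Classical.Quad.polar_self']; exact mul_ne_zero h2 hQw
      · rw [avg_eq H hO hv hv0 ws hperp hind hkk fun t => cj_kron_rop H hO (v := v) _ X _ (by
          rw [rop_fix H, zt, Classical.Quad.siegel_fix hv _ hvw (by
            show polarBilin S.Q2 w (wt ws t) = 0
            simp only [wt, map_sum, map_smul]
            refine Finset.sum_eq_zero fun i _ => ?_
            rw [polarBilin_apply_apply, polar_comm, QuadSim.mem_perpOf.1 (hws i) w (Submodule.subset_span (by simp)),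
              smul_zero])]), piT_kron]
    · obtain ⟨k, hk, ws, hws, hind⟩ := exists_params (QuadSim.perpOf S.Q2 (Submodule.span F {v})) hv0
      have hperp : ∀ i, polar S.Q2 v (ws i) = 0 := fun i => by
        rw [polar_comm]; exact QuadSim.mem_perpOf.1 (hws i) v (Submodule.mem_span_singleton_self v)
      have hkk : 4 < (Fintype.card F - 1) * k := by
        have := hperpv v hv0
        by_cases hb4 : b = 4
        · have := S.five_le_card hb4
          calc 4 < 4 * 2 := by norm_num
            _ ≤ _ := Nat.mul_le_mul (by omega) (by omega)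
        calc 4 < 2 * 3 := by norm_num
          _ ≤ _ := Nat.mul_le_mul (by omega) (by omega)
      refine ⟨1, by rw [trace_one, Fintype.card_fin]; exact hcase, fun X => ?_⟩
      rw [avg_eq H hO hv hv0 ws hperp hind hkk fun t => cj_kron_rop H hO (v := v) _ X _ (by
        rw [mul_one, ← Units.val_mul, mul_inv_cancel, Units.val_one]), piT_kron]
  intro g hg
  have hnorm : ∀ X : Matrix (Fin a) (Fin a) F, ∃ X' : Matrix (Fin a) (Fin a) F,
      cj g (X ⊗ₖ (1 : Matrix (Fin b) (Fin b) F)) = X' ⊗ₖ (1 : Matrix (Fin b) (Fin b) F) := fun X => by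
    obtain ⟨A, hA⟩ := himage (cj g (X ⊗ₖ Y))
    refine ⟨(trace Y)⁻¹ • A, ?_⟩
    have h := avg_equiv M ⟨g, hg⟩ (X ⊗ₖ Y)
    rw [hA, hYavg, cj_smul] at h
    rw [smul_kronecker, h, inv_smul_smul₀ hY]
  choose α hα using hnorm
  have hgm : ∀ X z, g •ᵥ ((X ⊗ₖ (1 : Matrix (Fin b) (Fin b) F)) *ᵥ z) =
      (α X ⊗ₖ (1 : Matrix (Fin b) (Fin b) F)) *ᵥ (g •ᵥ z) := fun X z => by
    rw [← hα, cj, ← mulVec_mulVec, gl_inv_mulVec_mulVec, ← mulVec_mulVec]
  let i₀ : Fin a := ⟨0, by omega⟩
  set e₀ : Fin a → F := Pi.single i₀ 1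
  set E := α (Matrix.single i₀ i₀ (1 : F))
  have hE : ∀ (X : Matrix (Fin a) (Fin a) F) z φ, S.ct φ ((X ⊗ₖ (1 : Matrix (Fin b) (Fin b) F)) *ᵥ z) =
      X *ᵥ S.ct φ z := fun X z φ => by
    have := linear_ext (f := S.ct φ ∘ₗ Matrix.toLin' (X ⊗ₖ (1 : Matrix (Fin b) (Fin b) F)))
      (g := Matrix.toLin' X ∘ₗ S.ct φ) fun x y => by
        simp [Matrix.toLin'_apply, kron_mulVec_pt, S.ct_pt, mulVec_smul]
    simpa [Matrix.toLin'_apply] using LinearMap.congr_fun this z
  have hqE : ∀ y, g •ᵥ pt e₀ y = (E ⊗ₖ (1 : Matrix (Fin b) (Fin b) F)) *ᵥ (g •ᵥ pt e₀ y) := fun y => by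
    conv_lhs => rw [show pt e₀ y = (Matrix.single i₀ i₀ (1 : F) ⊗ₖ (1 : Matrix (Fin b) (Fin b) F)) *ᵥ pt e₀ y by
      rw [kron_mulVec_pt, one_mulVec, single_mulVec_single]]
    rw [hgm]
  -- the range is a line
  obtain ⟨u, hu⟩ : ∃ u : Fin a → F, ∀ x, E *ᵥ x ∈ Submodule.span F {u} := by
    by_cases hz : ∀ x, E *ᵥ x = 0
    · exact ⟨0, fun x => by rw [hz]; exact Submodule.zero_mem _⟩
    push Not at hz
    obtain ⟨x₁, hx₁⟩ := hz
    refine ⟨E *ᵥ x₁, fun x => by_contra fun hn => ?_⟩
    let L : ((Fin b → F) × (Fin b → F)) →ₗ[F] (Fin a × Fin b → F) :=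
      LinearMap.coprod (ptL (E *ᵥ x₁)) (ptL (E *ᵥ x))
    let R : (Fin b → F) →ₗ[F] (Fin a × Fin b → F) :=
      Matrix.toLin' g.val ∘ₗ ptL e₀
    have hle : LinearMap.range L ≤ LinearMap.range R := by
      rintro _ ⟨⟨y₁, y⟩, rfl⟩
      set z := g⁻¹ •ᵥ (pt x₁ y₁ + pt x y)
      refine ⟨fun j => z (i₀, j), ?_⟩
      have hs : (Matrix.single i₀ i₀ (1 : F) ⊗ₖ (1 : Matrix (Fin b) (Fin b) F)) *ᵥ z =
          pt e₀ fun j => z (i₀, j) := by
        funext p
        simp [Matrix.mulVec, dotProduct, pt, e₀, kroneckerMap_apply, Fintype.sum_prod_type, Matrix.single_apply,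
          Matrix.one_apply, Pi.single_apply, ite_and, eq_comm]
      simp only [R, LinearMap.comp_apply, Matrix.toLin'_apply, ptL_apply]
      rw [← hs, hgm, gl_mulVec_inv_mulVec, mulVec_add, kron_mulVec_pt, kron_mulVec_pt, one_mulVec, one_mulVec]
      rfl
    obtain ⟨η, hη1, hη0⟩ := QuadSim.exists_dual_vec S.nd1 hn
    have hinj : Function.Injective L := (injective_iff_map_eq_zero L).2 fun p hp => by
      simp only [L, LinearMap.coprod_apply, ptL_apply] at hp
      have h1 := congrArg (S.lc η) hp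
      have hη : polar S.Q1 η (E *ᵥ x₁) = 0 := by
        rw [polar_comm]; exact hη0 _ (Submodule.mem_span_singleton_self _)
      rw [map_add, S.lc_pt, S.lc_pt, map_zero, hη, zero_smul, zero_add, polar_comm (⇑S.Q1) η (E *ᵥ x), hη1,
        one_smul] at h1
      rw [h1, pt_zero_right, add_zero] at hp
      have h0 : p.1 = 0 := by_contra fun hne => pt_ne_zero hx₁ hne hp
      exact Prod.ext h0 h1
    have h3 := Submodule.finrank_mono hle
    rw [LinearMap.finrank_range_of_inj hinj, finrank_prod, finrank_fin_fun] at h3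
    have h4 := LinearMap.finrank_range_le R
    rw [finrank_fin_fun] at h4
    omega
  have hu0 : u ≠ 0 := by
    intro h0
    have hall : ∀ x, E *ᵥ x = 0 := fun x => by simpa [h0] using hu x
    obtain ⟨i⟩ : Nonempty (Fin b) := ⟨⟨0, by omega⟩⟩
    have hz : g •ᵥ pt e₀ (Pi.single i 1) = 0 := S.ext_ct fun φ => by rw [hqE, hE, hall]
    exact pt_ne_zero (fun e : e₀ = 0 => one_ne_zero (α := F) (by simpa [e₀] using congrFun e i₀))
      (fun e : Pi.single i (1 : F) = 0 => one_ne_zero (α := F) (by simpa using congrFun e i))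
      (gl_mulVec_injective g (show g •ᵥ _ = g •ᵥ _ by rw [hz, mulVec_zero]))
  obtain ⟨η, hη⟩ := Classical.Quad.exists_polar_one S.nd1 hu0
  rw [polar_comm] at hη
  let β₀ : (Fin b → F) →ₗ[F] (Fin b → F) := S.lc η ∘ₗ Matrix.toLin' g.val ∘ₗ ptL e₀
  have hβ : ∀ y, g •ᵥ pt e₀ y = pt u (β₀ y) := fun y => by
    refine S.eq_of_ct fun φ => ?_
    obtain ⟨c, hc⟩ := Submodule.mem_span_singleton.1 (hu (S.ct φ (g •ᵥ pt e₀ y)))
    have hcq : S.ct φ (g •ᵥ pt e₀ y) = c • u := by rw [hc, ← hE, ← hqE]
    have hl : polar S.Q2 φ (β₀ y) = c := by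
      simp only [β₀, LinearMap.comp_apply, Matrix.toLin'_apply, ptL_apply]
      rw [← S.polar_pt_left', S.polar_pt_left, hcq, polar_smul_right, hη, smul_eq_mul, mul_one]
    rw [hcq, S.ct_pt, hl]
  let A₀ : (Fin a → F) →ₗ[F] (Fin a → F) :=
    Fintype.linearCombination F fun i => α (Matrix.single i i₀ (1 : F)) *ᵥ u
  have hg' : ∀ x y, g •ᵥ pt x y = pt (A₀ x) (β₀ y) := fun x y => by
    have hi : ∀ i, g •ᵥ pt (Pi.single i (1 : F)) y = pt (α (Matrix.single i i₀ (1 : F)) *ᵥ u) (β₀ y) := fun i => by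
      conv_lhs => rw [show pt (Pi.single i (1 : F)) y =
          (Matrix.single i i₀ (1 : F) ⊗ₖ (1 : Matrix (Fin b) (Fin b) F)) *ᵥ pt e₀ y by
        rw [kron_mulVec_pt, one_mulVec, single_mulVec_single]]
      rw [hgm, hβ, kron_mulVec_pt, one_mulVec]
    have hl : (Matrix.toLin' g.val ∘ₗ ptR y) = ptR (β₀ y) ∘ₗ A₀ := by
      refine (Pi.basisFun F (Fin a)).ext fun i => ?_
      simp [A₀, Matrix.toLin'_apply, hi, Fintype.linearCombination_apply, Pi.single_apply]
    simpa [Matrix.toLin'_apply] using LinearMap.congr_fun hl x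
  obtain ⟨y₀, hy₀⟩ : ∃ y₀ : Fin b → F, y₀ ≠ 0 := ⟨Pi.single ⟨0, by omega⟩ 1, fun e =>
    one_ne_zero (α := F) (by simpa using congrFun e ⟨0, by omega⟩)⟩
  have hAinj : Function.Injective A₀ := fun x x' h =>
    pt_left_injective hy₀ (gl_mulVec_injective g (show g •ᵥ _ = g •ᵥ _ by rw [hg', hg', h]))
  have hBinj : Function.Injective β₀ := (injective_iff_map_eq_zero β₀).2 fun y hy => by
    by_contra hy0
    refine pt_ne_zero (fun e : e₀ = 0 => one_ne_zero (α := F) (by simpa [e₀] using congrFun e i₀)) hy0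
      (gl_mulVec_injective g (show g •ᵥ _ = g •ᵥ _ by rw [hg', hy, pt_zero_right, mulVec_zero]))
  exact ⟨glOf (LinearEquiv.ofInjectiveEndo A₀ hAinj), glOf (LinearEquiv.ofInjectiveEndo β₀ hBinj),
    gl_ext_pt fun x y => by rw [kronGL_pt, glOf_mulVec, glOf_mulVec, hg']; rfl⟩

end CfsgLib.ClassicalMax.OTens
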