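/-
Partial traces, operators of rank one and vanishing sums of matrices depending polynomially on parameters.
-/
import Cfsg.Agent.Lib.ClassicalMax.OrthTensorMax.Line
import Cfsg.Agent.Lib.ClassicalMax.OmegaTools
import Mathlib.FieldTheory.ChevalleyWarning
set_option autoImplicit false
set_option linter.unusedSectionVars false
set_option linter.unusedVariables false
set_option linter.unusedSimpArgs false

namespace CfsgLib.ClassicalMax.OTens

open Matrix Kronecker QuadraticMap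
open CfsgLib.Classical.Quad (NDPolar Orth siegel)
open CfsgLib.ClassicalMax.Kron

variable {F : Type*} [Field F] {a b : ℕ}

/-! ### The partial trace -/

/-- The trace over the second factor. -/
def ptr (ψ : Matrix (Fin a × Fin b) (Fin a × Fin b) F) : Matrix (Fin a) (Fin a) F :=
  fun i j => ∑ k, ψ (i, k) (j, k)

/-- The trace over the second factor, extended by the identity. -/
def piT (ψ : Matrix (Fin a × Fin b) (Fin a × Fin b) F) : Matrix (Fin a × Fin b) (Fin a × Fin b) F :=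
  ptr ψ ⊗ₖ (1 : Matrix (Fin b) (Fin b) F)

lemma trace_ptr (ψ : Matrix (Fin a × Fin b) (Fin a × Fin b) F) : trace (ptr ψ) = trace ψ := by
  simp [trace, ptr, Fintype.sum_prod_type]

lemma ptr_kron (X : Matrix (Fin a) (Fin a) F) (Y : Matrix (Fin b) (Fin b) F) :
    ptr (X ⊗ₖ Y) = trace Y • X := by
  ext i j
  simp [ptr, trace, ← Finset.mul_sum, mul_comm]

lemma ptr_mul_left (A : Matrix (Fin a) (Fin a) F) (ψ : Matrix (Fin a × Fin b) (Fin a × Fin b) F) :
    ptr (A ⊗ₖ (1 : Matrix (Fin b) (Fin b) F) * ψ) = A * ptr ψ := by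
  ext i j
  simp only [ptr, Matrix.mul_apply, kroneckerMap_apply, Fintype.sum_prod_type, Matrix.one_apply, mul_ite,
    mul_one, mul_zero, ite_mul, zero_mul, Finset.sum_ite_eq, Finset.mem_univ, if_true, Finset.mul_sum]
  exact Finset.sum_comm

lemma ptr_mul_right (A : Matrix (Fin a) (Fin a) F) (ψ : Matrix (Fin a × Fin b) (Fin a × Fin b) F) :
    ptr (ψ * A ⊗ₖ (1 : Matrix (Fin b) (Fin b) F)) = ptr ψ * A := by
  ext i j
  simp only [ptr, Matrix.mul_apply, kroneckerMap_apply, Fintype.sum_prod_type, Matrix.one_apply, mul_ite,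
    mul_one, mul_zero, Finset.sum_ite_eq', Finset.mem_univ, if_true, Finset.sum_mul]
  exact Finset.sum_comm

lemma ptr_comm (B : Matrix (Fin b) (Fin b) F) (ψ : Matrix (Fin a × Fin b) (Fin a × Fin b) F) :
    ptr ((1 : Matrix (Fin a) (Fin a) F) ⊗ₖ B * ψ) = ptr (ψ * (1 : Matrix (Fin a) (Fin a) F) ⊗ₖ B) := by
  ext i j
  simp only [ptr, Matrix.mul_apply, kroneckerMap_apply, Fintype.sum_prod_type, Matrix.one_apply, mul_ite,
    mul_zero, ite_mul, one_mul, zero_mul, Finset.sum_ite_irrel, Finset.sum_const_zero, Finset.sum_ite_eq,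
    Finset.sum_ite_eq', Finset.mem_univ, if_true]
  rw [Finset.sum_comm]
  exact Finset.sum_congr rfl fun k _ => Finset.sum_congr rfl fun l _ => mul_comm _ _

lemma piT_kron (X : Matrix (Fin a) (Fin a) F) (Y : Matrix (Fin b) (Fin b) F) :
    piT (X ⊗ₖ Y) = trace Y • (X ⊗ₖ (1 : Matrix (Fin b) (Fin b) F)) := by
  rw [piT, ptr_kron, smul_kronecker]

/-- The extended partial trace commutes with pure tensors. -/
lemma piT_conj (A A' : Matrix (Fin a) (Fin a) F) {B B' : Matrix (Fin b) (Fin b) F} (hB : B * B' = 1)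
    (hB' : B' * B = 1) (ψ : Matrix (Fin a × Fin b) (Fin a × Fin b) F) :
    piT (A ⊗ₖ B * ψ * A' ⊗ₖ B') = A ⊗ₖ B * piT ψ * A' ⊗ₖ B' := by
  have h1 : A ⊗ₖ B * ψ * A' ⊗ₖ B' = A ⊗ₖ (1 : Matrix (Fin b) (Fin b) F) *
      ((1 : Matrix (Fin a) (Fin a) F) ⊗ₖ B * (ψ * (1 : Matrix (Fin a) (Fin a) F) ⊗ₖ B')) *
        A' ⊗ₖ (1 : Matrix (Fin b) (Fin b) F) := by
    conv_lhs => rw [show A ⊗ₖ B = A ⊗ₖ (1 : Matrix (Fin b) (Fin b) F) * (1 : Matrix (Fin a) (Fin a) F) ⊗ₖ B by
        rw [← mul_kronecker_mul, mul_one, one_mul],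
      show A' ⊗ₖ B' = (1 : Matrix (Fin a) (Fin a) F) ⊗ₖ B' * A' ⊗ₖ (1 : Matrix (Fin b) (Fin b) F) by
        rw [← mul_kronecker_mul, mul_one, one_mul]]
    simp only [mul_assoc]
  rw [piT, piT, h1, ptr_mul_right, ptr_mul_left, ptr_comm, mul_assoc ψ, ← mul_kronecker_mul, one_mul, hB',
    one_kronecker_one, mul_one, ← mul_kronecker_mul, ← mul_kronecker_mul, mul_one, hB]

lemma trace_piT_comm (φ χ : Matrix (Fin a × Fin b) (Fin a × Fin b) F) :
    trace (piT φ * χ) = trace (φ * piT χ) := by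
  rw [piT, piT, ← trace_ptr, ← trace_ptr (φ * _), ptr_mul_left, ptr_mul_right]

/-- The blocks of an operator. -/
def blk (Φ : Matrix (Fin a × Fin b) (Fin a × Fin b) F) (i j : Fin a) : Matrix (Fin b) (Fin b) F :=
  fun k l => Φ (i, k) (j, l)

lemma trace_blk (Φ : Matrix (Fin a × Fin b) (Fin a × Fin b) F) (i j : Fin a) (Y : Matrix (Fin b) (Fin b) F) :
    trace (Φ * (Matrix.single j i (1 : F) ⊗ₖ Y)) = trace (blk Φ i j * Y) := by
  simp [trace, Matrix.mul_apply, blk, Fintype.sum_prod_type, Matrix.single_apply, ite_and]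

/-! ### Polynomial dependence on parameters -/

section Deg

variable {k : ℕ} {m n r : Type*} [Fintype m] [Fintype n] [Fintype r]

/-- The entries are polynomials of bounded degree in the parameters. -/
def Deg (d : ℕ) (φ : (Fin k → F) → Matrix m n F) : Prop :=
  ∀ i j, ∃ P : MvPolynomial (Fin k) F, P.totalDegree ≤ d ∧ ∀ t, φ t i j = MvPolynomial.eval t P

lemma Deg.const (X : Matrix m n F) : Deg (k := k) 0 fun _ => X := fun i j =>
  ⟨MvPolynomial.C (X i j), by rw [MvPolynomial.totalDegree_C], fun t => by rw [MvPolynomial.eval_C]⟩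

lemma Deg.mul {d d' : ℕ} {φ : (Fin k → F) → Matrix m n F} {φ' : (Fin k → F) → Matrix n r F} (h : Deg d φ)
    (h' : Deg d' φ') : Deg (d + d') fun t => φ t * φ' t := fun i j => by
  choose P hP hPe using fun l => h i l
  choose P' hP' hP'e using fun l => h' l j
  refine ⟨∑ l, P l * P' l, (MvPolynomial.totalDegree_finsetSum _ _).trans (Finset.sup_le fun l _ =>
    (MvPolynomial.totalDegree_mul _ _).trans (Nat.add_le_add (hP l) (hP' l))), fun t => ?_⟩
  simp [Matrix.mul_apply, hPe, hP'e]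

lemma Deg.sum_eq_zero [Fintype F] {d : ℕ} {φ : (Fin k → F) → Matrix m n F} (h : Deg d φ)
    (hd : d < (Fintype.card F - 1) * k) : ∑ t, φ t = 0 := by
  classical
  ext i j
  obtain ⟨P, hP, hPe⟩ := h i j
  rw [Matrix.sum_apply, Matrix.zero_apply, Finset.sum_congr rfl fun t _ => hPe t]
  exact MvPolynomial.sum_eval_eq_zero P (by rw [Fintype.card_fin]; omega)

/-- The linear polynomial with given coefficients. -/
noncomputable def linP (c : Fin k → F) : MvPolynomial (Fin k) F := ∑ i, MvPolynomial.C (c i) * MvPolynomial.X i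

lemma linP_eval (c t : Fin k → F) : MvPolynomial.eval t (linP c) = ∑ i, c i * t i := by simp [linP]

lemma linP_deg (c : Fin k → F) : (linP c).totalDegree ≤ 1 :=
  (MvPolynomial.totalDegree_finsetSum _ _).trans (Finset.sup_le fun i _ =>
    (MvPolynomial.totalDegree_mul _ _).trans (by rw [MvPolynomial.totalDegree_C, MvPolynomial.totalDegree_X]))

/-- The quadratic polynomial with given coefficients. -/
noncomputable def quadP (c : Fin k → Fin k → F) : MvPolynomial (Fin k) F := ∑ i, MvPolynomial.X i * linP (c i)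

lemma quadP_eval (c : Fin k → Fin k → F) (t : Fin k → F) :
    MvPolynomial.eval t (quadP c) = ∑ i, t i * ∑ j, c i j * t j := by simp [quadP, linP_eval]

lemma quadP_deg (c : Fin k → Fin k → F) : (quadP c).totalDegree ≤ 2 :=
  (MvPolynomial.totalDegree_finsetSum _ _).trans (Finset.sup_le fun i _ =>
    (MvPolynomial.totalDegree_mul _ _).trans (by
      rw [MvPolynomial.totalDegree_X]; have := linP_deg (c i); omega))

end Deg

/-! ### Operators of rank one -/

section Rop

variable (Q : QuadraticForm F (Fin b → F))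

/-- The operator `x ↦ polar x y' • y`. -/
def rop (y y' : Fin b → F) : Matrix (Fin b) (Fin b) F := vecMulVec y (Om.dual (⇑Q) y')

lemma dual_dot' (y' x : Fin b → F) : Om.dual (⇑Q) y' ⬝ᵥ x = polar Q x y' := by
  have h : ∀ z : Fin b → F, polar Q z y' = (polarBilin Q).flip y' z := fun z => rfl
  rw [h x]
  conv_rhs => rw [pi_eq_sum_univ' x, map_sum]
  refine Finset.sum_congr rfl fun j _ => ?_
  rw [map_smul, smul_eq_mul, ← h, Om.dual, mul_comm]

lemma rop_mulVec (y y' x : Fin b → F) : rop Q y y' *ᵥ x = polar Q x y' • y := by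
  funext i
  simp only [rop, vecMulVec, Matrix.mulVec, dotProduct, ← dual_dot' Q y' x, Pi.smul_apply, smul_eq_mul,
    Matrix.of_apply, Finset.sum_mul]
  exact Finset.sum_congr rfl fun j _ => by ring

lemma trace_mul_rop (Y : Matrix (Fin b) (Fin b) F) (y y' : Fin b → F) :
    trace (Y * rop Q y y') = polar Q (Y *ᵥ y) y' := by
  rw [rop, Matrix.mul_vecMulVec, Matrix.trace_vecMulVec, dotProduct_comm, dual_dot']

lemma trace_rop (y y' : Fin b → F) : trace (rop Q y y') = polar Q y y' := by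
  rw [← one_mul (rop Q y y'), trace_mul_rop, one_mulVec]

lemma rop_conj (g : Orth Q) {B B' : Matrix (Fin b) (Fin b) F} (hB : ∀ x, B *ᵥ x = g.1 x) (hBB : B * B' = 1)
    (y y' : Fin b → F) : B * rop Q y y' * B' = rop Q (g.1 y) (g.1 y') := by
  refine Matrix.ext_of_mulVec_single fun i => ?_
  set x : Fin b → F := Pi.single i 1
  rw [← mulVec_mulVec, ← mulVec_mulVec, rop_mulVec, rop_mulVec, mulVec_smul, hB]
  congr 1
  rw [← Classical.Quad.orth_polar g (B' *ᵥ x) y', ← hB (B' *ᵥ x), mulVec_mulVec, hBB, one_mulVec]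

/-- An operator without trace against the root operators is a scalar, in dimension four. -/
lemma scalar_of_traces_small [DecidableEq F] [Fintype F] {S : Space F a b} (hb4 : b = 4)
    {Y : Matrix (Fin b) (Fin b) F}
    (h1 : ∀ v, S.Q2 v = 0 → polar S.Q2 (Y *ᵥ v) v = 0)
    (h2 : ∀ v w, S.Q2 v = 0 → polar S.Q2 v w = 0 → polar S.Q2 (Y *ᵥ v) w = polar S.Q2 (Y *ᵥ w) v)
    (P : HP S) : ∃ c : F, Y = c • (1 : Matrix (Fin b) (Fin b) F) := by
  obtain ⟨w1, w2, hW1, hW2, h12, hQ1, hQ2, -, hdec⟩ := P.small_basis hb4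
  set B : (Fin b → F) → (Fin b → F) → F := fun x y => polar S.Q2 (Y *ᵥ x) y with hB
  have hadd : ∀ x y z, B (x + y) z = B x z + B y z := fun x y z => by simp [hB, mulVec_add]
  have hadd' : ∀ x y z, B z (x + y) = B z x + B z y := fun x y z => by simp [hB]
  have hsm : ∀ (c : F) x z, B (c • x) z = c * B x z := fun c x z => by simp [hB, mulVec_smul]
  have hsm' : ∀ (c : F) x z, B z (c • x) = c * B z x := fun c x z => by simp [hB]
  -- the curve of singular vectors
  have hu : ∀ w, P.InW w → S.Q2 (P.v + w + (-(S.Q2 w)) • P.w0) = 0 := fun w hw => by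
    rw [Classical.Quad.Q_comb1, QuadraticMap.map_add (⇑S.Q2), P.hv, P.hw0, hw.1, polar_add_left, P.h1,
      polar_comm (⇑S.Q2) w P.w0, hw.2]
    ring
  have hsymW : ∀ w, P.InW w → B P.v w = B w P.v ∧ B P.w0 w = B w P.w0 := fun w hw =>
    ⟨h2 P.v w P.hv hw.1, h2 P.w0 w P.hw0 hw.2⟩
  set c := B P.v P.w0 with hc
  have hsym : B P.w0 P.v = c := by
    set u := P.v + w1 + (-(S.Q2 w1)) • P.w0 with hu1
    have h := h2 u (w1 + (-(2 * S.Q2 w1)) • P.w0) (hu w1 hW1) (by
      simp [hu1, hW1.1, hW1.2, P.h1, P.hww, polar_comm (⇑S.Q2) w1 P.w0, Classical.Quad.polar_self']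
      try ring)
    change B u _ = B _ u at h
    simp only [hu1, hadd, hadd', hsm, hsm', (hsymW w1 hW1).1, (hsymW w1 hW1).2] at h
    have h' : (2 * S.Q2 w1) * (B P.w0 P.v - c) = 0 := by linear_combination h
    exact sub_eq_zero.1 ((mul_eq_zero.1 h').resolve_left (mul_ne_zero S.two hQ1))
  have h12' : B w1 w2 = B w2 w1 := by
    set u := P.v + w1 + (-(S.Q2 w1)) • P.w0 with hu1
    have h := h2 u w2 (hu w1 hW1) (by
      simp [hu1, hW2.1, hW2.2, h12])
    change B u _ = B _ u at h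
    simp only [hu1, hadd, hadd', hsm, hsm', (hsymW w2 hW2).1, (hsymW w2 hW2).2] at h
    linear_combination h
  have hvv : B P.v P.v = 0 := h1 P.v P.hv
  have hww : B P.w0 P.w0 = 0 := h1 P.w0 P.hw0
  -- the values on the curve
  have hf : ∀ w, P.InW w → B w w + 2 * B P.v w - 2 * S.Q2 w * B P.w0 w - 2 * S.Q2 w * c = 0 := fun w hw => by
    have h := h1 _ (hu w hw)
    change B _ _ = 0 at h
    simp only [hadd, hadd', hsm, hsm', hvv, hww, hsym, ← hc, ← (hsymW w hw).1, ← (hsymW w hw).2] at h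
    linear_combination h
  have hneg : ∀ w, P.InW w → B P.v w - S.Q2 w * B P.w0 w = 0 ∧ B w w = 2 * c * S.Q2 w := fun w hw => by
    have h := hf w hw
    have h' := hf ((-1 : F) • w) ⟨by simp [hw.1], by simp [hw.2]⟩
    rw [QuadraticMap.map_smul, hsm, hsm', hsm', hsm'] at h'
    simp only [smul_eq_mul] at h'
    have e : (2 * 2 : F) * (B P.v w - S.Q2 w * B P.w0 w) = 0 := by linear_combination h - h'
    have e' := (mul_eq_zero.1 e).resolve_left (mul_ne_zero S.two S.two)
    exact ⟨e', by linear_combination h - 2 * e'⟩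
  obtain ⟨t, ht0, ht1⟩ : ∃ t : F, t ≠ 0 ∧ t * t ≠ 1 := by
    by_contra hcon
    push Not at hcon
    have hsub : (Finset.univ : Finset F) ⊆ {0, 1, -1} := fun x _ => by
      rcases eq_or_ne x 0 with h | h
      · simp [h]
      · rcases mul_self_eq_one_iff.1 (hcon x h) with h | h <;> simp [h]
    have h := (Finset.card_le_card hsub).trans Finset.card_le_three
    rw [Finset.card_univ] at h
    have := S.five_le_card hb4
    omega
  have hv0 : ∀ w, P.InW w → S.Q2 w ≠ 0 → B P.v w = 0 ∧ B P.w0 w = 0 := fun w hw hQw => by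
    have e := (hneg w hw).1
    have e' := (hneg (t • w) ⟨by simp [hw.1], by simp [hw.2]⟩).1
    rw [QuadraticMap.map_smul, hsm', hsm'] at e'
    simp only [smul_eq_mul] at e'
    have e3 : (t * (t * t - 1) * S.Q2 w) * B P.w0 w = 0 := by linear_combination t * e - e'
    have e4 := (mul_eq_zero.1 e3).resolve_left (mul_ne_zero (mul_ne_zero ht0 (sub_ne_zero.2 ht1)) hQw)
    exact ⟨by linear_combination e + S.Q2 w * e4, e4⟩
  have hB12 : B w1 w2 = 0 := by
    have h := (hneg (w1 + w2) ⟨by simp [hW1.1, hW2.1], by simp [hW1.2, hW2.2]⟩).2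
    rw [QuadraticMap.map_add (⇑S.Q2), h12] at h
    simp only [hadd, hadd', (hneg w1 hW1).2, (hneg w2 hW2).2, ← h12'] at h
    exact (mul_eq_zero.1 (show (2 : F) * B w1 w2 = 0 by linear_combination h)).resolve_left S.two
  obtain ⟨a1, a2⟩ := hv0 w1 hW1 hQ1
  obtain ⟨b1, b2⟩ := hv0 w2 hW2 hQ2
  refine ⟨c, Matrix.ext_of_mulVec_single fun i => ?_⟩
  set y : Fin b → F := Pi.single i 1
  have hy : ∀ y, y = polar S.Q2 P.w0 y • P.v + polar S.Q2 P.v y • P.w0 +
      (polar S.Q2 (P.pr y) w1 / (2 * S.Q2 w1)) • w1 + (polar S.Q2 (P.pr y) w2 / (2 * S.Q2 w2)) • w2 := fun y => by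
    rw [add_assoc _ ((polar S.Q2 (P.pr y) w1 / (2 * S.Q2 w1)) • w1), ← hdec _ (P.pr_mem y), P.pr_apply]
    abel
  rw [smul_mulVec, one_mulVec]
  refine sub_eq_zero.1 (S.nd2 _ fun z => ?_)
  rw [polar_sub_left, polar_smul_left, smul_eq_mul]
  show B y z - _ = 0
  rw [hy y, hy z]
  simp only [hadd, hadd', hsm, hsm', hvv, hww, hsym, ← hc, ← (hsymW w1 hW1).1, ← (hsymW w1 hW1).2,
    ← (hsymW w2 hW2).1, ← (hsymW w2 hW2).2, a1, a2, b1, b2, ← h12', hB12, (hneg w1 hW1).2, (hneg w2 hW2).2,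
    polar_add_left, polar_add_right, polar_smul_left, polar_smul_right, smul_eq_mul, P.hvv, P.hww, P.h1, P.h1',
    hW1.1, hW1.2, hW2.1, hW2.2, polar_comm (⇑S.Q2) w1 P.v, polar_comm (⇑S.Q2) w1 P.w0,
    polar_comm (⇑S.Q2) w2 P.v, polar_comm (⇑S.Q2) w2 P.w0, polar_comm (⇑S.Q2) w2 w1, h12,
    Classical.Quad.polar_self']
  ring

/-- An operator without trace against the root operators is a scalar. -/
lemma scalar_of_traces [DecidableEq F] [Fintype F] {S : Space F a b} {Y : Matrix (Fin b) (Fin b) F}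
    (h1 : ∀ v, S.Q2 v = 0 → polar S.Q2 (Y *ᵥ v) v = 0)
    (h2 : ∀ v w, S.Q2 v = 0 → polar S.Q2 v w = 0 → polar S.Q2 (Y *ᵥ v) w = polar S.Q2 (Y *ᵥ w) v) :
    ∃ c : F, Y = c • (1 : Matrix (Fin b) (Fin b) F) := by
  have hb := S.hb
  by_cases hb4 : b = 4
  · obtain ⟨v, -, hv0, hv⟩ := OmS.exists_singular_of_three (Q := S.Q2) S.two (S := ⊤)
      (by rw [finrank_top, Module.finrank_fin_fun]; omega)
    obtain ⟨v', hv', hvv'⟩ := exists_hyp S.nd2 hv hv0
    exact scalar_of_traces_small hb4 h1 h2 ⟨v, v', hv, hv', hvv'⟩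
  have hb5 : 5 ≤ b := by omega
  have hsing : ∀ u y, S.Q2 u = 0 → S.Q2 y = 0 → polar S.Q2 u y = 0 → polar S.Q2 (Y *ᵥ u) y = 0 := by
    intro u y hu hy huy
    have h := h1 (u + y) (by rw [QuadraticMap.map_add (⇑S.Q2), hu, hy, huy, add_zero, add_zero])
    rw [mulVec_add, polar_add_left, polar_add_right, polar_add_right, h1 u hu, h1 y hy, ← h2 u y hu huy] at h
    exact (mul_eq_zero.1 (show (2 : F) * polar S.Q2 (Y *ᵥ u) y = 0 by linear_combination h)).resolve_left S.two
  obtain ⟨v, -, hv0, hv⟩ := OmS.exists_singular_of_three (Q := S.Q2) S.two (S := ⊤)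
    (by rw [finrank_top, Module.finrank_fin_fun]; omega)
  -- singular vectors span the orthogonal of a pair
  have hspan : ∀ (P : HP S) (f : (Fin b → F) →ₗ[F] (Fin b → F)),
      (∀ y, S.Q2 y = 0 → polar S.Q2 P.v y = 0 → f y = 0) → ∀ y, P.InW y → f y = 0 := by
    intro P f hf y hy
    obtain ⟨x, hx, hx0, hxW⟩ := P.exists_singular hb5
    obtain ⟨x₀, -, hx₀, hx₀W, hxx₀, -⟩ := P.exists_quad hb5 hx hx0 hxW
    set r := y - polar S.Q2 x₀ y • x - polar S.Q2 x y • x₀
    have hrx : polar S.Q2 r x = 0 := by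
      simp [r, polar_comm (⇑S.Q2) x₀ x, hxx₀, Classical.Quad.polar_singular_self hx, polar_comm (⇑S.Q2) y x]
    have hrx₀ : polar S.Q2 r x₀ = 0 := by
      simp [r, hxx₀, Classical.Quad.polar_singular_self hx₀, polar_comm (⇑S.Q2) y x₀]
    have hfx := hf x hx hxW.1
    have hfx₀ := hf x₀ hx₀ hx₀W.1
    have hs : S.Q2 (r + x + (-(S.Q2 r)) • x₀) = 0 := by
      rw [Classical.Quad.Q_comb1, QuadraticMap.map_add (⇑S.Q2), hx, hx₀, hrx, polar_add_left, hxx₀, hrx₀]
      ring
    have hfr := hf _ hs (by simp [r, hy.1, hxW.1, hx₀W.1])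
    rw [map_add, map_add, map_smul, hfx, hfx₀, smul_zero, add_zero, add_zero] at hfr
    have : f y = f r := by simp [r, hfx, hfx₀]
    rw [this, hfr]
  -- singular vectors are eigenvectors
  have heig : ∀ u, S.Q2 u = 0 → u ≠ 0 → ∃ c : F, Y *ᵥ u = c • u := by
    intro u hu hu0
    obtain ⟨u', hu', h1u⟩ := exists_hyp S.nd2 hu hu0
    let P : HP S := ⟨u, u', hu, hu', h1u⟩
    refine ⟨polar S.Q2 (Y *ᵥ u) u', sub_eq_zero.1 (S.nd2 _ fun y => ?_)⟩
    have hW := hspan P ((polarBilin S.Q2 (Y *ᵥ u)).smulRight u) (fun z hz hzu => by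
      simp [hsing u z hu hz hzu]) (P.pr y) (P.pr_mem y)
    have h3 : polar S.Q2 (Y *ᵥ u) (P.pr y) = 0 := by
      simpa [hu0] using hW
    have hP : P.pr y = y - polar S.Q2 u' y • u - polar S.Q2 u y • u' := P.pr_apply y
    rw [hP, polar_sub_right, polar_sub_right, polar_smul_right, polar_smul_right, h1 u hu] at h3
    rw [polar_sub_left, polar_smul_left]
    simp only [smul_eq_mul] at h3 ⊢
    linear_combination h3
  obtain ⟨c, hc⟩ := heig v hv hv0
  obtain ⟨v', hv', hvv'⟩ := exists_hyp S.nd2 hv hv0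
  let P : HP S := ⟨v, v', hv, hv', hvv'⟩
  have horth : ∀ u y : Fin b → F, S.Q2 y = 0 → S.Q2 u = 0 → u ≠ 0 → polar S.Q2 u y = 0 →
      ∀ μ : F, Y *ᵥ u = μ • u → Y *ᵥ y = μ • y := by
    intro u y hy hu hu0 huy μ hμ
    rcases eq_or_ne y 0 with rfl | hy0
    · simp
    obtain ⟨ν, hν⟩ := heig y hy hy0
    by_cases hspn : ∃ t : F, t • u = y
    · obtain ⟨t, rfl⟩ := hspn
      rw [mulVec_smul, hμ, smul_comm]
    push Not at hspn
    have huy0 : u + y ≠ 0 := fun e => hspn (-1) (by rw [neg_one_smul, neg_eq_of_add_eq_zero_right e])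
    obtain ⟨σ, hσ⟩ := heig (u + y) (by rw [QuadraticMap.map_add (⇑S.Q2), hu, hy, huy, add_zero, add_zero]) huy0
    rw [mulVec_add, hμ, hν] at hσ
    have h4 : (ν - σ) • y = (σ - μ) • u := by linear_combination (norm := module) hσ
    by_cases hνσ : ν - σ = 0
    · rw [hνσ, zero_smul] at h4
      have h5 := (smul_eq_zero.1 h4.symm).resolve_right hu0
      rw [hν, show ν = μ by linear_combination hνσ + h5]
    · exact absurd (by rw [mul_smul, ← h4, inv_smul_smul₀ hνσ]) (hspn ((ν - σ)⁻¹ * (σ - μ)))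
  obtain ⟨x, hx, hx0, hxW⟩ := P.exists_singular hb5
  have hxc := horth v x hx hv hv0 hxW.1 c hc
  have hv'c := horth x v' hv' hx hx0 (by rw [polar_comm]; exact hxW.2) c hxc
  refine ⟨c, Matrix.ext_of_mulVec_single fun i => ?_⟩
  set y : Fin b → F := Pi.single i 1
  have hz := hspan P (Matrix.toLin' Y - c • LinearMap.id) (fun z hz hzv => by
    simp [Matrix.toLin'_apply, horth v z hz hv hv0 hzv c hc]) (P.pr y) (P.pr_mem y)
  simp only [LinearMap.sub_apply, LinearMap.smul_apply, LinearMap.id_apply, Matrix.toLin'_apply, P.pr_apply,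
    mulVec_sub, mulVec_smul] at hz
  rw [show Y *ᵥ P.v = c • P.v from hc, show Y *ᵥ P.w0 = c • P.w0 from hv'c] at hz
  rw [smul_mulVec, one_mulVec]
  linear_combination (norm := module) hz

end Rop

end CfsgLib.ClassicalMax.OTens
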