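/-
When only tensors act trivially around tensor lines, the group consists of tensors.
-/
import Cfsg.Agent.Lib.ClassicalMax.OrthTensorMax.Stab
import Cfsg.Agent.Lib.ClassicalMax.OrthBlocks
set_option autoImplicit false
set_option linter.unusedSectionVars false
set_option linter.unusedVariables false
set_option linter.unusedSimpArgs false

namespace CfsgLib.ClassicalMax.OTens

open Matrix Cfsg.Geo QuadraticMap Module
open CfsgLib.Classical.Quad (NDPolar Orth siegel siegelGroup refl)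
open CfsgLib.ClassicalMax.Kron

variable {F : Type*} [Field F] [Fintype F] [DecidableEq F] {a b : ℕ}

local notation:70 g:71 " •ᵥ " z:70 => Matrix.mulVec (Units.val g) z

/-! ### Non-degenerate subspaces -/

section Quad

variable {ι : Type} [Fintype ι] [DecidableEq ι] {Q : QuadraticForm F (ι → F)}

/-- The form is non-degenerate on the subspace. -/
def NDOn (Q : QuadraticForm F (ι → F)) (D : Submodule F (ι → F)) : Prop :=
  ∀ x ∈ D, x ∈ QuadSim.perpOf Q D → x = 0

lemma mem_perp_iff_span_singleton {r x : ι → F} :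
    x ∈ QuadSim.perpOf Q (Submodule.span F {r}) ↔ polar Q x r = 0 := by
  refine ⟨fun h => QuadSim.mem_perpOf.1 h r (Submodule.mem_span_singleton_self r), fun h =>
    QuadSim.mem_perpOf.2 fun d hd => ?_⟩
  obtain ⟨s, rfl⟩ := Submodule.mem_span_singleton.1 hd
  rw [polar_smul_right, h, smul_zero]

lemma perpOf_sup {D D' : Submodule F (ι → F)} :
    QuadSim.perpOf Q (D ⊔ D') = QuadSim.perpOf Q D ⊓ QuadSim.perpOf Q D' := by
  apply le_antisymm <;> intro x hx
  · refine ⟨?_, ?_⟩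
    · exact QuadSim.mem_perpOf.2 fun d hd => QuadSim.mem_perpOf.1 hx d (Submodule.mem_sup_left hd)
    · exact QuadSim.mem_perpOf.2 fun d hd => QuadSim.mem_perpOf.1 hx d (Submodule.mem_sup_right hd)
  · refine QuadSim.mem_perpOf.2 fun d hd => ?_
    obtain ⟨d₁, h₁, d₂, h₂, rfl⟩ := Submodule.mem_sup.1 hd
    rw [polar_add_right, QuadSim.mem_perpOf.1 hx.1 d₁ h₁, QuadSim.mem_perpOf.1 hx.2 d₂ h₂, add_zero]

lemma NDOn.bot : NDOn Q (⊥ : Submodule F (ι → F)) := fun x hx _ => (Submodule.mem_bot F).1 hx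

lemma NDOn.sup {D : Submodule F (ι → F)} (h : NDOn Q D) (h2 : (2 : F) ≠ 0) {r : ι → F}
    (hr : r ∈ QuadSim.perpOf Q D) (hQ : Q r ≠ 0) : NDOn Q (D ⊔ Submodule.span F {r}) := by
  intro x hx hxp
  rw [perpOf_sup] at hxp
  obtain ⟨d, hd, y, hy, rfl⟩ := Submodule.mem_sup.1 hx
  obtain ⟨t, rfl⟩ := Submodule.mem_span_singleton.1 hy
  have h1 := mem_perp_iff_span_singleton.1 hxp.2
  rw [polar_add_left, polar_comm Q d r, QuadSim.mem_perpOf.1 hr d hd, zero_add, polar_smul_left,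
    Classical.Quad.polar_self', smul_eq_mul, mul_eq_zero] at h1
  obtain rfl : t = 0 := h1.resolve_right (mul_ne_zero h2 hQ)
  rw [zero_smul, add_zero] at hxp ⊢
  exact h d hd hxp.1

lemma NDOn.finrank_sup {D : Submodule F (ι → F)} (h : NDOn Q D) {r : ι → F}
    (hr : r ∈ QuadSim.perpOf Q D) (hQ : Q r ≠ 0) :
    finrank F (D ⊔ Submodule.span F {r} : Submodule F (ι → F)) = finrank F D + 1 :=
  Submodule.finrank_sup_span_singleton fun hm => hQ (by rw [h r hm hr, map_zero])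

lemma NDOn.sup_perp {D : Submodule F (ι → F)} (h : NDOn Q D) : D ⊔ QuadSim.perpOf Q D = ⊤ := by
  refine Submodule.eq_top_of_finrank_eq ?_
  have h1 := Submodule.finrank_sup_add_finrank_inf_eq D (QuadSim.perpOf Q D)
  have h2 : D ⊓ QuadSim.perpOf Q D = ⊥ := eq_bot_iff.2 fun x hx => (Submodule.mem_bot F).2 (h x hx.1 hx.2)
  rw [h2, finrank_bot] at h1
  have h3 := QuadSim.finrank_perpOf (Q := Q) D
  have h4 := (D ⊔ QuadSim.perpOf Q D).finrank_le
  rw [Module.finrank_fintype_fun_eq_card] at h4 ⊢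
  omega

lemma NDOn.perp {D : Submodule F (ι → F)} (h : NDOn Q D) (hnd : NDPolar Q) :
    NDOn Q (QuadSim.perpOf Q D) := by
  intro x hx hxp
  refine hnd x fun y => ?_
  obtain ⟨d, hd, p, hp, rfl⟩ := Submodule.mem_sup.1 (show y ∈ D ⊔ QuadSim.perpOf Q D by rw [h.sup_perp]; trivial)
  rw [polar_add_right, QuadSim.mem_perpOf.1 hx d hd, QuadSim.mem_perpOf.1 hxp p hp, add_zero]

lemma NDOn.exists_aniso {W : Submodule F (ι → F)} (h : NDOn Q W) (hpos : 0 < finrank F W) :
    ∃ x ∈ W, Q x ≠ 0 := by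
  by_contra hcon
  push Not at hcon
  obtain ⟨x, hx, hx0⟩ := Submodule.exists_mem_ne_zero_of_ne_bot (p := W) fun e => by
    rw [e, finrank_bot] at hpos; omega
  refine hx0 (h x hx (QuadSim.mem_perpOf.2 fun d hd => ?_))
  simp [polar, hcon _ (W.add_mem hx hd), hcon _ hx, hcon _ hd]

/-- An anisotropic vector orthogonal to a small non-degenerate subspace. -/
lemma NDOn.exists_next {D : Submodule F (ι → F)} (h : NDOn Q D) (hnd : NDPolar Q)
    (hlt : finrank F D < Fintype.card ι) : ∃ x ∈ QuadSim.perpOf Q D, Q x ≠ 0 :=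
  (h.perp hnd).exists_aniso (by have := QuadSim.finrank_perpOf (Q := Q) D; omega)

/-- Orthogonal to a small non-degenerate subspace every scalar is a value. -/
lemma NDOn.exists_value {D : Submodule F (ι → F)} (h : NDOn Q D) (hnd : NDPolar Q) (h2 : (2 : F) ≠ 0)
    (hlt : finrank F D + 2 ≤ Fintype.card ι) (s : F) : ∃ x ∈ QuadSim.perpOf Q D, Q x = s := by
  obtain ⟨x, hx, hQx⟩ := h.exists_next hnd (by omega)
  obtain ⟨y, hy, hQy⟩ := (h.sup h2 hx hQx).exists_next hnd (by rw [h.finrank_sup hx hQx]; omega)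
  rw [perpOf_sup] at hy
  obtain ⟨α, β, hαβ⟩ := OrthBlk.Blocks.exists_rep (Q := Q) h2 hQx hQy
    (by rw [polar_comm]; exact mem_perp_iff_span_singleton.1 hy.2) s
  exact ⟨_, Submodule.add_mem _ (Submodule.smul_mem _ α hx) (Submodule.smul_mem _ β hy.1), hαβ⟩

/-- In a non-degenerate plane an anisotropic vector has an orthogonal anisotropic partner. -/
lemma NDOn.exists_partner {W : Submodule F (ι → F)} (hW : NDOn Q W) (hdim : finrank F W = 2)
    (h2 : (2 : F) ≠ 0) {k : ι → F} (hk : k ∈ W) (hQk : Q k ≠ 0) :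
    ∃ l ∈ W, Q l ≠ 0 ∧ polar Q k l = 0 ∧ Submodule.span F {k} ⊔ Submodule.span F {l} = W := by
  have hk0 : k ≠ 0 := fun e => hQk (by rw [e, map_zero])
  have h3 := OrthCrit.finrank_le_inf_ker_add_one W (polarBilin Q k)
  obtain ⟨l, ⟨hl, hkl⟩, hl0⟩ := Submodule.exists_mem_ne_zero_of_ne_bot
    (p := W ⊓ LinearMap.ker (polarBilin Q k)) fun e => by rw [e, finrank_bot] at h3; omega
  have hkl' : polar Q k l = 0 := hkl
  have hsp : Submodule.span F {k} ⊔ Submodule.span F {l} = W := by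
    refine Submodule.eq_of_le_of_finrank_eq (sup_le ?_ ?_) ?_
    · rw [Submodule.span_singleton_le_iff_mem]; exact hk
    · rw [Submodule.span_singleton_le_iff_mem]; exact hl
    · rw [Submodule.finrank_sup_span_singleton, finrank_span_singleton hk0, hdim]
      intro hm
      obtain ⟨t, rfl⟩ := Submodule.mem_span_singleton.1 hm
      rw [polar_smul_right, Classical.Quad.polar_self', smul_eq_mul, mul_eq_zero] at hkl'
      exact hl0 (by rw [hkl'.resolve_right (mul_ne_zero h2 hQk), zero_smul])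
  refine ⟨l, hl, fun hQl => hl0 (hW l hl (QuadSim.mem_perpOf.2 fun d hd => ?_)), hkl', hsp⟩
  rw [← hsp] at hd
  obtain ⟨d₁, hd₁, d₂, hd₂, rfl⟩ := Submodule.mem_sup.1 hd
  obtain ⟨t, rfl⟩ := Submodule.mem_span_singleton.1 hd₁
  obtain ⟨u, rfl⟩ := Submodule.mem_span_singleton.1 hd₂
  rw [polar_add_right, polar_smul_right, polar_smul_right, polar_comm Q l k, hkl',
    Classical.Quad.polar_self', hQl]
  simp

lemma exists_sqrt_neg_aux (hnd : NDPolar Q) (h2 : (2 : F) ≠ 0) : ∀ j : ℕ, 2 * j + 1 ≤ Fintype.card ι →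
    ∃ D, NDOn Q D ∧ finrank F D = 2 * j ∧ ∃ g : Orth Q, (∀ y ∈ D, g.1 (g.1 y) = -y) ∧
      ∀ y ∈ QuadSim.perpOf Q D, g.1 y = y := by
  intro j
  induction j with
  | zero => exact fun _ => ⟨⊥, NDOn.bot, by simp, 1, fun y hy => by simp [(Submodule.mem_bot F).1 hy],
      fun y _ => rfl⟩
  | succ j ih =>
    intro hj
    obtain ⟨D, hD, hdim, g, hg, hgp⟩ := ih (by omega)
    obtain ⟨r, hr, hQr⟩ := hD.exists_next hnd (by omega)
    have hD1 := hD.sup h2 hr hQr
    obtain ⟨r', hr', hQr'⟩ := hD1.exists_value hnd h2 (by rw [hD.finrank_sup hr hQr]; omega) (Q r)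
    have hQ' : Q r' ≠ 0 := by rw [hQr']; exact hQr
    rw [perpOf_sup] at hr'
    have hrr : polar Q r' r = 0 := mem_perp_iff_span_singleton.1 hr'.2
    have hr'p : r' ∈ QuadSim.perpOf Q (D ⊔ Submodule.span F {r}) := by rw [perpOf_sup]; exact hr'
    refine ⟨D ⊔ Submodule.span F {r} ⊔ Submodule.span F {r'}, hD1.sup h2 hr'p hQ',
      by rw [hD1.finrank_sup hr'p hQ', hD.finrank_sup hr hQr, hdim]; ring, ?_⟩
    set σ : Orth Q := refl Q r * refl Q (r' - r)
    have hsub : Q (r' - r) ≠ 0 := by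
      rw [sub_eq_add_neg, ← neg_one_smul F r, Classical.Quad.Q_comb1, hrr, hQr']
      rw [show Q r + -1 * -1 * Q r + -1 * (0 : F) = 2 * Q r by ring]
      exact mul_ne_zero h2 hQr
    have hσfix : ∀ y, polar Q y r = 0 → polar Q y r' = 0 → σ.1 y = y := fun y h h' => by
      show (refl Q r).1 ((refl Q (r' - r)).1 y) = y
      rw [Classical.Quad.refl_fix (v := r' - r) (x := y) (by rw [polar_sub_right, h', h, sub_zero]), Classical.Quad.refl_fix h]
    have hσr : σ.1 r = r' := by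
      show (refl Q r).1 ((refl Q (r' - r)).1 r) = r'
      rw [Classical.Quad.refl_sub hQr'.symm hsub, Classical.Quad.refl_fix hrr]
    have hσr' : σ.1 r' = -r := by
      show (refl Q r).1 ((refl Q (r' - r)).1 r') = -r
      have h3 : (refl Q (r' - r)).1 r' = r := by
        have h4 := congrArg (refl Q (r' - r)).1 (Classical.Quad.refl_sub hQr'.symm hsub)
        rw [← Classical.Quad.mul_apply, Classical.Quad.refl_mul_self, Classical.Quad.one_apply] at h4
        exact h4.symm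
      rw [h3, Classical.Quad.refl_self hQr]
    refine ⟨g * σ, fun y hy => ?_, fun y hy => ?_⟩
    · obtain ⟨y₁, hy₁, y₂, hy₂, rfl⟩ := Submodule.mem_sup.1 hy
      obtain ⟨d, hd, y₃, hy₃, rfl⟩ := Submodule.mem_sup.1 hy₁
      obtain ⟨t, rfl⟩ := Submodule.mem_span_singleton.1 hy₂
      obtain ⟨s, rfl⟩ := Submodule.mem_span_singleton.1 hy₃
      have hdr : polar Q d r = 0 := by rw [polar_comm]; exact QuadSim.mem_perpOf.1 hr d hd
      have hdr' : polar Q d r' = 0 := by rw [polar_comm]; exact QuadSim.mem_perpOf.1 hr'.1 d hd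
      have hgdr : polar Q (g.1 d) r = 0 := by rw [← hgp r hr, Classical.Quad.orth_polar, hdr]
      have hgdr' : polar Q (g.1 d) r' = 0 := by rw [← hgp r' hr'.1, Classical.Quad.orth_polar, hdr']
      simp only [Classical.Quad.mul_apply, map_add, map_smul, map_neg, hσfix d hdr hdr', hσr, hσr', hgp r hr,
        hgp r' hr'.1, hσfix _ hgdr hgdr', hg d hd]
      module
    · rw [perpOf_sup, perpOf_sup] at hy
      rw [Classical.Quad.mul_apply, hσfix y (mem_perp_iff_span_singleton.1 hy.1.2)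
        (mem_perp_iff_span_singleton.1 hy.2), hgp y hy.1.1]

/-- In odd dimension some isometry squares to minus a reflection, for one square class of centres. -/
lemma exists_sqrt_neg (hnd : NDPolar Q) (h2 : (2 : F) ≠ 0) (hodd : Odd (Fintype.card ι)) :
    ∃ c : F, c ≠ 0 ∧ ∀ (k : ι → F) (s : F), s ≠ 0 → Q k = c * (s * s) →
      ∃ g : Orth Q, g.1 k = k ∧ ∀ y, polar Q k y = 0 → g.1 (g.1 y) = -y := by
  obtain ⟨m, hm⟩ := hodd
  obtain ⟨D, hD, hdim, g, hg, hgp⟩ := exists_sqrt_neg_aux hnd h2 m (by omega)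
  obtain ⟨k₀, hk₀, hQk₀⟩ := hD.exists_next hnd (by omega)
  have htop : D ⊔ Submodule.span F {k₀} = ⊤ := Submodule.eq_top_of_finrank_eq (by
    rw [hD.finrank_sup hk₀ hQk₀, Module.finrank_fintype_fun_eq_card]; omega)
  have hg0 : ∀ y, polar Q k₀ y = 0 → g.1 (g.1 y) = -y := fun y hy => by
    obtain ⟨d, hd, y', hy', rfl⟩ := Submodule.mem_sup.1 (show y ∈ D ⊔ Submodule.span F {k₀} by rw [htop]; trivial)
    obtain ⟨t, rfl⟩ := Submodule.mem_span_singleton.1 hy'
    rw [polar_add_right, QuadSim.mem_perpOf.1 hk₀ d hd, zero_add, polar_smul_right,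
      Classical.Quad.polar_self', smul_eq_mul, mul_eq_zero] at hy
    obtain rfl : t = 0 := hy.resolve_right (mul_ne_zero h2 hQk₀)
    rw [zero_smul, add_zero]
    exact hg d hd
  refine ⟨Q k₀, hQk₀, fun k s hs hk => ?_⟩
  set k' := s • k₀
  have hQk : Q k' = Q k := by rw [QuadraticMap.map_smul, hk, smul_eq_mul, mul_comm]
  obtain ⟨σ, ε, hε, hσ⟩ : ∃ (σ : Orth Q) (ε : F), ε ≠ 0 ∧ σ.1 k' = ε • k := by
    by_cases h : Q (k - k') = 0
    · refine ⟨refl Q (-k - k'), -1, neg_ne_zero.2 one_ne_zero, ?_⟩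
      rw [Classical.Quad.refl_sub (by rw [QuadraticMap.map_neg, hQk]) ?_, neg_one_smul]
      intro h'
      refine mul_ne_zero (mul_ne_zero h2 h2) (mul_ne_zero hQk₀ (mul_ne_zero hs hs)) ?_
      rw [sub_eq_add_neg, QuadraticMap.map_add (⇑Q), QuadraticMap.map_neg, polar_neg_right, hQk] at h
      rw [sub_eq_add_neg, QuadraticMap.map_add (⇑Q), QuadraticMap.map_neg, QuadraticMap.map_neg,
        polar_neg_right, polar_neg_left, neg_neg, hQk] at h'
      rw [← hk]
      linear_combination h + h'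
    · exact ⟨refl Q (k - k'), 1, one_ne_zero, by rw [Classical.Quad.refl_sub hQk h, one_smul]⟩
  have hσk : σ.1 k₀ = (ε * s⁻¹) • k := by
    rw [show k₀ = s⁻¹ • k' from (inv_smul_smul₀ hs k₀).symm, map_smul, hσ, smul_smul, mul_comm]
  have hck : k = σ.1 ((ε * s⁻¹)⁻¹ • k₀) := by
    rw [map_smul, hσk, inv_smul_smul₀ (mul_ne_zero hε (inv_ne_zero hs))]
  refine ⟨σ * g * σ⁻¹, ?_, fun y hy => ?_⟩
  · nth_rewrite 1 [hck]
    rw [Classical.Quad.mul_apply, Classical.Quad.mul_apply, Classical.Quad.inv_apply_self, map_smul,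
      hgp k₀ hk₀, ← hck]
  · simp only [Classical.Quad.mul_apply, Classical.Quad.inv_apply_self]
    rw [hg0 _ ?_, map_neg, Classical.Quad.self_apply_inv]
    rw [hck, ← Classical.Quad.self_apply_inv σ y, Classical.Quad.orth_polar, polar_smul_left, smul_eq_mul,
      mul_eq_zero] at hy
    exact hy.resolve_left (inv_ne_zero (mul_ne_zero hε (inv_ne_zero hs)))

end Quad

variable {S : Space F a b} {M : Subgroup (GL (Fin a × Fin b) F)} (H : Hyp S M)
include H

/-- Minus the reflection at a centre of the good class, in the group. -/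
lemma exists_T (hbo : Odd b) : ∃ c : F, c ≠ 0 ∧ ∀ (k : Fin b → F) (s : F), s ≠ 0 → S.Q2 k = c * (s * s) →
    ∃ t ∈ M, ∀ z, t •ᵥ z = -z + pt ((S.Q2 k)⁻¹ • S.ct k z) k := by
  obtain ⟨c, hc, hT⟩ := exists_sqrt_neg S.nd2 S.two (by rwa [Fintype.card_fin])
  refine ⟨c, hc, fun k s hs hk => ?_⟩
  have hQk : S.Q2 k ≠ 0 := by rw [hk]; exact mul_ne_zero hc (mul_ne_zero hs hs)
  obtain ⟨g, hgk, hgy⟩ := hT k s hs hk
  refine ⟨S.k2 g * S.k2 g, H.mem _ ((S.inH_k2 g).mul (S.inH_k2 g)) (S.sq_mem (S.k2_iso g)), fun z => ?_⟩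
  have := linear_ext (f := Matrix.toLin' ((S.k2 g * S.k2 g : GL (Fin a × Fin b) F) :
      Matrix (Fin a × Fin b) (Fin a × Fin b) F))
    (g := -LinearMap.id + (S.Q2 k)⁻¹ • (ptR k ∘ₗ S.ct k)) fun x y => by
      set t := QuadraticMap.polar S.Q2 k y / (2 * S.Q2 k) with ht
      have hy : QuadraticMap.polar S.Q2 k (y - t • k) = 0 := by
        rw [polar_sub_right, polar_smul_right, Classical.Quad.polar_self', smul_eq_mul, ht,
          div_mul_cancel₀ _ (mul_ne_zero S.two hQk), sub_self]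
      have h1 : g.1 (g.1 y) = -(y - t • k) + t • k := by
        conv_lhs => rw [← sub_add_cancel y (t • k)]
        rw [map_add, map_add, hgy _ hy, map_smul, hgk, map_smul, hgk]
      have h2 : (S.Q2 k)⁻¹ * QuadraticMap.polar S.Q2 k y = t + t := by
        have h2' := S.two
        rw [ht, ← two_mul]; field_simp
      simp only [Matrix.toLin'_apply, LinearMap.add_apply, LinearMap.neg_apply, LinearMap.id_apply,
        LinearMap.smul_apply, LinearMap.comp_apply, ptR_apply, gl_mulVec_mul, S.k2_pt, h1, S.ct_pt,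
        pt_smul_left, smul_smul, h2, pt_add_right, pt_smul_right,
        show -(y - t • k) = (-1 : F) • y + t • k by module]
      module
  have h := LinearMap.congr_fun this z
  simpa [Matrix.toLin'_apply, pt_smul_left] using h

variable (hO : OnlyScalar S M) (hgap : a + 2 ≤ b)
include hO hgap

/-- The contractions killing the image of a point contain no singular vector with an orthogonal partner. -/
lemma no_deg {g : GL (Fin a × Fin b) F} (hg : g ∈ M) (hgH : ¬ InH g) {e : Fin a → F} (he : S.Q1 e = 0)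
    (he0 : e ≠ 0) {v : Fin b → F} (hv : S.Q2 v = 0) (hv0 : v ≠ 0) {v' w : Fin b → F} (hv' : S.Q2 v' = 0)
    (hv'0 : v' ≠ 0) (hw : QuadraticMap.polar S.Q2 v' w = 0) (hwv : w ∉ Submodule.span F {v'})
    (h1 : S.ct v' (g •ᵥ pt e v) = 0) (h2 : S.ct w (g •ᵥ pt e v) = 0) : False := by
  set z := S.k2 (siegel S.Q2 v' w hv' hw)
  have hm := M.mul_mem (M.mul_mem (M.inv_mem hg) (H.z_mem hv' hw)) hg
  have hz : InH (g⁻¹ * z * g⁻¹⁻¹) := by
    rw [inv_inv]
    refine inH_of_fix H hO hgap he he0 hv hv0 hm (c₀ := 1) ?_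
    rw [gl_mulVec_mul, gl_mulVec_mul, S.k2_siegel, h1, h2, pt_zero_left, add_zero, smul_zero, add_zero,
      pt_zero_left, sub_zero, gl_inv_mulVec_mulVec, one_smul]
  exact hgH (by simpa using (inH_of_key H hO (M.inv_mem hg) hv' hw hv'0 hwv hz).inv)

lemma no_small {g : GL (Fin a × Fin b) F} (hg : g ∈ M) (hgH : ¬ InH g) {e : Fin a → F} (he : S.Q1 e = 0)
    (he0 : e ≠ 0) {v : Fin b → F} (hv : S.Q2 v = 0) (hv0 : v ≠ 0) {D : Submodule F (Fin a → F)}
    (hD : finrank F D + 3 ≤ b) (hct : ∀ φ, S.ct φ (g •ᵥ pt e v) ∈ D) : False := by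
  have h1 := LinearMap.finrank_range_add_finrank_ker (S.ct.flip (g •ᵥ pt e v))
  have h2 : finrank F (LinearMap.range (S.ct.flip (g •ᵥ pt e v))) ≤ finrank F D :=
    Submodule.finrank_mono (by rintro _ ⟨φ, rfl⟩; exact hct φ)
  rw [finrank_fin_fun] at h1
  set K := LinearMap.ker (S.ct.flip (g •ᵥ pt e v)) with hK
  obtain ⟨v', hv', hv'0, hQv'⟩ := OmS.exists_singular_of_three (Q := S.Q2) S.two (S := K) (by omega)
  obtain ⟨w, ⟨hwK, hwp⟩, hwv⟩ : ∃ w, (w ∈ K ∧ QuadraticMap.polar S.Q2 v' w = 0) ∧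
      w ∉ Submodule.span F {v'} := by
    by_contra hcon
    push Not at hcon
    have h3 := OrthCrit.finrank_le_inf_ker_add_one K (polarBilin S.Q2 v')
    have h4 := Submodule.finrank_mono (show K ⊓ LinearMap.ker (polarBilin S.Q2 v') ≤ Submodule.span F {v'}
      from fun w hw => hcon w ⟨hw.1, LinearMap.mem_ker.1 hw.2⟩)
    rw [finrank_span_singleton hv'0] at h4
    omega
  exact no_deg H hO hgap hg hgH he he0 hv hv0 hQv' hv'0 hwp hwv (LinearMap.mem_ker.1 hv') (LinearMap.mem_ker.1 hwK)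

omit H hO hgap in
/-- An element carries the tensor line of `r` to the one of `k`, by the map `γ`. -/
def Carries (S : Space F a b) (g : GL (Fin a × Fin b) F) (r k : Fin b → F)
    (γ : (Fin a → F) →ₗ[F] (Fin a → F)) : Prop :=
  S.Q2 r ≠ 0 ∧ S.Q2 k ≠ 0 ∧ Function.Surjective γ ∧ ∀ x, g •ᵥ pt x r = pt (γ x) k

omit hO hgap in
lemma Carries.polar_eq {g : GL (Fin a × Fin b) F} (hg : g ∈ M) {r r' k k' : Fin b → F}
    {γ γ' : (Fin a → F) →ₗ[F] (Fin a → F)} (h : Carries S g r k γ) (h' : Carries S g r' k' γ')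
    (x x' : Fin a → F) :
    QuadraticMap.polar S.Q1 x x' * QuadraticMap.polar S.Q2 r r' =
      QuadraticMap.polar S.Q1 (γ x) (γ' x') * QuadraticMap.polar S.Q2 k k' := by
  have := H.polar hg (pt x r) (pt x' r')
  rw [h.2.2.2, h'.2.2.2, S.polar_pt, S.polar_pt] at this
  exact this.symm

omit hO hgap in
/-- In odd dimension the two centres have norms in one square class. -/
lemma Carries.square_class (hao : Odd a) {g : GL (Fin a × Fin b) F} (hg : g ∈ M) {r k : Fin b → F}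
    {γ : (Fin a → F) →ₗ[F] (Fin a → F)} (h : Carries S g r k γ) :
    ∃ u : F, u ≠ 0 ∧ S.Q2 r = S.Q2 k * (u * u) := by
  set B := LinearMap.toMatrix₂' F (polarBilin S.Q1 : (Fin a → F) →ₗ[F] (Fin a → F) →ₗ[F] F)
  have hB : B.det ≠ 0 := by
    intro h0
    obtain ⟨x, hx0, hx⟩ := Matrix.exists_mulVec_eq_zero_iff.2 h0
    refine hx0 (eq_zero_of_polar S.nd1 fun y => ?_)
    have h1 : QuadraticMap.polar S.Q1 y x = y ⬝ᵥ (B *ᵥ x) := by
      rw [← Matrix.toLinearMap₂'_apply']
      simp [B]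
    rw [h1, hx, dotProduct_zero]
  have e : (polarBilin S.Q1 : (Fin a → F) →ₗ[F] (Fin a → F) →ₗ[F] F).compl₁₂ γ γ =
      ((S.Q2 r) / (S.Q2 k)) • polarBilin S.Q1 := LinearMap.ext fun x => LinearMap.ext fun y => by
    have h1 := h.polar_eq H hg h x y
    rw [Classical.Quad.polar_self', Classical.Quad.polar_self'] at h1
    have h2 := S.two
    simp only [LinearMap.compl₁₂_apply, LinearMap.smul_apply, polarBilin_apply_apply, smul_eq_mul]
    have h3 := h.2.1
    field_simp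
    exact mul_left_cancel₀ h2 (by linear_combination -h1)
  have h1 := congrArg (fun L => (LinearMap.toMatrix₂' F L).det) e
  simp only [LinearMap.toMatrix₂'_compl₁₂, map_smul, Matrix.det_mul, Matrix.det_transpose, Matrix.det_smul,
    Fintype.card_fin] at h1
  obtain ⟨j, hj⟩ := hao
  set δ := S.Q2 r / S.Q2 k with hδ
  set d := (LinearMap.toMatrix' γ).det
  have hδ0 : δ ≠ 0 := div_ne_zero h.1 h.2.1
  have h2 : δ * (δ ^ j * δ ^ j) = d * d := mul_right_cancel₀ hB (by
    have e2 : δ ^ a = δ ^ (2 * j + 1) := by rw [← hj]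
    rw [e2] at h1
    linear_combination -h1)
  have hd : d ≠ 0 := fun e => mul_ne_zero hδ0 (mul_ne_zero (pow_ne_zero j hδ0) (pow_ne_zero j hδ0))
    (by rw [h2, e, zero_mul])
  refine ⟨d / δ ^ j, div_ne_zero hd (pow_ne_zero _ hδ0), ?_⟩
  have h3 : δ = (d / δ ^ j) * (d / δ ^ j) := by
    field_simp
    linear_combination h2
  rw [← h3, hδ, mul_div_cancel₀ _ h.2.1]

/-- Minus a reflection gives a carried line orthogonal to the singular vector. -/
lemma exists_carries (hbo : Odd b) {g : GL (Fin a × Fin b) F} (hg : g ∈ M) {e : Fin a → F} (he : S.Q1 e = 0)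
    (he0 : e ≠ 0) {v : Fin b → F} (hv : S.Q2 v = 0) (hv0 : v ≠ 0) {k : Fin b → F} (hQk : S.Q2 k ≠ 0)
    {t : GL (Fin a × Fin b) F} (ht : t ∈ M) (htz : ∀ z, t •ᵥ z = -z + pt ((S.Q2 k)⁻¹ • S.ct k z) k)
    (hk : S.ct k (g •ᵥ pt e v) = 0) :
    ∃ r γ, Carries S g r k γ ∧ QuadraticMap.polar S.Q2 r v = 0 := by
  have h2 := S.two
  have hm := M.mul_mem (M.mul_mem (M.inv_mem hg) ht) hg
  have htk : ∀ x, t •ᵥ pt x k = pt x k := fun x => by
    rw [htz, S.ct_pt, Classical.Quad.polar_self', smul_smul, show (S.Q2 k)⁻¹ * (2 * S.Q2 k) = 2 by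
      field_simp, pt_smul_left]
    module
  have hev : (g⁻¹ * t * g) •ᵥ pt e v = pt ((-1 : F) • e) v := by
    rw [gl_mulVec_mul, gl_mulVec_mul, htz, hk, smul_zero, pt_zero_left, add_zero, mulVec_neg,
      gl_inv_mulVec_mulVec, pt_smul_left, neg_one_smul]
  obtain ⟨A, B, hAB⟩ := inH_of_fix H hO hgap he he0 hv hv0 hm hev
  set h := g⁻¹ * t * g with hh
  have hhh : ∀ z, h •ᵥ (h •ᵥ z) = z := fun z => by
    have htt : ∀ z, t •ᵥ (t •ᵥ z) = z := fun z => by
      rw [htz (t •ᵥ z), htz z]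
      simp only [map_add, map_neg, map_smul, S.ct_pt, Classical.Quad.polar_self', smul_smul]
      rw [show (2 * S.Q2 k) * (S.Q2 k)⁻¹ = 2 by field_simp, ← neg_one_smul F (S.ct k z)]
      simp only [smul_add, smul_smul, pt_add_left, pt_smul_left]
      module
    rw [hh, gl_mulVec_mul, gl_mulVec_mul, gl_mulVec_mul, gl_mulVec_mul, gl_mulVec_inv_mulVec, htt,
      gl_inv_mulVec_mulVec]
  have hAB2 : ∀ x y, pt ((A : Matrix (Fin a) (Fin a) F) *ᵥ ((A : Matrix (Fin a) (Fin a) F) *ᵥ x))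
      ((B : Matrix (Fin b) (Fin b) F) *ᵥ ((B : Matrix (Fin b) (Fin b) F) *ᵥ y)) = pt x y := fun x y => by
    have := hhh (pt x y)
    rwa [hAB, kronGL_pt, kronGL_pt] at this
  obtain ⟨x₀, hx₀⟩ := S.exists_nonsingular1
  have hx₀0 : x₀ ≠ 0 := fun e => hx₀ (by rw [e, map_zero])
  obtain ⟨x₁, hx₁⟩ := Classical.Quad.exists_polar_one S.nd1 hx₀0
  rw [polar_comm] at hx₁
  -- the two squares are scalars
  set μ := QuadraticMap.polar S.Q1 x₁ ((A : Matrix (Fin a) (Fin a) F) *ᵥ ((A : Matrix (Fin a) (Fin a) F) *ᵥ x₀))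
  have hB2 : ∀ y, μ • ((B : Matrix (Fin b) (Fin b) F) *ᵥ ((B : Matrix (Fin b) (Fin b) F) *ᵥ y)) = y := fun y => by
    have := congrArg (S.lc x₁) (hAB2 x₀ y)
    rwa [S.lc_pt, S.lc_pt, hx₁, one_smul] at this
  obtain ⟨s, hs, hμs⟩ : ∃ s : F, s ≠ 0 ∧ μ = s * s := by
    have e : μ • ((B : Matrix (Fin b) (Fin b) F) * (B : Matrix (Fin b) (Fin b) F)) = 1 :=
      Matrix.ext_of_mulVec_single fun i => by rw [smul_mulVec, ← mulVec_mulVec, hB2, one_mulVec]
    have hd := congrArg Matrix.det e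
    rw [Matrix.det_smul, Matrix.det_mul, Matrix.det_one, Fintype.card_fin] at hd
    obtain ⟨j, hj⟩ := hbo
    refine ⟨μ ^ (j + 1) * (B : Matrix (Fin b) (Fin b) F).det, ?_, ?_⟩
    · intro h0
      rcases mul_eq_zero.1 h0 with h0 | h0
      · rw [pow_eq_zero_iff (by omega)] at h0
        rw [h0, zero_pow (by omega), zero_mul] at hd; exact zero_ne_one hd
      · rw [h0, mul_zero, mul_zero] at hd; exact zero_ne_one hd
    · have e2 : μ ^ b = μ ^ (2 * j + 1) := by rw [← hj]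
      rw [e2] at hd
      linear_combination (-μ) * hd
  let α : (Fin a → F) →ₗ[F] (Fin a → F) := s⁻¹ • Matrix.toLin' (A : Matrix (Fin a) (Fin a) F)
  let β : (Fin b → F) →ₗ[F] (Fin b → F) := s • Matrix.toLin' (B : Matrix (Fin b) (Fin b) F)
  have hpt : ∀ x y, h •ᵥ pt x y = pt (α x) (β y) := fun x y => by
    rw [hAB, kronGL_pt]
    simp [α, β, pt_smul_left, pt_smul_right, smul_smul, hs, Matrix.toLin'_apply]
  have hβ : ∀ y, β (β y) = y := fun y => by
    conv_rhs => rw [← hB2 y]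
    simp [β, Matrix.toLin'_apply, mulVec_smul, smul_smul, hμs]
  have hα : ∀ x, α (α x) = x := fun x => by
    have := hhh (pt x (Pi.single ⟨0, by have := S.hb; omega⟩ 1))
    rw [hpt, hpt, hβ] at this
    exact pt_left_injective (fun e => one_ne_zero (α := F) (by simpa using congrFun e ⟨0, by have := S.hb; omega⟩)) this
  -- fixed tensors go to the tensors with `k`
  have hfix : ∀ z, h •ᵥ z = z → ∃ x, g •ᵥ z = pt x k := fun z hz => by
    refine ⟨(2 : F)⁻¹ • ((S.Q2 k)⁻¹ • S.ct k (g •ᵥ z)), ?_⟩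
    have h1 : t •ᵥ (g •ᵥ z) = g •ᵥ z := by
      conv_rhs => rw [← hz, hh, gl_mulVec_mul, gl_mulVec_mul, gl_mulVec_inv_mulVec]
    rw [htz] at h1
    rw [pt_smul_left]
    refine (inv_smul_smul₀ S.two (g •ᵥ z)).symm.trans (congrArg ((2 : F)⁻¹ • ·) ?_)
    linear_combination (norm := module) -h1
  have hscal : (∀ x, α x = x) ∨ ∀ x, α x = -x := by
    by_contra hcon
    rw [not_or] at hcon
    obtain ⟨⟨x, hx⟩, x', hx'⟩ := (⟨not_forall.1 hcon.1, not_forall.1 hcon.2⟩ :
      (∃ x, ¬ α x = x) ∧ ∃ x, ¬ α x = -x)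
    set p := x' + α x'
    set q := x - α x
    have hp : α p = p := by simp [p, hα, add_comm]
    have hq : α q = -q := by simp [q, hα]
    have hp0 : p ≠ 0 := fun e => hx' (eq_neg_of_add_eq_zero_right e)
    have hq0 : q ≠ 0 := fun e => hx (sub_eq_zero.1 e).symm
    let L : (Fin b → F) →ₗ[F] (Fin a × Fin b → F) :=
      Matrix.toLin' (g : Matrix (Fin a × Fin b) (Fin a × Fin b) F) ∘ₗ
        (ptL p ∘ₗ (LinearMap.id + β) + ptL q ∘ₗ (LinearMap.id - β))
    have hL : LinearMap.range L ≤ LinearMap.range (ptR k : (Fin a → F) →ₗ[F] _) := by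
      rintro _ ⟨y, rfl⟩
      obtain ⟨x, hx⟩ := hfix (pt p (y + β y) + pt q (y - β y)) (by
        rw [mulVec_add, hpt, hpt, hp, hq, map_add, map_sub, hβ, ← neg_one_smul F q, pt_smul_left,
          ← pt_smul_right, neg_one_smul, neg_sub, add_comm (β y) y])
      exact ⟨x, by simp [L, Matrix.toLin'_apply, hx]⟩
    have hqs : q ∉ Submodule.span F {p} := by
      intro hm
      obtain ⟨c, hc⟩ := Submodule.mem_span_singleton.1 hm
      rw [← hc, map_smul, hp] at hq
      have : (2 : F) • q = 0 := by rw [← hc]; linear_combination (norm := module) hq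
      exact hq0 ((smul_eq_zero.1 this).resolve_left S.two)
    obtain ⟨η, hη1, hη0⟩ := QuadSim.exists_dual_vec S.nd1 hqs
    have hinj : Function.Injective L := (injective_iff_map_eq_zero L).2 fun y hy => by
      have h0 : pt p (y + β y) + pt q (y - β y) = 0 := gl_mulVec_injective g (by
        show g •ᵥ _ = g •ᵥ _
        rw [mulVec_zero]
        simpa [L, Matrix.toLin'_apply] using hy)
      have h1 := congrArg (S.lc η) h0
      have hηp : QuadraticMap.polar S.Q1 η p = 0 := by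
        rw [polar_comm]; exact hη0 p (Submodule.mem_span_singleton_self p)
      rw [map_add, S.lc_pt, S.lc_pt, map_zero, hηp, zero_smul, zero_add, polar_comm (⇑S.Q1) η q, hη1,
        one_smul, sub_eq_zero] at h1
      rw [← h1, sub_self, pt_zero_right, add_zero] at h0
      have : (2 : F) • y = 0 := by
        by_contra h2y
        refine pt_ne_zero hp0 h2y ?_
        rw [two_smul, h0]
      exact (smul_eq_zero.1 this).resolve_left S.two
    have h3 := Submodule.finrank_mono hL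
    rw [LinearMap.finrank_range_of_inj hinj, finrank_fin_fun] at h3
    have h4 := LinearMap.finrank_range_le (ptR k : (Fin a → F) →ₗ[F] (Fin a × Fin b → F))
    rw [finrank_fin_fun] at h4
    omega
  -- absorb the sign
  obtain ⟨β', hβ', hpt'⟩ : ∃ β' : (Fin b → F) →ₗ[F] (Fin b → F), (∀ y, β' (β' y) = y) ∧
      ∀ x y, h •ᵥ pt x y = pt x (β' y) := by
    rcases hscal with h1 | h1
    · exact ⟨β, hβ, fun x y => by rw [hpt, h1]⟩
    · exact ⟨-β, fun y => by simp [hβ], fun x y => by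
        rw [hpt, h1, ← neg_one_smul F x, pt_smul_left, ← pt_smul_right, neg_one_smul]; rfl⟩
  have hiso : ∀ y y', QuadraticMap.polar S.Q2 (β' y) (β' y') = QuadraticMap.polar S.Q2 y y' := fun y y' => by
    have := H.polar hm (pt x₁ y) (pt x₀ y')
    rwa [hpt', hpt', S.polar_pt, S.polar_pt, hx₁, one_mul, one_mul] at this
  have hv' : β' v = -v := by
    obtain ⟨e', he'⟩ := Classical.Quad.exists_polar_one S.nd1 he0
    have h2 := congrArg (S.lc e') ((hpt' e v).symm.trans hev)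
    rw [S.lc_pt, S.lc_pt, polar_smul_right, polar_comm (⇑S.Q1) e' e, he', one_smul, smul_eq_mul, mul_one,
      neg_one_smul] at h2
    exact h2
  obtain ⟨y, hy⟩ : ∃ y, y + β' y ≠ 0 := by
    by_contra hcon
    push Not at hcon
    have h1 := hpt' x₀ k
    have hall := linear_ext (f := Matrix.toLin' (h : Matrix (Fin a × Fin b) (Fin a × Fin b) F))
      (g := -LinearMap.id) fun x y => by
        rw [Matrix.toLin'_apply, hpt', eq_neg_of_add_eq_zero_right (hcon y), LinearMap.neg_apply,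
          LinearMap.id_apply, ← neg_one_smul F y, pt_smul_right, neg_one_smul]
    have h2 := LinearMap.congr_fun hall (g⁻¹ •ᵥ pt x₀ k)
    rw [Matrix.toLin'_apply, LinearMap.neg_apply, LinearMap.id_apply, hh, gl_mulVec_mul, gl_mulVec_mul,
      gl_mulVec_inv_mulVec, htk] at h2
    have h3 : (2 : F) • (g⁻¹ •ᵥ pt x₀ k) = 0 := by rw [two_smul]; exact eq_neg_iff_add_eq_zero.1 h2
    have h4 := (smul_eq_zero.1 h3).resolve_left S.two
    exact pt_ne_zero hx₀0 (fun e : k = 0 => hQk (by rw [e, map_zero]))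
      (gl_mulVec_injective g⁻¹ (show g⁻¹ •ᵥ _ = g⁻¹ •ᵥ _ by rw [h4, mulVec_zero]))
  set r := y + β' y with hr
  have hr' : β' r = r := by rw [hr, map_add, hβ', add_comm]
  obtain ⟨k', hk'⟩ := Classical.Quad.exists_polar_one S.nd2 (show k ≠ 0 from fun e => hQk (by rw [e, map_zero]))
  let γ : (Fin a → F) →ₗ[F] (Fin a → F) :=
    S.ct k' ∘ₗ Matrix.toLin' (g : Matrix (Fin a × Fin b) (Fin a × Fin b) F) ∘ₗ ptR r
  have hγ : ∀ x, g •ᵥ pt x r = pt (γ x) k := fun x => by
    obtain ⟨u, hu⟩ := hfix (pt x r) (by rw [hpt', hr'])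
    have : γ x = u := by
      simp [γ, Matrix.toLin'_apply, hu, S.ct_pt, polar_comm (⇑S.Q2) k' k, hk']
    rw [this, hu]
  have hγi : Function.Injective γ := fun x x' hxx => pt_left_injective hy
    (gl_mulVec_injective g (show g •ᵥ _ = g •ᵥ _ by rw [hγ, hγ, hxx]))
  have hγs : Function.Surjective γ := LinearMap.injective_iff_surjective.1 hγi
  refine ⟨r, γ, ⟨fun h0 => ?_, hQk, hγs, hγ⟩, ?_⟩
  · obtain ⟨f, hf⟩ := hγs.hasRightInverse
    exact hQk (singular_of_line H hg h0 f fun x => by rw [hγ, hf x])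
  · have := hiso r v
    rw [hr', hv', polar_neg_right] at this
    exact (mul_eq_zero.1 (show (2 : F) * QuadraticMap.polar S.Q2 r v = 0 by linear_combination -this)).resolve_left S.two

omit hO hgap in
lemma exists_bad : ∃ ν : F, ∀ s : F, ν ≠ s * s := by
  have hc : ringChar F ≠ 2 := fun h => S.two (by
    have := ringChar.Nat.cast_ringChar (R := F)
    rw [h] at this
    exact_mod_cast this)
  obtain ⟨ν, hν⟩ := FiniteField.exists_nonsquare hc
  exact ⟨ν, fun s hs => hν ⟨s, hs⟩⟩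

omit H hO hgap in
/-- A carried line with norm in the given square class. -/
def Good (S : Space F a b) (g : GL (Fin a × Fin b) F) (c : F) (r : Fin b → F) : Prop :=
  ∃ k γ, Carries S g r k γ ∧ ∃ u : F, u ≠ 0 ∧ S.Q2 r = c * (u * u)

omit H hO hgap in
/-- The contractions killing the image of a point. -/
noncomputable def Kr (S : Space F a b) (g : GL (Fin a × Fin b) F) (e : Fin a → F) (v : Fin b → F) :
    Submodule F (Fin b → F) :=
  LinearMap.ker (S.ct.flip (g •ᵥ pt e v))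

variable {g : GL (Fin a × Fin b) F} (hg : g ∈ M) (hgH : ¬ InH g) {e : Fin a → F} (he : S.Q1 e = 0)
  (he0 : e ≠ 0)
include hg hgH he he0

lemma kr_plane {v : Fin b → F} (hv : S.Q2 v = 0) (hv0 : v ≠ 0) :
    b = a + 2 ∧ finrank F (Kr S g e v) = 2 ∧ NDOn S.Q2 (Kr S g e v) := by
  have h1 := LinearMap.finrank_range_add_finrank_ker (S.ct.flip (g •ᵥ pt e v))
  have h3 := (LinearMap.range (S.ct.flip (g •ᵥ pt e v))).finrank_le
  rw [finrank_fin_fun] at h1 h3
  change _ + finrank F (Kr S g e v) = b at h1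
  have hle : finrank F (Kr S g e v) ≤ 2 := not_lt.1 fun hlt =>
    no_small H hO hgap hg hgH he he0 hv hv0 (D := LinearMap.range (S.ct.flip (g •ᵥ pt e v)))
      (by omega) fun φ => ⟨φ, rfl⟩
  have hdim : finrank F (Kr S g e v) = 2 := by omega
  refine ⟨by omega, hdim, fun x hx hxp => ?_⟩
  by_contra hx0
  have hQx : S.Q2 x = 0 := by
    have := QuadSim.mem_perpOf.1 hxp x hx
    rw [Classical.Quad.polar_self'] at this
    exact (mul_eq_zero.1 this).resolve_left S.two
  obtain ⟨w, hw, hwx⟩ : ∃ w ∈ Kr S g e v, w ∉ Submodule.span F {x} := by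
    by_contra hcon
    push Not at hcon
    have h4 := Submodule.finrank_mono (show Kr S g e v ≤ Submodule.span F {x} from hcon)
    rw [finrank_span_singleton hx0] at h4
    omega
  exact no_deg H hO hgap hg hgH he he0 hv hv0 hQx hx0 (QuadSim.mem_perpOf.1 hxp w hw) hwx
    (LinearMap.mem_ker.1 hx) (LinearMap.mem_ker.1 hw)

lemma exists_base (c : F) {v : Fin b → F} (hv : S.Q2 v = 0) (hv0 : v ≠ 0) :
    ∃ k ∈ Kr S g e v, ∃ l ∈ Kr S g e v, S.Q2 k = c ∧ (c ≠ 0 → S.Q2 l ≠ 0 ∧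
      QuadraticMap.polar S.Q2 k l = 0) := by
  obtain ⟨-, hdim, hnd⟩ := kr_plane H hO hgap hg hgH he he0 hv hv0
  obtain ⟨k₀, hk₀, hQk₀⟩ := hnd.exists_aniso (by omega)
  obtain ⟨l₀, hl₀, hQl₀, hkl₀, -⟩ := hnd.exists_partner hdim S.two hk₀ hQk₀
  obtain ⟨x, y, hxy⟩ := OrthBlk.Blocks.exists_rep (Q := S.Q2) S.two hQk₀ hQl₀ hkl₀ c
  have hk := (Kr S g e v).add_mem ((Kr S g e v).smul_mem x hk₀) ((Kr S g e v).smul_mem y hl₀)
  by_cases hc : c = 0
  · exact ⟨_, hk, 0, Submodule.zero_mem _, hxy, fun h => absurd hc h⟩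
  obtain ⟨l, hl, hQl, hkl, -⟩ := hnd.exists_partner hdim S.two hk (by rw [hxy]; exact hc)
  exact ⟨_, hk, l, hl, hxy, fun _ => ⟨hQl, hkl⟩⟩

/-- A singular combination of carried lines needs a large contraction space. -/
lemma comb_eq_zero {r₁ r₂ r₃ k₁ k₂ k₃ : Fin b → F} {γ₁ γ₂ γ₃ : (Fin a → F) →ₗ[F] (Fin a → F)}
    (h1 : Carries S g r₁ k₁ γ₁) (h2 : Carries S g r₂ k₂ γ₂) (h3 : Carries S g r₃ k₃ γ₃)
    {D : Submodule F (Fin a → F)} (hD1 : γ₁ e ∈ D) (hD2 : γ₂ e ∈ D) (hD3 : γ₃ e ∈ D)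
    (hDb : finrank F D + 3 ≤ b) {v : Fin b → F} (hv : v ∈ Submodule.span F {r₁, r₂, r₃}) (hQv : S.Q2 v = 0) :
    v = 0 := by
  by_contra hv0
  obtain ⟨x, y, z, hxyz⟩ := Submodule.mem_span_triple.1 hv
  refine no_small H hO hgap hg hgH he he0 hQv hv0 hDb fun φ => ?_
  rw [← hxyz, pt_add_right, pt_add_right, pt_smul_right, pt_smul_right, pt_smul_right, mulVec_add, mulVec_add,
    mulVec_smul, mulVec_smul, mulVec_smul, h1.2.2.2, h2.2.2.2, h3.2.2.2]
  simp only [map_add, map_smul, S.ct_pt, smul_smul]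
  exact D.add_mem (D.add_mem (D.smul_mem _ hD1) (D.smul_mem _ hD2)) (D.smul_mem _ hD3)

lemma comb2_eq_zero {r₁ r₂ k₁ k₂ : Fin b → F} {γ₁ γ₂ : (Fin a → F) →ₗ[F] (Fin a → F)}
    (h1 : Carries S g r₁ k₁ γ₁) (h2 : Carries S g r₂ k₂ γ₂) {v : Fin b → F}
    (hv : v ∈ Submodule.span F {r₁, r₂}) (hQv : S.Q2 v = 0) : v = 0 := by
  refine comb_eq_zero H hO hgap hg hgH he he0 h1 h2 h2 (D := Submodule.span F {γ₁ e, γ₂ e})
    (Submodule.subset_span (by simp)) (Submodule.subset_span (by simp)) (Submodule.subset_span (by simp))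
    ?_ (by simpa using hv) hQv
  have := QuadSim.finrank_span_two_le (γ₁ e) (γ₂ e)
  have := S.ha
  omega

lemma plane_of_pair {r₁ r₂ k₁ k₂ : Fin b → F} {γ₁ γ₂ : (Fin a → F) →ₗ[F] (Fin a → F)}
    (h1 : Carries S g r₁ k₁ γ₁) (h2 : Carries S g r₂ k₂ γ₂) (hind : r₂ ∉ Submodule.span F {r₁})
    (hsmall : 4 ≤ a ∨ γ₂ e ∈ Submodule.span F {γ₁ e}) (c : F) :
    ∃ R : Submodule F (Fin b → F), finrank F R = 2 ∧ NDOn S.Q2 R ∧ ∀ r, Good S g c r → r ∈ R := by
  have ha := S.ha
  have hr10 : r₁ ≠ 0 := fun e => h1.1 (by rw [e, map_zero])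
  have hR : Submodule.span F {r₁, r₂} = Submodule.span F {r₁} ⊔ Submodule.span F {r₂} :=
    Submodule.span_insert r₁ {r₂}
  refine ⟨Submodule.span F {r₁, r₂}, ?_, fun x hx hxp => ?_, fun r hr => ?_⟩
  · rw [hR, Submodule.finrank_sup_span_singleton hind, finrank_span_singleton hr10]
  · refine comb2_eq_zero H hO hgap hg hgH he he0 h1 h2 hx ?_
    have := QuadSim.mem_perpOf.1 hxp x hx
    rw [Classical.Quad.polar_self'] at this
    exact (mul_eq_zero.1 this).resolve_left S.two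
  · obtain ⟨k, γ, h3, -⟩ := hr
    by_contra hrR
    have hd : 3 ≤ finrank F (Submodule.span F {r₁, r₂, r}) := by
      have e : Submodule.span F {r₁, r₂, r} = Submodule.span F {r₁, r₂} ⊔ Submodule.span F {r} := by
        rw [← Submodule.span_union]; congr 1; ext; simp; tauto
      rw [e, Submodule.finrank_sup_span_singleton hrR, hR, Submodule.finrank_sup_span_singleton hind,
        finrank_span_singleton hr10]
    obtain ⟨v, hv, hv0, hQv⟩ := OmS.exists_singular_of_three (Q := S.Q2) S.two hd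
    rcases hsmall with h4 | h4
    · exact hv0 (comb_eq_zero H hO hgap hg hgH he he0 h1 h2 h3 (D := Submodule.span F {γ₁ e, γ₂ e, γ e})
        (Submodule.subset_span (by simp)) (Submodule.subset_span (by simp)) (Submodule.subset_span (by simp))
        (by have := QuadSim.finrank_span_three_le (γ₁ e) (γ₂ e) (γ e); omega) hv hQv)
    · exact hv0 (comb_eq_zero H hO hgap hg hgH he he0 h1 h2 h3 (D := Submodule.span F {γ₁ e, γ e})
        (Submodule.subset_span (by simp)) (Submodule.span_mono (by simp) h4)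
        (Submodule.subset_span (by simp))
        (by have := QuadSim.finrank_span_two_le (γ₁ e) (γ e); omega) hv hQv)

lemma exists_good_aux (hao : Odd a) (hbo : Odd b) {c : F} (hc : c ≠ 0)
    (hT : ∀ (k : Fin b → F) (s : F), s ≠ 0 → S.Q2 k = c * (s * s) →
      ∃ t ∈ M, ∀ z, t •ᵥ z = -z + pt ((S.Q2 k)⁻¹ • S.ct k z) k)
    {v : Fin b → F} (hv : S.Q2 v = 0) (hv0 : v ≠ 0) (k : Fin b → F) (hk : k ∈ Kr S g e v) (s : F) (hs : s ≠ 0)
    (hQk : S.Q2 k = c * (s * s)) :
    ∃ r γ, Carries S g r k γ ∧ (∃ u : F, u ≠ 0 ∧ S.Q2 r = c * (u * u)) ∧ QuadraticMap.polar S.Q2 r v = 0 := by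
  obtain ⟨t, ht, htz⟩ := hT k s hs hQk
  obtain ⟨r, γ, hC, hrv⟩ := exists_carries H hO hgap hbo hg he he0 hv hv0
    (k := k) (by rw [hQk]; exact mul_ne_zero hc (mul_ne_zero hs hs)) ht htz (LinearMap.mem_ker.1 hk)
  obtain ⟨u, hu, hQr⟩ := hC.square_class H hao hg
  exact ⟨r, γ, hC, ⟨s * u, mul_ne_zero hs hu, by rw [hQr, hQk]; ring⟩, hrv⟩

set_option maxHeartbeats 1000000 in
lemma exists_plane (hao : Odd a) (hbo : Odd b) (hex : 4 ≤ a ∨ ∃ t : F, t ≠ 0 ∧ t * t ≠ 1) {c : F} (hc : c ≠ 0)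
    (hT : ∀ (k : Fin b → F) (s : F), s ≠ 0 → S.Q2 k = c * (s * s) →
      ∃ t ∈ M, ∀ z, t •ᵥ z = -z + pt ((S.Q2 k)⁻¹ • S.ct k z) k)
    {v₀ : Fin b → F} (hv₀ : S.Q2 v₀ = 0) (hv₀0 : v₀ ≠ 0) :
    ∃ R : Submodule F (Fin b → F), finrank F R = 2 ∧ NDOn S.Q2 R ∧ ∀ r, Good S g c r → r ∈ R := by
  have ha := S.ha
  have hb := S.hb
  have h2 := S.two
  obtain ⟨k₁, hk₁, l, hl, hQk₁, hkl'⟩ := exists_base H hO hgap hg hgH he he0 c hv₀ hv₀0
  obtain ⟨hQl, hkl⟩ := hkl' hc
  obtain ⟨r₁, γ₁, h1, hu₁, -⟩ := exists_good_aux H hO hgap hg hgH he he0 hao hbo hc hT hv₀ hv₀0 k₁ hk₁ 1 one_ne_zero (by rw [hQk₁, mul_one, mul_one])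
  by_cases h4 : 4 ≤ a
  · by_cases hall : ∀ r, Good S g c r → r ∈ Submodule.span F {r₁}
    · have hnd1 : NDOn S.Q2 (⊥ ⊔ Submodule.span F {r₁}) :=
        NDOn.bot.sup h2 (QuadSim.mem_perpOf.2 fun d hd => by rw [(Submodule.mem_bot F).1 hd, polar_zero_right]) h1.1
      rw [bot_sup_eq] at hnd1
      have hr10 : r₁ ≠ 0 := fun e => h1.1 (by rw [e, map_zero])
      obtain ⟨x, hx, hQx⟩ := hnd1.exists_next S.nd2 (by rw [finrank_span_singleton hr10, Fintype.card_fin]; omega)
      exact ⟨_, by rw [hnd1.finrank_sup hx hQx, finrank_span_singleton hr10], hnd1.sup h2 hx hQx,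
        fun r hr => Submodule.mem_sup_left (hall r hr)⟩
    · push Not at hall
      obtain ⟨r₂, ⟨k₂, γ₂, h2', -⟩, hind⟩ := hall
      exact plane_of_pair H hO hgap hg hgH he he0 h1 h2' hind (Or.inl h4) c
  · obtain ⟨t₀, ht₀, ht₀'⟩ := hex.resolve_left h4
    set δ := S.Q2 l / c with hδ
    by_cases hgood : ∃ t : F, t ≠ 0 ∧ δ * (t * t) ≠ 1 ∧ δ * (t * t) ≠ -1
    · obtain ⟨t, ht, htm, htp⟩ := hgood
      set s := 1 + δ * (t * t) with hs_def
      have hs : s ≠ 0 := fun e => htp (eq_neg_of_add_eq_zero_right e)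
      have hm0 : 1 - δ * (t * t) ≠ 0 := fun e => htm (sub_eq_zero.1 e).symm
      set k₂ := (1 - δ * (t * t)) • k₁ + (2 * t) • l with hk₂def
      have hQk₂ : S.Q2 k₂ = c * (s * s) := by
        rw [hk₂def, QuadraticMap.map_add (⇑S.Q2), QuadraticMap.map_smul, QuadraticMap.map_smul,
          polar_smul_left, polar_smul_right, hkl, hQk₁]
        have : S.Q2 l = δ * c := by rw [hδ, div_mul_cancel₀ _ hc]
        rw [this, hs_def]
        simp only [smul_eq_mul]
        ring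
      obtain ⟨r₂, γ₂, h2', -, -⟩ := exists_good_aux H hO hgap hg hgH he he0 hao hbo hc hT hv₀ hv₀0 k₂
        ((Kr S g e v₀).add_mem ((Kr S g e v₀).smul_mem _ hk₁) ((Kr S g e v₀).smul_mem _ hl)) s hs hQk₂
      have h12 : QuadraticMap.polar S.Q2 k₁ k₂ ≠ 0 := by
        rw [hk₂def, polar_add_right, polar_smul_right, polar_smul_right, hkl, Classical.Quad.polar_self',
          hQk₁]
        simp [hm0, h2, hc]
      have hind : r₂ ∉ Submodule.span F {r₁} := by
        intro hm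
        obtain ⟨w, hw⟩ := Submodule.mem_span_singleton.1 hm
        obtain ⟨x, hx⟩ := S.exists_nonsingular1
        obtain ⟨y, rfl⟩ := h2'.2.2.1 x
        have h5 : g •ᵥ pt y r₂ = g •ᵥ (w • pt y r₁) := by rw [← hw, pt_smul_right]
        rw [h2'.2.2.2, mulVec_smul, h1.2.2.2] at h5
        have hQ : S.Q1 (γ₂ y) ≠ 0 := hx
        have h6 := congrArg (S.lc ((2 * S.Q1 (γ₂ y))⁻¹ • γ₂ y)) h5
        simp only [map_smul, LinearMap.smul_apply, S.lc_pt, Classical.Quad.polar_self', smul_smul] at h6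
        rw [inv_mul_cancel₀ (mul_ne_zero h2 hQ), one_smul] at h6
        have h7 := congrArg (QuadraticMap.polar S.Q2 l) h6
        rw [hk₂def, polar_add_right] at h7
        simp only [polar_smul_right, polar_comm (⇑S.Q2) l k₁, hkl, Classical.Quad.polar_self', smul_eq_mul,
          mul_zero, zero_add] at h7
        exact mul_ne_zero (mul_ne_zero h2 ht) (mul_ne_zero h2 hQl) h7
      refine plane_of_pair H hO hgap hg hgH he he0 h1 h2' hind (Or.inr (Submodule.mem_span_singleton.2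
        ⟨QuadraticMap.polar S.Q2 r₁ r₂ * QuadraticMap.polar S.Q2 k₁ k₁ /
          (QuadraticMap.polar S.Q2 k₁ k₂ * QuadraticMap.polar S.Q2 r₁ r₁), ?_⟩)) c
      refine sub_eq_zero.1 (eq_zero_of_polar S.nd1 fun z => ?_)
      obtain ⟨x, rfl⟩ := h1.2.2.1 z
      have e1 := h1.polar_eq H hg h1 x e
      have e2 := h1.polar_eq H hg h2' x e
      have hr11 : QuadraticMap.polar S.Q2 r₁ r₁ ≠ 0 := by
        rw [Classical.Quad.polar_self']; exact mul_ne_zero h2 h1.1
      rw [polar_sub_right, polar_smul_right, smul_eq_mul]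
      field_simp
      linear_combination QuadraticMap.polar S.Q2 r₁ r₁ * e2 - QuadraticMap.polar S.Q2 r₁ r₂ * e1
    · push Not at hgood
      have h1' : δ = 1 ∨ δ = -1 := by
        have := hgood 1 one_ne_zero
        simp only [mul_one] at this
        by_cases h : δ = 1
        · exact Or.inl h
        · exact Or.inr (this h)
      have ht' : t₀ * t₀ = -1 := by
        have := hgood t₀ ht₀
        rcases h1' with h | h <;> rw [h] at this
        · simpa using this (by simpa using ht₀')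
        · by_cases h' : (-1 : F) * (t₀ * t₀) = 1
          · linear_combination -h'
          · exact absurd (by linear_combination -(this h')) ht₀'
      obtain ⟨s, hs, hQls⟩ : ∃ s : F, s ≠ 0 ∧ S.Q2 l = c * (s * s) := by
        have : S.Q2 l = δ * c := by rw [hδ, div_mul_cancel₀ _ hc]
        rcases h1' with h | h
        · exact ⟨1, one_ne_zero, by rw [this, h]; ring⟩
        · exact ⟨t₀, ht₀, by rw [this, h, ht']; ring⟩
      obtain ⟨r₂, γ₂, h2', ⟨u₂, hu₂, hQr₂⟩, -⟩ := exists_good_aux H hO hgap hg hgH he he0 hao hbo hc hT hv₀ hv₀0 l hl s hs hQls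
      obtain ⟨u₁, hu₁, hQr₁⟩ := hu₁
      have horth : QuadraticMap.polar S.Q2 r₁ r₂ = 0 := by
        obtain ⟨x, hx⟩ := S.exists_nonsingular1
        have := h1.polar_eq H hg h2' x x
        rw [hkl, mul_zero, Classical.Quad.polar_self'] at this
        exact (mul_eq_zero.1 this).resolve_left (mul_ne_zero h2 hx)
      set w := u₂ • r₁ + (t₀ * u₁) • r₂ with hwdef
      have hw := comb2_eq_zero H hO hgap hg hgH he he0 h1 h2' (v := w)
        (Submodule.add_mem _ (Submodule.smul_mem _ _ (Submodule.subset_span (by simp)))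
          (Submodule.smul_mem _ _ (Submodule.subset_span (by simp)))) (by
        rw [hwdef, QuadraticMap.map_add (⇑S.Q2), QuadraticMap.map_smul, QuadraticMap.map_smul,
          polar_smul_left, polar_smul_right, horth, hQr₁, hQr₂]
        simp only [smul_eq_mul]
        linear_combination c * u₁ * u₁ * u₂ * u₂ * ht')
      have h9 : QuadraticMap.polar S.Q2 r₁ w = u₂ * (2 * S.Q2 r₁) := by
        rw [hwdef, polar_add_right, polar_smul_right, polar_smul_right, horth, Classical.Quad.polar_self']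
        simp
      rw [hw, polar_zero_right] at h9
      exact absurd h9.symm (mul_ne_zero hu₂ (mul_ne_zero h2 h1.1))

omit hg hgH he he0 in
set_option maxHeartbeats 1000000 in
/-- When only tensors act trivially around tensor lines, the group consists of tensors. -/
theorem inH_of_mem (hpar : b = a + 2 → Odd a) (hex : 4 ≤ a ∨ ∃ t : F, t ≠ 0 ∧ t * t ≠ 1) :
    ∀ g ∈ M, InH g := by
  intro g hg
  by_contra hgH
  have ha := S.ha
  have hb := S.hb
  have h2 := S.two
  obtain ⟨e, -, he0, he⟩ := OmS.exists_singular_of_three (Q := S.Q1) S.two (S := ⊤)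
    (by rw [finrank_top, finrank_fin_fun]; exact ha)
  obtain ⟨v₀, -, hv₀0, hv₀⟩ := OmS.exists_singular_of_three (Q := S.Q2) S.two (S := ⊤)
    (by rw [finrank_top, finrank_fin_fun]; omega)
  obtain ⟨hb2, -, -⟩ := kr_plane H hO hgap hg hgH he he0 hv₀ hv₀0
  have hao := hpar hb2
  have hbo : Odd b := by obtain ⟨j, hj⟩ := hao; exact ⟨j + 1, by omega⟩
  obtain ⟨c, hc, hT⟩ := exists_T H hbo
  obtain ⟨R, hR, hRnd, hGR⟩ := exists_plane H hO hgap hg hgH he he0 hao hbo hex hc hT hv₀ hv₀0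
  -- a singular vector missed by the plane
  obtain ⟨ν, hν⟩ := exists_bad H
  obtain ⟨p, hp, hQp⟩ := hRnd.exists_aniso (by omega)
  obtain ⟨p', hp', hQp', hpp', -⟩ := hRnd.exists_partner hR h2 hp hQp
  obtain ⟨x, y, hxy⟩ := OrthBlk.Blocks.exists_rep (Q := S.Q2) h2 hQp hQp' hpp' (c * ν)
  set r₀ := x • p + y • p' with hr₀
  have hr₀R : r₀ ∈ R := R.add_mem (R.smul_mem _ hp) (R.smul_mem _ hp')
  -- the orthogonal of `r₀` in the plane
  set r' := (-(y * S.Q2 p')) • p + (x * S.Q2 p) • p' with hr'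
  have hr'R : r' ∈ R := R.add_mem (R.smul_mem _ hp) (R.smul_mem _ hp')
  have hpol : ∀ u w : F, ∀ u' w' : F, QuadraticMap.polar S.Q2 (u • p + w • p') (u' • p + w' • p') =
      2 * (u * u' * S.Q2 p + w * w' * S.Q2 p') := fun u w u' w' => by
    simp only [polar_add_left, polar_add_right, polar_smul_left, polar_smul_right, hpp',
      polar_comm (⇑S.Q2) p' p, Classical.Quad.polar_self', smul_eq_mul]
    ring
  have hQr₀ : S.Q2 r₀ = c * ν := hxy
  have hν0 : ν ≠ 0 := fun e => hν 0 (by rw [e, mul_zero])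
  have hr0r' : QuadraticMap.polar S.Q2 r₀ r' = 0 := by rw [hr₀, hr', hpol]; ring
  have hQr' : S.Q2 r' ≠ 0 := by
    have h8 : 2 * S.Q2 r' = 2 * (S.Q2 p * S.Q2 p' * S.Q2 r₀) := by
      have e0 := hpol x y x y
      rw [← hr₀, Classical.Quad.polar_self'] at e0
      rw [← Classical.Quad.polar_self', hr', hpol, mul_left_cancel₀ h2 e0]
      ring
    rw [mul_left_cancel₀ h2 h8, hQr₀]
    exact mul_ne_zero (mul_ne_zero hQp hQp') (mul_ne_zero hc hν0)
  obtain ⟨s, hs, hQs⟩ := hRnd.exists_value S.nd2 h2 (by rw [hR, Fintype.card_fin]; omega) (-(S.Q2 r'))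
  set v := r' + s
  have hsr' : QuadraticMap.polar S.Q2 r' s = 0 := by rw [polar_comm]; exact QuadSim.mem_perpOf.1 hs r' hr'R
  have hQv : S.Q2 v = 0 := by
    rw [QuadraticMap.map_add (⇑S.Q2), hsr', hQs]; ring
  have hv0 : v ≠ 0 := fun e => by
    have h8 : QuadraticMap.polar S.Q2 r' v = 2 * S.Q2 r' := by
      rw [polar_add_right, hsr', Classical.Quad.polar_self', add_zero]
    rw [e, polar_zero_right] at h8
    exact mul_ne_zero h2 hQr' h8.symm
  obtain ⟨k, hk, -, -, hQk, -⟩ := exists_base H hO hgap hg hgH he he0 c hQv hv0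
  obtain ⟨r, γ, hC, ⟨u, hu, hQr⟩, hrv⟩ := exists_good_aux H hO hgap hg hgH he he0 hao hbo hc hT hQv hv0 k hk 1 one_ne_zero (by rw [hQk, mul_one, mul_one])
  have hrR := hGR r ⟨k, γ, hC, u, hu, hQr⟩
  have hsp : Submodule.span F {r₀} ⊔ Submodule.span F {r'} = R := by
    refine Submodule.eq_of_le_of_finrank_eq (sup_le ?_ ?_) ?_
    · rw [Submodule.span_singleton_le_iff_mem]; exact hr₀R
    · rw [Submodule.span_singleton_le_iff_mem]; exact hr'R
    · rw [Submodule.finrank_sup_span_singleton, finrank_span_singleton, hR]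
      · exact fun e => mul_ne_zero hc hν0 (by rw [← hQr₀, e, map_zero])
      · intro hm
        obtain ⟨w, hw⟩ := Submodule.mem_span_singleton.1 hm
        rw [← hw, polar_smul_right, Classical.Quad.polar_self', hQr₀, smul_eq_mul, mul_eq_zero] at hr0r'
        refine hQr' ?_
        rw [← hw, hr0r'.resolve_right (mul_ne_zero h2 (mul_ne_zero hc hν0)), zero_smul, map_zero]
  rw [← hsp] at hrR
  obtain ⟨d₁, hd₁, d₂, hd₂, hsum⟩ := Submodule.mem_sup.1 hrR
  obtain ⟨p₀, rfl⟩ := Submodule.mem_span_singleton.1 hd₁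
  obtain ⟨p₁, rfl⟩ := Submodule.mem_span_singleton.1 hd₂
  have hsr₀ : QuadraticMap.polar S.Q2 r₀ s = 0 := by rw [polar_comm]; exact QuadSim.mem_perpOf.1 hs r₀ hr₀R
  rw [← hsum] at hrv hQr
  simp only [v, polar_add_left, polar_add_right, polar_smul_left, hr0r', hsr₀, hsr',
    Classical.Quad.polar_self', smul_eq_mul, mul_zero, add_zero, zero_add] at hrv
  obtain rfl : p₁ = 0 := (mul_eq_zero.1 hrv).resolve_right (mul_ne_zero h2 hQr')
  rw [zero_smul, add_zero, QuadraticMap.map_smul, hQr₀, smul_eq_mul] at hQr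
  have hp₀ : p₀ ≠ 0 := fun e => mul_ne_zero hc (mul_ne_zero hu hu) (by rw [← hQr, e]; ring)
  refine hν (u / p₀) ?_
  field_simp
  exact mul_left_cancel₀ hc (by linear_combination hQr)

end CfsgLib.ClassicalMax.OTens
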