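/-
Stabilisers of tensor products of two quadratic spaces are maximal in `Ω`.
-/
import Cfsg.Agent.Lib.ClassicalMax.OrthTensorMax.Start
import Cfsg.Agent.Lib.ClassicalMax.TensorSL
import Cfsg.Agent.Lib.ClassicalMax.SympTools
set_option autoImplicit false
set_option linter.unusedSectionVars false
set_option linter.unusedVariables false
set_option linter.unusedSimpArgs false

namespace CfsgLib.ClassicalMax.OTens

open Matrix Kronecker Cfsg.Geo QuadraticMap Module
open CfsgLib.Classical.Quad (NDPolar Orth siegel siegelGroup)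
open CfsgLib.ClassicalMax.Kron

variable {F : Type*} [Field F] [Fintype F] [DecidableEq F]

local notation:70 g:71 " •ᵥ " z:70 => Matrix.mulVec (Units.val g) z

/-! ### Forms -/

section Forms

variable {κ : Type} [Fintype κ] [DecidableEq κ]

/-- A two-argument bilinear form as a bilinear map. -/
noncomputable def bilOf {f : (κ → F) → (κ → F) → F} (hf : IsBilinearForm f) :
    (κ → F) →ₗ[F] (κ → F) →ₗ[F] F :=
  LinearMap.mk₂ F f hf.add_left (fun c x v => hf.smul_left c x v) hf.add_right (fun c v x => hf.smul_right c v x)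

lemma form_eq_gram {f : (κ → F) → (κ → F) → F} (hf : IsBilinearForm f) (x y : κ → F) :
    f x y = ∑ i, ∑ j, x i * gramMatrix f i j * y j := by
  have h : f x y = bilOf hf x y := rfl
  rw [h]
  conv_lhs => rw [pi_eq_sum_univ' x, pi_eq_sum_univ' y]
  simp only [map_sum, map_smul, LinearMap.sum_apply, LinearMap.smul_apply, smul_eq_mul, Finset.mul_sum]
  rw [Finset.sum_comm]
  refine Finset.sum_congr rfl fun i _ => Finset.sum_congr rfl fun j _ => ?_
  show _ * (_ * f _ _) = _
  rw [gramMatrix]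
  ring

/-- The quadratic form whose polar is a multiple of a symmetric form. -/
lemma exists_quad {f : (κ → F) → (κ → F) → F} (hf : IsSymmetricForm f) (h2 : (2 : F) ≠ 0) {c : F} (hc : c ≠ 0) :
    ∃ Q : QuadraticForm F (κ → F), NDPolar Q ∧ (∀ x, Q x = c * (2 : F)⁻¹ * f x x) ∧
      ∀ x y, polar Q x y = c * f x y := by
  refine ⟨LinearMap.BilinMap.toQuadraticMap ((c * (2 : F)⁻¹) • bilOf hf.bilinear), ?_, fun x => ?_, ?_⟩
  swap
  · rfl
  swap
  · intro x y
    simp only [QuadraticMap.polar, LinearMap.BilinMap.toQuadraticMap_apply, LinearMap.smul_apply, smul_eq_mul,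
      bilOf, LinearMap.mk₂_apply, hf.bilinear.add_left, hf.bilinear.add_right, hf.symm y x]
    field_simp
    ring
  · intro x hx
    by_contra hx0
    obtain ⟨y, hy⟩ := (hf.nondegenerate x hx0).2
    refine mul_ne_zero hc hy ?_
    have := hx y
    simp only [QuadraticMap.polar, LinearMap.BilinMap.toQuadraticMap_apply, LinearMap.smul_apply, smul_eq_mul,
      bilOf, LinearMap.mk₂_apply, hf.bilinear.add_left, hf.bilinear.add_right, hf.symm y x] at this
    rw [← this]
    field_simp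
    ring

end Forms

/-- A totally isotropic plane needs dimension four. -/
lemma four_le_of_plane {n : ℕ} {f : (Fin n → F) → (Fin n → F) → F} (hf : IsSymmetricForm f) (h2 : (2 : F) ≠ 0)
    {u r : Fin n → F} (hu : f u u = 0) (hr : f r r = 0) (hur : f u r = 0) (hu0 : u ≠ 0)
    (hind : ∀ c : F, c • u ≠ r) : 4 ≤ n := by
  obtain ⟨Q, hnd, hQ, hpol⟩ := exists_quad hf h2 one_ne_zero
  have hsing : ∀ x ∈ Submodule.span F {u, r}, Q x = 0 := fun x hx => by
    obtain ⟨s, t, rfl⟩ := Submodule.mem_span_pair.1 hx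
    rw [hQ]
    simp [hf.bilinear.add_left, hf.bilinear.add_right, hf.bilinear.smul_left, hf.bilinear.smul_right, hu, hr,
      hur, hf.symm r u]
  have h1 := OmS.two_mul_finrank_le (Q := Q) hnd hsing
  have h3 : finrank F (Submodule.span F {u, r}) = 2 := by
    rw [show Submodule.span F {u, r} = Submodule.span F {u} ⊔ Submodule.span F {r} from Submodule.span_insert u {r},
      Submodule.finrank_sup_span_singleton fun hm => ?_, finrank_span_singleton hu0]
    obtain ⟨c, hc⟩ := Submodule.mem_span_singleton.1 hm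
    exact hind c hc
  rw [Fintype.card_fin] at h1
  omega

/-! ### An element of `Ω` outside the stabiliser -/

lemma Space.exists_not_inH {a b : ℕ} (S : Space F a b) : ∃ g ∈ omegaGL ⇑S.Q, ¬ InH g := by
  have h2 := S.two
  obtain ⟨v, -, hv0, hv⟩ := OmS.exists_singular_of_three (Q := S.Q2) S.two (S := ⊤)
    (by rw [finrank_top, finrank_fin_fun]; exact le_trans (by norm_num) S.hb)
  obtain ⟨w₀, hw₀, hvw₀⟩ := exists_hyp S.nd2 hv hv0
  obtain ⟨x, hx⟩ := S.exists_nonsingular1
  obtain ⟨y, hy, hQy⟩ := ((NDOn.bot (Q := S.Q1)).sup h2 (QuadSim.mem_perpOf.2 fun d hd => by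
    rw [(Submodule.mem_bot F).1 hd, polar_zero_right]) hx).exists_next S.nd1 (by
      have h := Submodule.finrank_add_le_finrank_add_finrank (⊥ : Submodule F (Fin a → F)) (Submodule.span F {x})
      rw [finrank_bot, finrank_span_singleton (fun e : x = 0 => hx (by rw [e, map_zero]))] at h
      have := S.ha
      rw [Fintype.card_fin]; omega)
  rw [bot_sup_eq, mem_perp_iff_span_singleton] at hy
  set p := pt x v
  have hp : S.Q p = 0 := by rw [S.Q_pt, hv, mul_zero]
  have hpw : ∀ t : F, QuadraticMap.polar S.Q p (t • pt y v) = 0 := fun t => by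
    rw [polar_smul_right, S.polar_pt, Classical.Quad.polar_singular_self hv, mul_zero, smul_zero]
  set g := glOf (siegel S.Q p ((2 : F)⁻¹ • pt y v) hp (hpw _)).1 with hg
  have hgi : g ∈ Cfsg.isometryGroup F ⇑S.Q := fun z _ => by
    show S.Q (g •ᵥ z) = S.Q z
    rw [hg, glOf_mulVec, Classical.Quad.orth_Q]
  refine ⟨g * g, S.sq_mem hgi, ?_⟩
  have hgz : ∀ z, (g * g) •ᵥ z = z + pt (QuadraticMap.polar S.Q1 x (S.ct v z) • y -
      QuadraticMap.polar S.Q1 y (S.ct v z) • x) v := fun z => by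
    rw [gl_mulVec_mul, hg, glOf_mulVec, glOf_mulVec, ← Classical.Quad.mul_apply, Classical.Quad.siegel_mul,
      Classical.Quad.siegel_congr _ _ hp (hpw 1) rfl (by rw [← add_smul, ← two_mul, mul_inv_cancel₀ h2, one_smul]),
      Classical.Quad.siegel_apply, one_smul]
    simp only [p, S.polar_pt_left, S.polar_pt_right, S.Q_pt, hv, mul_zero, zero_mul, add_zero, sub_zero,
      pt_sub_left, pt_smul_left, polar_comm (⇑S.Q1) (S.ct v z) x, polar_comm (⇑S.Q1) (S.ct v z) y]
    module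
  rintro ⟨A, B, hAB⟩
  have h1 : ∀ u w, pt ((A : Matrix (Fin a) (Fin a) F) *ᵥ u) ((B : Matrix (Fin b) (Fin b) F) *ᵥ w) =
      pt u w + pt (QuadraticMap.polar S.Q2 v w • (QuadraticMap.polar S.Q1 x u • y - QuadraticMap.polar S.Q1 y u • x)) v :=
    fun u w => by
      rw [← kronGL_pt, ← hAB, hgz, S.ct_pt, polar_smul_right, polar_smul_right]
      congr 2
      simp only [smul_eq_mul]
      module
  have hA : ∀ u, QuadraticMap.polar S.Q2 w₀ ((B : Matrix (Fin b) (Fin b) F) *ᵥ v) •
      ((A : Matrix (Fin a) (Fin a) F) *ᵥ u) = u := fun u => by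
    have := congrArg (S.ct w₀) (h1 u v)
    rw [Classical.Quad.polar_singular_self hv, zero_smul, pt_zero_left, add_zero, S.ct_pt, S.ct_pt,
      polar_comm (⇑S.Q2) w₀ v, hvw₀, one_smul] at this
    exact this
  set s := QuadraticMap.polar S.Q2 w₀ ((B : Matrix (Fin b) (Fin b) F) *ᵥ v)
  have hs : s ≠ 0 := fun e => hx (by
    have := hA x
    rw [e, zero_smul] at this
    rw [← this, map_zero])
  have hAx : (A : Matrix (Fin a) (Fin a) F) *ᵥ x = s⁻¹ • x := by
    conv_rhs => rw [← hA x, inv_smul_smul₀ hs]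
  have h3 := congrArg (fun z => QuadraticMap.polar S.Q1 y (S.ct w₀ z)) (h1 x w₀)
  simp only [S.ct_pt, map_add, hvw₀, polar_comm (⇑S.Q2) w₀ v, Classical.Quad.polar_singular_self hw₀, hAx,
    zero_smul, zero_add, one_smul, polar_smul_right, polar_sub_right, hy, smul_eq_mul, mul_zero, sub_zero,
    Classical.Quad.polar_self', zero_mul] at h3
  exact mul_ne_zero (mul_ne_zero h2 hx) (mul_ne_zero h2 hQy) h3.symm

/-! ### Transport -/

variable {ι : Type} [Fintype ι] [DecidableEq ι] {a b : ℕ}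

lemma omegaGL_eq (Q : (ι → F) → F) :
    omegaGL Q = ⁅Cfsg.isometryGroup F Q, Cfsg.isometryGroup F Q⁆ :=
  Subgroup.map_subtype_commutator _

/-- Stabilisers of tensor products of two quadratic spaces are maximal in `Ω`. -/
theorem tensor_maximal_aux (q : QuadraticForm F (ι → F)) (e : ι ≃ Fin a × Fin b) (P : GL ι F)
    (S : Space F a b) (hS : ∀ z, S.Q z = q ((P : Matrix ι ι F) *ᵥ (z ∘ e)))
    (hgap : a + 2 ≤ b) (hpar : b = a + 2 → Odd a) (hex : 4 ≤ a ∨ ∃ t : F, t ≠ 0 ∧ t * t ≠ 1)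
    (hplane : ∀ u r : Fin a → F, S.Q1 u = 0 → S.Q1 r = 0 → polar S.Q1 u r = 0 → u ≠ 0 →
      (∀ c : F, c • u ≠ r) → 5 ≤ a) :
    IsMaximalIn (omegaGL ⇑q) (tensorProductSubgroup a b e P ⊓ omegaGL ⇑q) := by
  set Φ : GL (Fin a × Fin b) F ≃* GL ι F := (glReindex e.symm).trans (MulAut.conj P) with hΦ
  have hT : ∀ (g : GL (Fin a × Fin b) F) z, (Φ g) •ᵥ ((P : Matrix ι ι F) *ᵥ (z ∘ e)) =
      (P : Matrix ι ι F) *ᵥ ((g •ᵥ z) ∘ e) := fun g z => by
    rw [hΦ, MulEquiv.trans_apply, MulAut.conj_apply, gl_mulVec_mul, gl_mulVec_mul, gl_inv_mulVec_mulVec]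
    congr 1
    show Matrix.reindex e.symm e.symm (g : Matrix (Fin a × Fin b) (Fin a × Fin b) F) *ᵥ (z ∘ e) = _
    funext i
    simp only [Matrix.mulVec, dotProduct, Matrix.reindex_apply, Matrix.submatrix_apply, Equiv.symm_symm,
      Function.comp]
    exact Equiv.sum_comp e fun k => (g : Matrix (Fin a × Fin b) (Fin a × Fin b) F) (e i) k * z k
  have hsurj : ∀ x : ι → F, ∃ z, (P : Matrix ι ι F) *ᵥ (z ∘ e) = x := fun x =>
    ⟨(((P⁻¹ : GL ι F) : Matrix ι ι F) *ᵥ x) ∘ e.symm, by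
      rw [Function.comp_assoc, Equiv.symm_comp_self, Function.comp_id, gl_mulVec_inv_mulVec]⟩
  have hiso : ∀ g, Φ g ∈ Cfsg.isometryGroup F ⇑q ↔ g ∈ Cfsg.isometryGroup F ⇑S.Q := fun g => by
    constructor
    · intro h z _
      show S.Q (g •ᵥ z) = S.Q z
      rw [hS, hS, ← hT]
      exact h _ 0
    · intro h x _
      obtain ⟨z, rfl⟩ := hsurj x
      show q (Φ g •ᵥ _) = q _
      rw [hT, ← hS, ← hS]
      exact h z 0
  have hmapiso : (Cfsg.isometryGroup F ⇑S.Q).map Φ.toMonoidHom = Cfsg.isometryGroup F ⇑q := by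
    refine le_antisymm ?_ fun y hy => ?_
    · rintro _ ⟨g, hg, rfl⟩
      exact (hiso g).2 hg
    · exact ⟨Φ.symm y, (hiso _).1 (by rwa [Φ.apply_symm_apply]), Φ.apply_symm_apply y⟩
  have hom : omegaGL ⇑q = (omegaGL ⇑S.Q).map Φ.toMonoidHom := by
    rw [omegaGL_eq, omegaGL_eq, Subgroup.map_commutator, hmapiso]
  refine isMaximalIn_of inf_le_right ?_ ?_
  · obtain ⟨g, hg, hgH⟩ := S.exists_not_inH
    exact ⟨Φ g, by rw [hom]; exact Subgroup.mem_map_of_mem _ hg, fun h => hgH ((TensorSL.inH_iff e P).1 h.1)⟩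
  intro M hHM hMK g hgM hgH
  have H : Hyp S (M.comap Φ.toMonoidHom) := by
    refine ⟨fun k hk => ?_, fun k hk hk' => hHM ⟨(TensorSL.inH_iff e P).2 hk, ?_⟩⟩
    · have h := hMK hk
      rw [hom] at h
      obtain ⟨k', hk', he⟩ := h
      rwa [← Φ.injective he]
    · show Φ k ∈ omegaGL ⇑q
      rw [hom]
      exact Subgroup.mem_map_of_mem _ hk'
  by_cases hN : NoRoot S (M.comap Φ.toMonoidHom)
  · exfalso
    have hin := inH_of_mem H (onlyScalar H hN hex) hgap hpar hex (Φ.symm g)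
      (show Φ (Φ.symm g) ∈ M by rw [Φ.apply_symm_apply]; exact hgM)
    have hgT := (TensorSL.inH_iff e P).2 hin
    rw [Φ.apply_symm_apply] at hgT
    exact hgH ⟨hgT, hMK hgM⟩
  · simp only [NoRoot, not_forall] at hN
    obtain ⟨v, hv, hv0, C, hC, hC0⟩ := hN
    have hle := omega_le_of_root H hplane hv hv0 hC hC0
    intro y hy
    rw [hom] at hy
    obtain ⟨k, hk, rfl⟩ := hy
    exact hle hk

/-- Stabilisers of tensor products of two symmetric forms are maximal in `Ω`. -/
theorem tensor_maximal (q : QuadraticForm F (ι → F)) (hq : NDPolar q) (h2 : (2 : F) ≠ 0)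
    (e : ι ≃ Fin a × Fin b) (P : GL ι F)
    {f₁ : (Fin a → F) → (Fin a → F) → F} {f₂ : (Fin b → F) → (Fin b → F) → F}
    (hf₁ : IsSymmetricForm f₁) (hf₂ : IsSymmetricForm f₂)
    (hT : IsTensorFormStructure id (QuadraticMap.polar q) f₁ f₂ e P)
    (ha : 3 ≤ a) (hb : 5 ≤ b) (hgap : a + 2 ≤ b) (hpar : b = a + 2 → Odd a)
    (hex : 4 ≤ a ∨ ∃ t : F, t ≠ 0 ∧ t * t ≠ 1)
    (hplane : ∀ u r : Fin a → F, f₁ u u = 0 → f₁ r r = 0 → f₁ u r = 0 → u ≠ 0 →
      (∀ c : F, c • u ≠ r) → 5 ≤ a) :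
    IsMaximalIn (omegaGL ⇑q) (tensorProductSubgroup a b e P ⊓ omegaGL ⇑q) := by
  obtain ⟨c, hc, hT⟩ := hT
  obtain ⟨Q1, hnd1, hQ1, hpol1⟩ := exists_quad hf₁ h2 hc
  obtain ⟨Q2, hnd2, -, hpol2⟩ := exists_quad hf₂ h2 (one_ne_zero (α := F))
  let T : (Fin a × Fin b → F) →ₗ[F] (ι → F) :=
    Matrix.toLin' (P : Matrix ι ι F) ∘ₗ LinearMap.funLeft F F e
  have hTz : ∀ z, T z = (P : Matrix ι ι F) *ᵥ (z ∘ e) := fun z => by
    simp [T, Matrix.toLin'_apply, LinearMap.funLeft]
  have hsurj : Function.Surjective T := fun x => ⟨(((P⁻¹ : GL ι F) : Matrix ι ι F) *ᵥ x) ∘ e.symm, by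
    rw [hTz, Function.comp_assoc, Equiv.symm_comp_self, Function.comp_id, gl_mulVec_inv_mulVec]⟩
  have hinj : Function.Injective T := fun x y h => by
    rw [hTz, hTz] at h
    exact e.surjective.injective_comp_right (gl_mulVec_injective P h)
  have hpol : ∀ z z', polar (q.comp T) z z' = polar q (T z) (T z') := fun z z' => by
    simp [QuadraticMap.polar]
  let S : Space F a b :=
    { Q1 := Q1
      Q2 := Q2
      Q := q.comp T
      nd1 := hnd1
      nd2 := hnd2
      nd := fun z hz => hinj (by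
        rw [map_zero]
        refine hq _ fun w => ?_
        obtain ⟨w', rfl⟩ := hsurj w
        rw [← hpol]; exact hz w')
      two := h2
      ha := ha
      hb := by omega
      small := fun h => absurd h (by omega)
      lt := by omega
      polar_pt := fun x x' y y' => by
        rw [hpol, hTz, hTz, hT, hpol1, hpol2, one_mul, mul_assoc]
        congr 1
        rw [form_eq_gram hf₁.bilinear, form_eq_gram hf₂.bilinear, formOfGram]
        simp only [Fintype.sum_prod_type, pt, id_eq, kroneckerMap_apply, Finset.sum_mul_sum]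
        refine Finset.sum_congr rfl fun i _ => Finset.sum_congr rfl fun j _ =>
          Finset.sum_congr rfl fun k _ => Finset.sum_congr rfl fun l _ => ?_
        ring }
  refine tensor_maximal_aux q e P S (fun z => by simp [S, hTz]) hgap hpar hex fun u r hu hr hur hu0 hind => ?_
  have hz : ∀ x, S.Q1 x = 0 → f₁ x x = 0 := fun x hx => by
    have := (hQ1 x).symm.trans hx
    exact (mul_eq_zero.1 this).resolve_left (mul_ne_zero hc (inv_ne_zero h2))
  exact hplane u r (hz u hu) (hz r hr) ((mul_eq_zero.1 ((hpol1 u r).symm.trans hur)).resolve_left hc) hu0 hind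

end CfsgLib.ClassicalMax.OTens
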