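/-
Maximality of tensor product stabilisers in `Ω` without a gap between the dimensions.
-/
import Cfsg.Agent.Lib.ClassicalMax.OrthTensorMax.Max
import Cfsg.Agent.Lib.ClassicalMax.OrthTensorMax.Avg
import Cfsg.Agent.Lib.ClassicalMax.OrthEven
set_option autoImplicit false
set_option linter.unusedSectionVars false
set_option linter.unusedVariables false
set_option linter.unusedSimpArgs false

namespace CfsgLib.ClassicalMax.OTens

open Matrix Kronecker Cfsg.Geo QuadraticMap Module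
open CfsgLib.Classical.Quad (NDPolar Orth siegel siegelGroup)
open CfsgLib.ClassicalMax.Kron

variable {F : Type*} [Field F] [Fintype F] [DecidableEq F] {ι : Type} [Fintype ι] [DecidableEq ι] {a b : ℕ}

local notation:70 g:71 " •ᵥ " z:70 => Matrix.mulVec (Units.val g) z

/-- Stabilisers of tensor products of two quadratic spaces are maximal in `Ω`, for any unequal dimensions. -/
theorem tensor_maximal_aux' (q : QuadraticForm F (ι → F)) (e : ι ≃ Fin a × Fin b) (P : GL ι F)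
    (S : Space F a b) (hS : ∀ z, S.Q z = q ((P : Matrix ι ι F) *ᵥ (z ∘ e)))
    (hex : 4 ≤ a ∨ ∃ t : F, t ≠ 0 ∧ t * t ≠ 1)
    (hplane : ∀ u r : Fin a → F, S.Q1 u = 0 → S.Q1 r = 0 → polar S.Q1 u r = 0 → u ≠ 0 →
      (∀ c : F, c • u ≠ r) → 5 ≤ a) :
    IsMaximalIn (omegaGL ⇑q) (tensorProductSubgroup a b e P ⊓ omegaGL ⇑q) := by
  set Φ : GL (Fin a × Fin b) F ≃* GL ι F := (glReindex e.symm).trans (MulAut.conj P) with hΦ
  have hT : ∀ (g : GL (Fin a × Fin b) F) z, (Φ g) •ᵥ ((P : Matrix ι ι F) *ᵥ (z ∘ e)) =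
      (P : Matrix ι ι F) *ᵥ ((g •ᵥ z) ∘ e) := fun g z => by
    rw [hΦ, MulEquiv.trans_apply, MulAut.conj_apply, gl_mulVec_mul, gl_mulVec_mul, gl_inv_mulVec_mulVec]
    congr 1
    show Matrix.reindex e.symm e.symm (g : Matrix (Fin a × Fin b) (Fin a × Fin b) F) *ᵥ (z ∘ e) = _
    funext i
    simp only [Matrix.mulVec, dotProduct, Matrix.reindex_apply, Matrix.submatrix_apply, Equiv.symm_symm,
      Function.comp]
    exact Equiv.sum_comp e fun k => (g : Matrix (Fin a × Fin b) (Fin a × Fin b) F) (e i) k * z k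
  have hsurj : ∀ x : ι → F, ∃ z, (P : Matrix ι ι F) *ᵥ (z ∘ e) = x := fun x =>
    ⟨(((P⁻¹ : GL ι F) : Matrix ι ι F) *ᵥ x) ∘ e.symm, by
      rw [Function.comp_assoc, Equiv.symm_comp_self, Function.comp_id, gl_mulVec_inv_mulVec]⟩
  have hiso : ∀ g, Φ g ∈ Cfsg.isometryGroup F ⇑q ↔ g ∈ Cfsg.isometryGroup F ⇑S.Q := fun g => by
    constructor
    · intro h z _
      show S.Q (g •ᵥ z) = S.Q z
      rw [hS, hS, ← hT]
      exact h _ 0
    · intro h x _
      obtain ⟨z, rfl⟩ := hsurj x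
      show q (Φ g •ᵥ _) = q _
      rw [hT, ← hS, ← hS]
      exact h z 0
  have hmapiso : (Cfsg.isometryGroup F ⇑S.Q).map Φ.toMonoidHom = Cfsg.isometryGroup F ⇑q := by
    refine le_antisymm ?_ fun y hy => ?_
    · rintro _ ⟨g, hg, rfl⟩
      exact (hiso g).2 hg
    · exact ⟨Φ.symm y, (hiso _).1 (by rwa [Φ.apply_symm_apply]), Φ.apply_symm_apply y⟩
  have hom : omegaGL ⇑q = (omegaGL ⇑S.Q).map Φ.toMonoidHom := by
    rw [omegaGL_eq, omegaGL_eq, Subgroup.map_commutator, hmapiso]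
  refine isMaximalIn_of inf_le_right ?_ ?_
  · obtain ⟨g, hg, hgH⟩ := S.exists_not_inH
    exact ⟨Φ g, by rw [hom]; exact Subgroup.mem_map_of_mem _ hg, fun h => hgH ((TensorSL.inH_iff e P).1 h.1)⟩
  intro M hHM hMK g hgM hgH
  have H : Hyp S (M.comap Φ.toMonoidHom) := by
    refine ⟨fun k hk => ?_, fun k hk hk' => hHM ⟨(TensorSL.inH_iff e P).2 hk, ?_⟩⟩
    · have h := hMK hk
      rw [hom] at h
      obtain ⟨k', hk', he⟩ := h
      rwa [← Φ.injective he]
    · show Φ k ∈ omegaGL ⇑q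
      rw [hom]
      exact Subgroup.mem_map_of_mem _ hk'
  by_cases hN : NoRoot S (M.comap Φ.toMonoidHom)
  · exfalso
    have hin := inH_of_mem' H (onlyScalar H hN hex) (Φ.symm g)
      (show Φ (Φ.symm g) ∈ M by rw [Φ.apply_symm_apply]; exact hgM)
    have hgT := (TensorSL.inH_iff e P).2 hin
    rw [Φ.apply_symm_apply] at hgT
    exact hgH ⟨hgT, hMK hgM⟩
  · simp only [NoRoot, not_forall] at hN
    obtain ⟨v, hv, hv0, C, hC, hC0⟩ := hN
    have hle := omega_le_of_root H hplane hv hv0 hC hC0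
    intro y hy
    rw [hom] at hy
    obtain ⟨k, hk, rfl⟩ := hy
    exact hle hk

/-- Stabilisers of tensor products of two symmetric forms are maximal in `Ω`, the second
space of dimension at least four, and without singular planes in dimension four. -/
theorem tensor_maximal_small (q : QuadraticForm F (ι → F)) (hq : NDPolar q) (h2 : (2 : F) ≠ 0)
    (e : ι ≃ Fin a × Fin b) (P : GL ι F)
    {f₁ : (Fin a → F) → (Fin a → F) → F} {f₂ : (Fin b → F) → (Fin b → F) → F}
    (hf₁ : IsSymmetricForm f₁) (hf₂ : IsSymmetricForm f₂)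
    (hT : IsTensorFormStructure id (QuadraticMap.polar q) f₁ f₂ e P)
    (ha : 3 ≤ a) (hb : 4 ≤ b) (hlt : a < b)
    (hsmall : b = 4 → 5 ≤ Fintype.card F ∧
      ∀ v w, f₂ v v = 0 → f₂ w w = 0 → f₂ v w = 0 → v ≠ 0 → ∃ c : F, c • v = w)
    (hex : 4 ≤ a ∨ ∃ t : F, t ≠ 0 ∧ t * t ≠ 1)
    (hplane : ∀ u r : Fin a → F, f₁ u u = 0 → f₁ r r = 0 → f₁ u r = 0 → u ≠ 0 →
      (∀ c : F, c • u ≠ r) → 5 ≤ a) :
    IsMaximalIn (omegaGL ⇑q) (tensorProductSubgroup a b e P ⊓ omegaGL ⇑q) := by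
  obtain ⟨c, hc, hT⟩ := hT
  obtain ⟨Q1, hnd1, hQ1, hpol1⟩ := exists_quad hf₁ h2 hc
  obtain ⟨Q2, hnd2, hQ2, hpol2⟩ := exists_quad hf₂ h2 (one_ne_zero (α := F))
  let T : (Fin a × Fin b → F) →ₗ[F] (ι → F) :=
    Matrix.toLin' (P : Matrix ι ι F) ∘ₗ LinearMap.funLeft F F e
  have hTz : ∀ z, T z = (P : Matrix ι ι F) *ᵥ (z ∘ e) := fun z => by
    simp [T, Matrix.toLin'_apply, LinearMap.funLeft]
  have hsurj : Function.Surjective T := fun x => ⟨(((P⁻¹ : GL ι F) : Matrix ι ι F) *ᵥ x) ∘ e.symm, by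
    rw [hTz, Function.comp_assoc, Equiv.symm_comp_self, Function.comp_id, gl_mulVec_inv_mulVec]⟩
  have hinj : Function.Injective T := fun x y h => by
    rw [hTz, hTz] at h
    exact e.surjective.injective_comp_right (gl_mulVec_injective P h)
  have hpol : ∀ z z', polar (q.comp T) z z' = polar q (T z) (T z') := fun z z' => by
    simp [QuadraticMap.polar]
  let S : Space F a b :=
    { Q1 := Q1
      Q2 := Q2
      Q := q.comp T
      nd1 := hnd1
      nd2 := hnd2
      nd := fun z hz => hinj (by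
        rw [map_zero]
        refine hq _ fun w => ?_
        obtain ⟨w', rfl⟩ := hsurj w
        rw [← hpol]; exact hz w')
      two := h2
      ha := ha
      hb := hb
      small := fun hb4 => ⟨by rw [Nat.card_eq_fintype_card]; exact (hsmall hb4).1,
        fun v w hv hw hvw => (hsmall hb4).2 v w (by simpa [h2] using (hQ2 v).symm.trans hv)
          (by simpa [h2] using (hQ2 w).symm.trans hw) (by simpa using (hpol2 v w).symm.trans hvw)⟩
      lt := hlt
      polar_pt := fun x x' y y' => by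
        rw [hpol, hTz, hTz, hT, hpol1, hpol2, one_mul, mul_assoc]
        congr 1
        rw [form_eq_gram hf₁.bilinear, form_eq_gram hf₂.bilinear, formOfGram]
        simp only [Fintype.sum_prod_type, pt, id_eq, kroneckerMap_apply, Finset.sum_mul_sum]
        refine Finset.sum_congr rfl fun i _ => Finset.sum_congr rfl fun j _ =>
          Finset.sum_congr rfl fun k _ => Finset.sum_congr rfl fun l _ => ?_
        ring }
  refine tensor_maximal_aux' q e P S (fun z => by simp [S, hTz]) hex fun u r hu hr hur hu0 hind => ?_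
  have hz : ∀ x, S.Q1 x = 0 → f₁ x x = 0 := fun x hx => by
    have := (hQ1 x).symm.trans hx
    exact (mul_eq_zero.1 this).resolve_left (mul_ne_zero hc (inv_ne_zero h2))
  exact hplane u r (hz u hu) (hz r hr) ((mul_eq_zero.1 ((hpol1 u r).symm.trans hur)).resolve_left hc) hu0 hind

/-- Stabilisers of tensor products of two symmetric forms are maximal in `Ω`, for any unequal dimensions. -/
theorem tensor_maximal' (q : QuadraticForm F (ι → F)) (hq : NDPolar q) (h2 : (2 : F) ≠ 0)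
    (e : ι ≃ Fin a × Fin b) (P : GL ι F)
    {f₁ : (Fin a → F) → (Fin a → F) → F} {f₂ : (Fin b → F) → (Fin b → F) → F}
    (hf₁ : IsSymmetricForm f₁) (hf₂ : IsSymmetricForm f₂)
    (hT : IsTensorFormStructure id (QuadraticMap.polar q) f₁ f₂ e P)
    (ha : 3 ≤ a) (hb : 5 ≤ b) (hlt : a < b)
    (hex : 4 ≤ a ∨ ∃ t : F, t ≠ 0 ∧ t * t ≠ 1)
    (hplane : ∀ u r : Fin a → F, f₁ u u = 0 → f₁ r r = 0 → f₁ u r = 0 → u ≠ 0 →
      (∀ c : F, c • u ≠ r) → 5 ≤ a) :
    IsMaximalIn (omegaGL ⇑q) (tensorProductSubgroup a b e P ⊓ omegaGL ⇑q) :=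
  tensor_maximal_small q hq h2 e P hf₁ hf₂ hT ha (by omega) hlt (fun h => absurd h (by omega)) hex hplane

/-! ### Exchanging the factors -/

omit [Fintype F] [DecidableEq F] in
lemma glReindex_swap (e : ι ≃ Fin a × Fin b) (A : GL (Fin a) F) (B : GL (Fin b) F) :
    glReindex (F := F) (e.trans (Equiv.prodComm _ _)).symm (kronGL B A) = glReindex e.symm (kronGL A B) :=
  Units.ext (Matrix.ext fun i j => mul_comm _ _)

omit [Fintype F] [DecidableEq F] in
lemma tensorProductSubgroup_swap (e : ι ≃ Fin a × Fin b) (P : GL ι F) :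
    tensorProductSubgroup b a (e.trans (Equiv.prodComm _ _)) P = tensorProductSubgroup a b e P := by
  refine le_antisymm ?_ ?_
  · rintro _ ⟨_, ⟨k, ⟨B, A, hk⟩, rfl⟩, rfl⟩
    refine ⟨_, ⟨kronGL A B, ⟨A, B, rfl⟩, rfl⟩, ?_⟩
    rw [show k = kronGL B A from Units.ext hk]
    simp only [MulEquiv.coe_toMonoidHom, glReindex_swap]
  · rintro _ ⟨_, ⟨k, ⟨A, B, hk⟩, rfl⟩, rfl⟩
    refine ⟨_, ⟨kronGL B A, ⟨B, A, rfl⟩, rfl⟩, ?_⟩
    rw [show k = kronGL A B from Units.ext hk]
    simp only [MulEquiv.coe_toMonoidHom, glReindex_swap]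

omit [Fintype F] [DecidableEq F] in
lemma isTensorFormStructure_swap {f : (ι → F) → (ι → F) → F} {f₁ : (Fin a → F) → (Fin a → F) → F}
    {f₂ : (Fin b → F) → (Fin b → F) → F} {e : ι ≃ Fin a × Fin b} {P : GL ι F}
    (hT : IsTensorFormStructure id f f₁ f₂ e P) :
    IsTensorFormStructure id f f₂ f₁ (e.trans (Equiv.prodComm _ _)) P := by
  obtain ⟨c, hc, hT⟩ := hT
  refine ⟨c, hc, fun x y => ?_⟩
  have h := hT (x ∘ Prod.swap) (y ∘ Prod.swap)
  refine h.trans (congrArg (c * ·) ?_)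
  refine Fintype.sum_equiv (Equiv.prodComm _ _) _ _ fun p => ?_
  refine Fintype.sum_equiv (Equiv.prodComm _ _) _ _ fun q => ?_
  simp [kroneckerMap_apply, mul_comm (gramMatrix f₁ p.1 q.1)]

/-- A totally isotropic plane in dimension four gives plus type. -/
lemma isPlusTypeOn_of_plane {f : (Fin a → F) → (Fin a → F) → F} (hf : IsSymmetricForm f) (ha : a = 4)
    {u r : Fin a → F} (hu : f u u = 0) (hr : f r r = 0) (hur : f u r = 0) (hu0 : u ≠ 0)
    (hind : ∀ c : F, c • u ≠ r) : IsPlusTypeOn (fun v => f v v) ⊤ := by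
  refine ⟨Submodule.span F {u, r}, le_top, fun x hx => ?_, ?_⟩
  · obtain ⟨s, t, rfl⟩ := Submodule.mem_span_pair.1 hx
    simp [hf.bilinear.add_left, hf.bilinear.add_right, hf.bilinear.smul_left, hf.bilinear.smul_right, hu, hr,
      hur, hf.symm r u]
  · rw [show Submodule.span F {u, r} = Submodule.span F {u} ⊔ Submodule.span F {r} from Submodule.span_insert u {r},
      Submodule.finrank_sup_span_singleton fun hm => ?_, finrank_span_singleton hu0, finrank_top, finrank_fin_fun, ha]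
    obtain ⟨c, hc⟩ := Submodule.mem_span_singleton.1 hm
    exact hind c hc

end CfsgLib.ClassicalMax.OTens
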